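/-
Integer matrices with Gram matrix `e J + I` (namespace `Cfsg.Agent.CyclicDefect`).

Main result: `gram_structure` (with at least `e + t` nonzero rows there are exactly `e` constant rows
`± 1` and `t` rows with a single nonzero entry `± 1`, one for each column).
-/
import Cfsg.Agent.EqLemmas

set_option autoImplicit false
set_option linter.unusedSectionVars false

namespace Cfsg.Agent.CyclicDefect

/-- A nonconstant integer vector of length `t` has `t Σ v² - (Σ v)² ≥ t - 1`. -/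
theorem spread_le {Q : Type*} [Fintype Q] [DecidableEq Q] (v : Q → ℤ) {c₀ c₁ : Q} (h : v c₀ ≠ v c₁) :
    (Fintype.card Q : ℤ) - 1 ≤ (Fintype.card Q : ℤ) * ∑ c, v c ^ 2 - (∑ c, v c) ^ 2 := by
  let g : Q → Q → ℤ := fun c c' => (v c - v c') ^ 2
  have hg : ∑ c, ∑ c', g c c' = 2 * ((Fintype.card Q : ℤ) * ∑ c, v c ^ 2 - (∑ c, v c) ^ 2) := by
    simp only [g, sub_sq, Finset.sum_add_distrib, Finset.sum_sub_distrib, Finset.sum_const,
      Finset.card_univ, nsmul_eq_mul, mul_assoc, ← Finset.mul_sum, ← Finset.sum_mul]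
    ring
  have hpos : ∀ c c', 0 ≤ g c c' := fun c c' => sq_nonneg _
  have hne : c₀ ≠ c₁ := fun e => h (by rw [e])
  have hone : ∀ c, 1 ≤ g c₀ c + g c₁ c := by
    intro c
    by_cases hc : v c₀ = v c
    · have : v c₁ ≠ v c := fun e => h (hc.trans e.symm)
      have := pow_pos (abs_pos.mpr (sub_ne_zero.mpr this)) 2
      rw [sq_abs] at this
      have h0 := hpos c₀ c
      simp only [g] at h0 ⊢
      omega
    · have := pow_pos (abs_pos.mpr (sub_ne_zero.mpr hc)) 2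
      rw [sq_abs] at this
      have h0 := hpos c₁ c
      simp only [g] at h0 ⊢
      omega
  have hrow : ∀ c, 1 ≤ ∑ c', g c c' := by
    intro c
    have hsym : ∀ a b, g a b = g b a := fun a b => by simp only [g]; ring
    have h1 := hone c
    rw [hsym c₀ c, hsym c₁ c] at h1
    calc (1 : ℤ) ≤ g c c₀ + g c c₁ := h1
      _ = ∑ c' ∈ ({c₀, c₁} : Finset Q), g c c' := by rw [Finset.sum_pair hne]
      _ ≤ _ := Finset.sum_le_sum_of_subset_of_nonneg (Finset.subset_univ _) fun a _ _ => hpos c a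
  have hsum : 2 * ((Fintype.card Q : ℤ) - 1) ≤ ∑ c, ∑ c', g c c' := by
    rw [← Finset.sum_sdiff (Finset.subset_univ ({c₀, c₁} : Finset Q)), Finset.sum_pair hne,
      ← Finset.sum_add_distrib]
    have h1 : ((Finset.univ \ ({c₀, c₁} : Finset Q)).card : ℤ) ≤
        ∑ c ∈ Finset.univ \ ({c₀, c₁} : Finset Q), ∑ c', g c c' := by
      rw [Finset.cast_card]
      exact Finset.sum_le_sum fun c _ => hrow c
    have h2 : (Fintype.card Q : ℤ) ≤ ∑ c', (g c₀ c' + g c₁ c') := by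
      rw [← Finset.card_univ, Finset.cast_card]
      exact Finset.sum_le_sum fun c _ => hone c
    have h3 : (Finset.univ \ ({c₀, c₁} : Finset Q)).card + 2 = Fintype.card Q := by
      rw [← Finset.card_pair hne, Finset.card_sdiff_add_card_eq_card (Finset.subset_univ _), Finset.card_univ]
    omega
  omega

/-- The structure of a matrix with Gram matrix `e J + I`. -/
theorem gram_structure {B Q : Type*} [Fintype B] [Fintype Q] [DecidableEq Q] [Nonempty Q]
    (b : B → Q → ℤ) (e : ℕ) (he : 1 ≤ e)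
    (hgram : ∀ c c', ∑ χ, b χ c * b χ c' = (e : ℤ) + if c = c' then 1 else 0)
    (hrow : ∀ χ, ∃ c, b χ c ≠ 0) (hcard : e + Fintype.card Q ≤ Fintype.card B) :
    Fintype.card B = e + Fintype.card Q ∧ ∃ exc : Q → B, Function.Injective exc ∧
      (∀ c, ∃ s : ℤ, (s = 1 ∨ s = -1) ∧ ∀ c', b (exc c) c' = if c' = c then s else 0) ∧
      ∀ χ, (∀ c, exc c ≠ χ) → ∃ s : ℤ, (s = 1 ∨ s = -1) ∧ ∀ c, b χ c = s := by
  classical
  set t := Fintype.card Q with ht
  have ht0 : 0 < t := Fintype.card_pos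
  let S : B → ℤ := fun χ => ∑ c, b χ c
  let R : B → ℤ := fun χ => ∑ c, b χ c ^ 2
  have hR : ∑ χ, R χ = (t : ℤ) * (e + 1) := by
    simp only [R]
    rw [Finset.sum_comm, Finset.sum_congr rfl fun c _ => show ∑ χ, b χ c ^ 2 = (e : ℤ) + 1 by
      simp only [pow_two, hgram c c, if_true]]
    simp [ht]
  have hSS : ∑ χ, S χ ^ 2 = (e : ℤ) * t ^ 2 + t := by
    simp only [S, pow_two, Finset.sum_mul_sum]
    rw [Finset.sum_comm, Finset.sum_congr rfl fun c _ => Finset.sum_comm,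
      Finset.sum_congr rfl fun c _ => Finset.sum_congr rfl fun c' _ => hgram c c']
    simp [Finset.sum_add_distrib, ht]
    ring
  have hR1 : ∀ χ, 1 ≤ R χ := by
    intro χ
    obtain ⟨c, hc⟩ := hrow χ
    have := pow_pos (abs_pos.mpr hc) 2
    rw [sq_abs] at this
    refine le_trans ?_ (Finset.single_le_sum (fun c _ => sq_nonneg (b χ c)) (Finset.mem_univ c))
    omega
  by_cases ht1 : t = 1
  · obtain ⟨c, hc⟩ := Fintype.card_eq_one_iff.mp ht1
    have hRc : ∀ χ, R χ = b χ c ^ 2 := fun χ => by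
      simp only [R]
      rw [Finset.sum_eq_single c (fun a _ ha => absurd (hc a) ha) (fun h => absurd (Finset.mem_univ _) h)]
    have hle : (Fintype.card B : ℤ) ≤ e + 1 := by
      rw [ht1, Nat.cast_one, one_mul] at hR
      rw [← hR, ← Finset.card_univ, Finset.cast_card]
      exact Finset.sum_le_sum fun χ _ => hR1 χ
    have hall : ∀ χ, R χ = 1 := fun χ => by
      have := (Finset.sum_eq_sum_iff_of_le fun χ (_ : χ ∈ Finset.univ) => hR1 χ).mp (by
        rw [hR, ← Finset.cast_card, Finset.card_univ, ht1]; push_cast; omega) χ (Finset.mem_univ _)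
      exact this.symm
    have hpm : ∀ χ, b χ c = 1 ∨ b χ c = -1 := fun χ => sq_eq_one_iff.mp ((hRc χ).symm.trans (hall χ))
    obtain ⟨χ₀⟩ : Nonempty B := Fintype.card_pos_iff.mp (by omega)
    refine ⟨by omega, fun _ => χ₀, fun a a' _ => by rw [hc a, hc a'], fun a => ?_, fun χ _ => ?_⟩
    · exact ⟨b χ₀ c, hpm χ₀, fun a' => by rw [hc a, hc a', if_pos rfl]⟩
    · exact ⟨b χ c, hpm χ, fun a => by rw [hc a]⟩
  have ht2 : 2 ≤ t := by omega
  let A : Finset B := Finset.univ.filter fun χ => ∃ c c', b χ c ≠ b χ c'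
  let D : B → ℤ := fun χ => (t : ℤ) * R χ - S χ ^ 2
  have hcst : ∀ χ ∉ A, ∃ a, a ≠ 0 ∧ ∀ c, b χ c = a := by
    intro χ hχ
    obtain ⟨c₀, hc₀⟩ := hrow χ
    simp only [A, Finset.mem_filter, Finset.mem_univ, true_and, not_exists, not_not] at hχ
    exact ⟨b χ c₀, hc₀, fun c => hχ c c₀⟩
  have hSc : ∀ χ ∉ A, (t : ℤ) ^ 2 ≤ S χ ^ 2 ∧ D χ = 0 ∧
      (S χ ^ 2 = (t : ℤ) ^ 2 → ∃ s : ℤ, (s = 1 ∨ s = -1) ∧ ∀ c, b χ c = s) := by
    intro χ hχ
    obtain ⟨a, ha, hb⟩ := hcst χ hχ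
    have e1 : S χ = (t : ℤ) * a := by simp [S, hb, ht]
    have e2 : R χ = (t : ℤ) * a ^ 2 := by simp [R, hb, ht]
    refine ⟨?_, by simp only [D, e1, e2]; ring, fun h => ⟨a, ?_, hb⟩⟩
    · have := pow_pos (abs_pos.mpr ha) 2
      rw [sq_abs] at this
      rw [e1, mul_pow]
      exact le_mul_of_one_le_right (sq_nonneg _) (by omega)
    · rw [e1, mul_pow] at h
      exact sq_eq_one_iff.mp (mul_left_cancel₀ (pow_ne_zero 2 (by omega : (t : ℤ) ≠ 0))
        (h.trans (mul_one _).symm))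
  have hA : ∀ χ ∈ A, (t : ℤ) - 1 ≤ D χ := by
    intro χ hχ
    obtain ⟨c₀, c₁, h⟩ := (Finset.mem_filter.mp hχ).2
    exact spread_le (b χ) h
  have hD : ∑ χ, D χ = (t : ℤ) * ((t : ℤ) - 1) := by
    simp only [D, Finset.sum_sub_distrib, ← Finset.mul_sum, hR, hSS]
    ring
  have hsplit : ∀ f : B → ℤ, ∑ χ, f χ = ∑ χ ∈ A, f χ + ∑ χ ∈ Aᶜ, f χ := fun f =>
    (Finset.sum_add_sum_compl A f).symm
  have hcardsum : A.card + Aᶜ.card = Fintype.card B := Finset.card_add_card_compl A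
  have hAD : ∑ χ ∈ A, D χ = (t : ℤ) * ((t : ℤ) - 1) := by
    rw [← hD, hsplit D, Finset.sum_eq_zero (s := Aᶜ) fun χ hχ => (hSc χ (Finset.mem_compl.mp hχ)).2.1, add_zero]
  have hAle : A.card ≤ t := by
    have h1 : (A.card : ℤ) * ((t : ℤ) - 1) ≤ (t : ℤ) * ((t : ℤ) - 1) := by
      rw [← hAD, ← smul_eq_mul]
      have := Finset.card_nsmul_le_sum A D _ hA
      simpa using this
    have := le_of_mul_le_mul_right h1 (by omega)
    exact_mod_cast this
  have hCS : (Aᶜ.card : ℤ) * (t : ℤ) ^ 2 ≤ ∑ χ ∈ Aᶜ, S χ ^ 2 := by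
    have := Finset.card_nsmul_le_sum Aᶜ (fun χ => S χ ^ 2) _ fun χ hχ => (hSc χ (Finset.mem_compl.mp hχ)).1
    simpa using this
  have hSA0 : 0 ≤ ∑ χ ∈ A, S χ ^ 2 := Finset.sum_nonneg fun χ _ => sq_nonneg _
  have hSsplit := hsplit (fun χ => S χ ^ 2)
  rw [hSS] at hSsplit
  have htlt : (t : ℤ) < (t : ℤ) ^ 2 := by
    have : 2 * (t : ℤ) ≤ (t : ℤ) * t := mul_le_mul_of_nonneg_right (by omega) (by omega)
    rw [pow_two]; omega
  have hCle : Aᶜ.card ≤ e := by
    by_contra hlt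
    have : ((e : ℤ) + 1) * (t : ℤ) ^ 2 ≤ (Aᶜ.card : ℤ) * (t : ℤ) ^ 2 :=
      mul_le_mul_of_nonneg_right (by omega) (sq_nonneg _)
    rw [add_mul, one_mul] at this
    omega
  have hAc : A.card = t := by omega
  have hCc : Aᶜ.card = e := by omega
  have hDeq : ∀ χ ∈ A, D χ = (t : ℤ) - 1 := fun χ hχ =>
    ((Finset.sum_eq_sum_iff_of_le hA).mp (by rw [hAD, Finset.sum_const, hAc]; simp) χ hχ).symm
  have hS1 : ∀ χ ∈ A, 1 ≤ S χ ^ 2 := by
    intro χ hχ
    by_contra h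
    have h0 : S χ ^ 2 = 0 := by have := sq_nonneg (S χ); omega
    have := hDeq χ hχ
    simp only [D, h0, sub_zero] at this
    have hd : (t : ℤ) ∣ 1 := ⟨1 - R χ, by rw [mul_sub, mul_one, this]; ring⟩
    have := Int.le_of_dvd one_pos hd
    omega
  have hSA : (t : ℤ) ≤ ∑ χ ∈ A, S χ ^ 2 := by
    have := Finset.card_nsmul_le_sum A (fun χ => S χ ^ 2) _ hS1
    rw [hAc] at this
    simpa using this
  rw [hCc] at hCS
  have eC : ∑ χ ∈ Aᶜ, S χ ^ 2 = ∑ _χ ∈ Aᶜ, (t : ℤ) ^ 2 := by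
    rw [Finset.sum_const, hCc, nsmul_eq_mul]; omega
  have eA : ∑ χ ∈ A, S χ ^ 2 = ∑ _χ ∈ A, (1 : ℤ) := by
    rw [Finset.sum_const, hAc, nsmul_eq_mul, mul_one]; omega
  have hconst : ∀ χ ∉ A, ∃ s : ℤ, (s = 1 ∨ s = -1) ∧ ∀ c, b χ c = s := fun χ hχ =>
    (hSc χ hχ).2.2 ((Finset.sum_eq_sum_iff_of_le fun χ hχ => (hSc χ (Finset.mem_compl.mp hχ)).1).mp
      eC.symm χ (Finset.mem_compl.mpr hχ)).symm
  have hAR : ∀ χ ∈ A, R χ = 1 := by
    intro χ hχ
    have h1 := (Finset.sum_eq_sum_iff_of_le hS1).mp eA.symm χ hχ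
    have := hDeq χ hχ
    simp only [D, ← h1] at this
    exact mul_left_cancel₀ (by omega : (t : ℤ) ≠ 0) (by omega)
  have hsingle : ∀ χ ∈ A, ∃ c, ∃ s : ℤ, (s = 1 ∨ s = -1) ∧ ∀ c', b χ c' = if c' = c then s else 0 := by
    intro χ hχ
    obtain ⟨c, hc⟩ := hrow χ
    have h1 := hAR χ hχ
    simp only [R] at h1
    rw [← Finset.add_sum_erase _ _ (Finset.mem_univ c)] at h1
    have hp := pow_pos (abs_pos.mpr hc) 2
    rw [sq_abs] at hp
    have hnn : 0 ≤ ∑ x ∈ Finset.univ.erase c, b χ x ^ 2 := Finset.sum_nonneg fun _ _ => sq_nonneg _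
    refine ⟨c, b χ c, sq_eq_one_iff.mp (by omega), fun c' => ?_⟩
    by_cases h : c' = c
    · rw [if_pos h, h]
    · rw [if_neg h]
      exact pow_eq_zero_iff (by omega) |>.mp ((Finset.sum_eq_zero_iff_of_nonneg fun _ _ => sq_nonneg _).mp
        (show ∑ x ∈ Finset.univ.erase c, b χ x ^ 2 = 0 by omega) c' (Finset.mem_erase.mpr ⟨h, Finset.mem_univ _⟩))
  choose col s hs hb using hsingle
  have hcol : ∀ c, ∃ χ : A, col χ.1 χ.2 = c := by
    intro c
    by_contra hno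
    push Not at hno
    have h1 := hgram c c
    rw [if_pos rfl, hsplit (fun χ => b χ c * b χ c), Finset.sum_eq_zero (s := A) fun χ hχ => by
      rw [hb χ hχ c, if_neg fun h => hno ⟨χ, hχ⟩ h.symm, zero_mul], zero_add,
      Finset.sum_congr rfl (g := fun _ => (1 : ℤ)) fun χ hχ => by
        obtain ⟨a, ha, hac⟩ := hconst χ (Finset.mem_compl.mp hχ)
        rw [hac]; rcases ha with rfl | rfl <;> norm_num,
      Finset.sum_const, hCc, nsmul_eq_mul, mul_one] at h1
    omega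
  choose exc hexc using hcol
  have hinj : Function.Injective exc := fun c c' h => by rw [← hexc c, ← hexc c', h]
  have hbij : Function.Bijective exc := (Fintype.bijective_iff_injective_and_card exc).mpr
    ⟨hinj, by rw [Fintype.card_coe, hAc]⟩
  refine ⟨by omega, fun c => (exc c).1, Subtype.val_injective.comp hinj, fun c => ?_, fun χ hχ => ?_⟩
  · refine ⟨s _ (exc c).2, hs _ _, fun c' => ?_⟩
    rw [hb _ (exc c).2 c', hexc c]
  · refine hconst χ fun hmem => ?_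
    obtain ⟨c, hc⟩ := hbij.surjective ⟨χ, hmem⟩
    exact hχ c (congrArg Subtype.val hc)

end Cfsg.Agent.CyclicDefect
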