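/-
Groups whose order is divisible by `p` exactly once: the local data (namespace `Cfsg.Agent.CyclicDefect`).

Main results: `Setting` (an element `x` of order `p` and a complement `L` of `⟨x⟩` in its normalizer),
`exists_setting`, `K` (the regular elements of `C(x)`), `decomp`, `pw`, `alpha` (the action of `L` on
`⟨x⟩` as units of `ZMod p`), `U`, `fusion` (control of fusion in `C(x)` by `L`).
-/
import Cfsg.Agent.Lib.Blocks.Induced
import Cfsg.Agent.Lib.CharApp.Clifford

set_option autoImplicit false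
set_option linter.unusedSectionVars false
set_option linter.style.haveILetI false

namespace Cfsg.Agent.CyclicDefect

open Cfsg

variable {G : Type*} [Group G]

/-- The powers of `x` indexed by `ZMod p`. -/
def pw {p : ℕ} (x : G) (i : ZMod p) : G := x ^ i.val

/-- An element of order `p`, `p` exactly dividing `|G|`, and a complement in its normalizer. -/
structure Setting (p : ℕ) (x : G) (L : Subgroup G) : Prop where
  hp : p.Prime
  hx : orderOf x = p
  hsq : ¬ p ^ 2 ∣ Nat.card G
  hL : L ≤ Subgroup.normalizer (Subgroup.zpowers x : Set G)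
  hcop : ¬ p ∣ Nat.card L
  hgen : ∀ n ∈ Subgroup.normalizer (Subgroup.zpowers x : Set G),
    ∃ u ∈ Subgroup.zpowers x, ∃ l ∈ L, n = u * l

/-- The regular elements of `C(x)`, inside the complement. -/
abbrev K (x : G) (L : Subgroup G) : Subgroup L :=
  (Subgroup.centralizer ({x} : Set G)).subgroupOf L

theorem mem_K {x : G} {L : Subgroup G} {l : L} : l ∈ K x L ↔ Commute x (l : G) := by
  rw [Subgroup.mem_subgroupOf, Subgroup.mem_centralizer_singleton_iff]
  exact ⟨fun h => h.symm, fun h => h.symm⟩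

/-- Existence of the complement. -/
theorem exists_setting [Finite G] {p : ℕ} (hp : p.Prime) {x : G} (hx : orderOf x = p)
    (hsq : ¬ p ^ 2 ∣ Nat.card G) : ∃ L, Setting p x L := by
  classical
  set N := Subgroup.normalizer (Subgroup.zpowers x : Set G) with hN
  let P' := (Subgroup.zpowers x).subgroupOf N
  have hcardP : Nat.card P' = p := by
    rw [Nat.card_congr (Subgroup.subgroupOfEquivOfLe Subgroup.le_normalizer).toEquiv, Nat.card_zpowers, hx]
  haveI : P'.Normal := Subgroup.normal_in_normalizer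
  have hidx : ¬ p ∣ P'.index := fun h => hsq (by
    rw [pow_two]
    refine dvd_trans ?_ (Subgroup.card_subgroup_dvd_card N)
    rw [← P'.card_mul_index, hcardP]
    exact Nat.mul_dvd_mul_left p h)
  have hco : Nat.Coprime (Nat.card P') P'.index := by
    rw [hcardP]; exact hp.coprime_iff_not_dvd.mpr hidx
  obtain ⟨L', hL'⟩ := Subgroup.exists_right_complement'_of_coprime hco
  refine ⟨L'.map N.subtype, hp, hx, hsq, Subgroup.map_subtype_le _, ?_, fun n hn => ?_⟩
  · rw [Subgroup.card_map_of_injective Subtype.val_injective]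
    have h := hL'.card_mul_card
    rw [hcardP, ← P'.card_mul_index, hcardP] at h
    rw [Nat.eq_of_mul_eq_mul_left hp.pos h]
    exact hidx
  · obtain ⟨⟨u, l⟩, hul⟩ := hL'.2 (⟨n, hn⟩ : N)
    exact ⟨(u : N), Subgroup.mem_subgroupOf.mp u.2, (l : N), Subgroup.mem_map_of_mem _ l.2,
      (congrArg Subtype.val hul).symm⟩

section
variable [Finite G] {p : ℕ} {x : G} {L : Subgroup G} (hS : Setting p x L)
include hS

theorem Setting.fact : Fact p.Prime := ⟨hS.hp⟩

theorem Setting.pow_eq_one : x ^ p = 1 := by rw [← hS.hx, pow_orderOf_eq_one]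

theorem Setting.pw_natCast (n : ℕ) : pw x (n : ZMod p) = x ^ n := by
  haveI := hS.fact
  rw [pw, ZMod.val_natCast, ← hS.hx, pow_mod_orderOf]

theorem Setting.pw_zero : pw (p := p) x 0 = 1 := by
  haveI := hS.fact
  rw [pw, ZMod.val_zero, pow_zero]

theorem Setting.pw_one : pw (p := p) x 1 = x := by
  rw [← Nat.cast_one, hS.pw_natCast, pow_one]

theorem Setting.pw_add (i j : ZMod p) : pw x (i + j) = pw x i * pw x j := by
  haveI := hS.fact
  conv_lhs => rw [← ZMod.natCast_rightInverse i, ← ZMod.natCast_rightInverse j, ← Nat.cast_add]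
  rw [hS.pw_natCast, pow_add]
  rfl

theorem Setting.pw_pow (i : ZMod p) (n : ℕ) : pw x i ^ n = pw x ((n : ZMod p) * i) := by
  haveI := hS.fact
  conv_rhs => rw [← ZMod.natCast_rightInverse i, ← Nat.cast_mul, hS.pw_natCast, mul_comm, pow_mul]
  rfl

theorem Setting.commute_pw (i : ZMod p) {g : G} (h : Commute x g) : Commute (pw x i) g :=
  h.pow_left _

theorem Setting.pw_mem (i : ZMod p) : pw x i ∈ Subgroup.zpowers x :=
  Subgroup.npow_mem_zpowers x _

theorem Setting.exists_pw {u : G} (hu : u ∈ Subgroup.zpowers x) : ∃ i : ZMod p, u = pw x i := by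
  haveI := hS.fact
  obtain ⟨n, rfl⟩ : ∃ n : ℕ, x ^ n = u :=
    Submonoid.mem_powers_iff _ _ |>.mp (mem_powers_iff_mem_zpowers.mpr hu)
  exact ⟨n, (hS.pw_natCast n).symm⟩

theorem Setting.pw_inj {i j : ZMod p} (h : pw x i = pw x j) : i = j := by
  haveI := hS.fact
  have h' : x ^ i.val = x ^ j.val := h
  rw [pow_eq_pow_iff_modEq, hS.hx] at h'
  rw [← ZMod.natCast_rightInverse i, ← ZMod.natCast_rightInverse j]
  exact (ZMod.natCast_eq_natCast_iff _ _ p).mpr h'

theorem Setting.orderOf_pw {i : ZMod p} (hi : i ≠ 0) : orderOf (pw x i) = p := by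
  haveI := hS.fact
  have hne : pw x i ≠ 1 := fun h => hi (hS.pw_inj (h.trans hS.pw_zero.symm))
  exact orderOf_eq_prime (by rw [hS.pw_pow, CharP.cast_eq_zero, zero_mul, hS.pw_zero]) hne

theorem Setting.exists_pow_pw {i : ZMod p} (hi : i ≠ 0) : ∃ k, orderOf (pw x i) = p ^ k :=
  ⟨1, by rw [hS.orderOf_pw hi, pow_one]⟩

theorem Setting.commute_pw_iff {i : ZMod p} (hi : i ≠ 0) {g : G} :
    Commute (pw x i) g ↔ Commute x g := by
  haveI := hS.fact
  refine ⟨fun h => ?_, hS.commute_pw i⟩
  have h1 := h.pow_left (i⁻¹).val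
  rwa [hS.pw_pow, ZMod.natCast_rightInverse, inv_mul_cancel₀ hi, hS.pw_one] at h1

theorem Setting.mem_centralizer_pw {i : ZMod p} (hi : i ≠ 0) (g : G) :
    g ∈ Subgroup.centralizer ({x} : Set G) ↔ Commute (pw x i) g := by
  rw [Subgroup.mem_centralizer_singleton_iff, hS.commute_pw_iff hi]
  exact ⟨fun h => h.symm, fun h => h.symm⟩

theorem Setting.regular_L (l : L) : ¬ p ∣ orderOf (l : G) := fun h =>
  hS.hcop (h.trans (by rw [Subgroup.orderOf_coe]; exact orderOf_dvd_natCard l))

theorem Setting.coprime_L : (p).Coprime (Nat.card L) := hS.hp.coprime_iff_not_dvd.mpr hS.hcop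

theorem Setting.regular_K (k : K x L) : ¬ p ∣ orderOf ((k : L) : G) := hS.regular_L _

theorem Setting.commute_K (k : K x L) : Commute x ((k : L) : G) := mem_K.mp k.2

theorem Setting.not_dvd_card_K : ¬ p ∣ Nat.card (K x L) := fun h =>
  hS.hcop (h.trans (Subgroup.card_subgroup_dvd_card _))

theorem Setting.orderOf_pw_mul {i : ZMod p} (hi : i ≠ 0) (k : K x L) :
    p ∣ orderOf (pw x i * ((k : L) : G)) := by
  have hc : Commute (pw x i) ((k : L) : G) := hS.commute_pw i (hS.commute_K k)
  rw [hc.orderOf_mul_eq_mul_orderOf_of_coprime, hS.orderOf_pw hi]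
  · exact dvd_mul_right _ _
  · rw [hS.orderOf_pw hi]
    exact hS.hp.coprime_iff_not_dvd.mpr (hS.regular_K k)

theorem Setting.regular_pw_mul_iff {i : ZMod p} (k : K x L) :
    ¬ p ∣ orderOf (pw x i * ((k : L) : G)) ↔ i = 0 := by
  refine ⟨fun h => by_contra fun hi => h (hS.orderOf_pw_mul hi k), fun h => ?_⟩
  rw [h, hS.pw_zero, one_mul]
  exact hS.regular_K k

theorem Setting.decomp {g : G} (hg : Commute x g) :
    ∃ (i : ZMod p) (k : K x L), g = pw x i * ((k : L) : G) := by
  have hN : g ∈ Subgroup.normalizer (Subgroup.zpowers x : Set G) :=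
    Subgroup.centralizer_le_normalizer _ (by
      rw [Subgroup.mem_centralizer_iff]
      intro u hu
      obtain ⟨j, rfl⟩ := Subgroup.mem_zpowers_iff.mp hu
      exact (hg.zpow_left j).eq)
  obtain ⟨u, hu, l, hl, hgl⟩ := hS.hgen g hN
  obtain ⟨i, rfl⟩ := hS.exists_pw hu
  refine ⟨i, ⟨⟨l, hl⟩, mem_K.mpr ?_⟩, hgl⟩
  show Commute x l
  rw [show l = (pw x i)⁻¹ * g by rw [hgl, inv_mul_cancel_left]]
  exact ((hS.commute_pw i (Commute.refl x)).symm.inv_right).mul_right hg

theorem Setting.decomp_unique {i j : ZMod p} {k k' : K x L}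
    (h : pw x i * ((k : L) : G) = pw x j * ((k' : L) : G)) : i = j ∧ k = k' := by
  have h1 : pw x (i - j) * ((k : L) : G) = ((k' : L) : G) := by
    apply mul_left_cancel (a := pw x j)
    rw [← mul_assoc, ← hS.pw_add, add_sub_cancel, h]
  have hij : i - j = 0 := (hS.regular_pw_mul_iff k).mp (h1 ▸ hS.regular_K k')
  rw [sub_eq_zero] at hij
  subst hij
  exact ⟨rfl, Subtype.ext (Subtype.ext (mul_left_cancel h))⟩

theorem Setting.exists_K_of_regular {g : G} (hg : Commute x g) (hr : ¬ p ∣ orderOf g) :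
    ∃ k : K x L, g = ((k : L) : G) := by
  obtain ⟨i, k, rfl⟩ := hS.decomp hg
  rw [(hS.regular_pw_mul_iff k).mp hr, hS.pw_zero, one_mul]
  exact ⟨k, rfl⟩

theorem Setting.exists_alpha (l : L) :
    ∃ a : ZMod p, (l : G) * x * (l : G)⁻¹ = pw x a :=
  hS.exists_pw ((Subgroup.mem_normalizer_iff.mp (hS.hL l.2) x).mp (Subgroup.mem_zpowers x))

theorem Setting.conj_pw {g : G} {a : ZMod p} (h : g * x * g⁻¹ = pw x a) (i : ZMod p) :
    g * pw x i * g⁻¹ = pw x (a * i) := by
  haveI := hS.fact
  rw [show pw x i = x ^ i.val from rfl, ← conj_pow, h, hS.pw_pow, ZMod.natCast_rightInverse, mul_comm]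

/-- The action of the complement on `⟨x⟩`. -/
noncomputable def alphaVal (l : L) : ZMod p := (hS.exists_alpha l).choose

theorem alphaVal_spec (l : L) : (l : G) * x * (l : G)⁻¹ = pw x (alphaVal hS l) :=
  (hS.exists_alpha l).choose_spec

theorem alphaVal_one : alphaVal hS 1 = 1 := by
  apply hS.pw_inj
  rw [← alphaVal_spec hS, hS.pw_one]; simp

theorem alphaVal_mul (l l' : L) : alphaVal hS (l * l') = alphaVal hS l * alphaVal hS l' := by
  apply hS.pw_inj
  rw [← alphaVal_spec hS, ← hS.conj_pw (alphaVal_spec hS l), ← alphaVal_spec hS l', Subgroup.coe_mul]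
  group

/-- `alphaVal` as a homomorphism into the units. -/
noncomputable def alpha : L →* (ZMod p)ˣ :=
  MonoidHom.toHomUnits { toFun := alphaVal hS, map_one' := alphaVal_one hS, map_mul' := alphaVal_mul hS }

theorem alpha_spec (l : L) (i : ZMod p) :
    (l : G) * pw x i * (l : G)⁻¹ = pw x ((alpha hS l : ZMod p) * i) :=
  hS.conj_pw (alphaVal_spec hS l) i

theorem ker_alpha : (alpha hS).ker = K x L := by
  ext l
  rw [MonoidHom.mem_ker, Units.ext_iff, mem_K]
  show alphaVal hS l = 1 ↔ _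
  constructor
  · intro h
    have h1 := alphaVal_spec hS l
    rw [h, hS.pw_one, mul_inv_eq_iff_eq_mul] at h1
    exact h1.symm
  · intro h
    apply hS.pw_inj
    rw [← alphaVal_spec hS, hS.pw_one, h.symm.eq, mul_inv_cancel_right]

theorem Setting.normal_K : (K x L).Normal := ker_alpha hS ▸ (alpha hS).normal_ker

theorem Setting.card_normalizer :
    Nat.card (Subgroup.normalizer (Subgroup.zpowers x : Set G)) = p * Nat.card L := by
  classical
  let f : Subgroup.zpowers x × L → Subgroup.normalizer (Subgroup.zpowers x : Set G) := fun ul =>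
    ⟨(ul.1 : G) * (ul.2 : G), Subgroup.mul_mem _ (Subgroup.le_normalizer ul.1.2) (hS.hL ul.2.2)⟩
  have hf : Function.Bijective f := by
    refine ⟨fun a b h => ?_, fun n => ?_⟩
    · have h' : (a.1 : G) * (a.2 : G) = (b.1 : G) * (b.2 : G) := congrArg Subtype.val h
      have h1 : (b.1 : G)⁻¹ * (a.1 : G) = (b.2 : G) * (a.2 : G)⁻¹ := by
        rw [eq_mul_inv_iff_mul_eq, mul_assoc, h', inv_mul_cancel_left]
      have h2 : (b.1 : G)⁻¹ * (a.1 : G) = 1 := by
        have hd : orderOf ((b.1 : G)⁻¹ * (a.1 : G)) ∣ Nat.card L := by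
          rw [h1]
          have := orderOf_dvd_natCard (b.2 * a.2⁻¹)
          rwa [← Subgroup.orderOf_coe] at this
        have hd' : orderOf ((b.1 : G)⁻¹ * (a.1 : G)) ∣ p := by
          have := orderOf_dvd_natCard (b.1⁻¹ * a.1)
          rwa [← Subgroup.orderOf_coe, Nat.card_zpowers, hS.hx] at this
        exact orderOf_eq_one_iff.mp (Nat.eq_one_of_dvd_coprimes hS.coprime_L hd' hd)
      have h3 : a.1 = b.1 := Subtype.ext (inv_mul_eq_one.mp h2).symm
      exact Prod.ext h3 (Subtype.ext (mul_left_cancel (h3 ▸ h' :)))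
    · obtain ⟨u, hu, l, hl, h⟩ := hS.hgen n n.2
      exact ⟨(⟨u, hu⟩, ⟨l, hl⟩), Subtype.ext h.symm⟩
  rw [← Nat.card_eq_of_bijective f hf, Nat.card_prod, Nat.card_zpowers, hS.hx]

theorem Setting.card_centralizer :
    Nat.card (Subgroup.centralizer ({x} : Set G)) = p * Nat.card (K x L) := by
  classical
  haveI := hS.fact
  let f : ZMod p × K x L → Subgroup.centralizer ({x} : Set G) := fun ik =>
    ⟨pw x ik.1 * ((ik.2 : L) : G), Subgroup.mem_centralizer_singleton_iff.mpr
      ((hS.commute_pw ik.1 (Commute.refl x)).symm.mul_right (hS.commute_K ik.2)).eq.symm⟩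
  have hf : Function.Bijective f := by
    refine ⟨fun a b h => ?_, fun c => ?_⟩
    · obtain ⟨h1, h2⟩ := hS.decomp_unique (congrArg Subtype.val h :)
      exact Prod.ext h1 h2
    · obtain ⟨i, k, h⟩ := hS.decomp (Subgroup.mem_centralizer_singleton_iff.mp c.2 :).symm
      exact ⟨(i, k), Subtype.ext h.symm⟩
  rw [← Nat.card_eq_of_bijective f hf, Nat.card_prod, Nat.card_zmod]

theorem Setting.card_zpowers_eq : Nat.card (Subgroup.zpowers x) = p := by
  rw [Nat.card_zpowers, hS.hx]

theorem Setting.factorization_card : (Nat.card G).factorization p = 1 := by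
  have hdvd : p ∣ Nat.card G := hS.hx ▸ orderOf_dvd_natCard x
  refine le_antisymm (Nat.le_of_lt_succ (Nat.lt_of_not_le fun h => hS.hsq ?_))
    (hS.hp.dvd_iff_one_le_factorization Nat.card_pos.ne' |>.mp hdvd)
  exact (hS.hp.pow_dvd_iff_le_factorization Nat.card_pos.ne').mpr h

theorem Setting.sylowIn_centralizer (k : K x L) :
    Blocks.SylowIn p (Subgroup.centralizer ({((k : L) : G)} : Set G)) (Subgroup.zpowers x) := by
  haveI := hS.fact
  have hle : Subgroup.zpowers x ≤ Subgroup.centralizer ({((k : L) : G)} : Set G) :=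
    Subgroup.zpowers_le.mpr (Subgroup.mem_centralizer_singleton_iff.mpr (hS.commute_K k).eq)
  refine Blocks.sylowIn_of_card_eq hle (IsPGroup.of_card (n := 1) (by rw [hS.card_zpowers_eq, pow_one])) ?_
  have h1 : p ∣ Nat.card (Subgroup.centralizer ({((k : L) : G)} : Set G)) :=
    hS.card_zpowers_eq ▸ Subgroup.card_dvd_of_le hle
  have h2 : (Nat.card (Subgroup.centralizer ({((k : L) : G)} : Set G))).factorization p = 1 := by
    refine le_antisymm ?_ (hS.hp.dvd_iff_one_le_factorization Nat.card_pos.ne' |>.mp h1)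
    rw [← hS.factorization_card]
    exact (Nat.factorization_le_iff_dvd Nat.card_pos.ne' Nat.card_pos.ne').mpr
      (Subgroup.card_subgroup_dvd_card _) p
  rw [hS.card_zpowers_eq, h2, pow_one]

/-- `L` controls fusion of the regular elements of `C(x)`. -/
theorem Setting.fusion {k k' : K x L} (h : IsConj ((k : L) : G) ((k' : L) : G)) :
    ∃ l : L, l * (k : L) * l⁻¹ = k' := by
  haveI := hS.fact
  have hc : ((k' : L) : G) ∈ Subgroup.centralizer (Subgroup.zpowers x : Set G) := by
    rw [Subgroup.mem_centralizer_iff]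
    intro u hu
    obtain ⟨j, rfl⟩ := Subgroup.mem_zpowers_iff.mp hu
    exact ((hS.commute_K k').zpow_left j).eq
  obtain ⟨n, hn, hnk⟩ := Blocks.isConj_normalizer_of_sylowIn (hS.sylowIn_centralizer k) hc h
  obtain ⟨u, hu, l, hl, rfl⟩ := hS.hgen n hn
  refine ⟨⟨l, hl⟩, Subtype.ext ?_⟩
  show l * ((k : L) : G) * l⁻¹ = ((k' : L) : G)
  obtain ⟨i, rfl⟩ := hS.exists_pw hu
  have hk' : Commute (pw x i) ((k' : L) : G) := hS.commute_pw i (hS.commute_K k')
  calc l * ((k : L) : G) * l⁻¹
      = (pw x i)⁻¹ * (pw x i * l * ((k : L) : G) * (pw x i * l)⁻¹) * pw x i := by group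
    _ = (pw x i)⁻¹ * ((k' : L) : G) * pw x i := by rw [hnk]
    _ = ((k' : L) : G) := by rw [mul_assoc, ← hk'.eq, inv_mul_cancel_left]

end

section
variable [Finite G] {p : ℕ} {x : G} {L : Subgroup G}

/-- The image in the units of the inertia group of `η`. -/
noncomputable def U (hS : Setting p x L) (η : K x L → ℂ) : Subgroup (ZMod p)ˣ :=
  haveI := hS.normal_K
  (CharApp.inertia (K x L) η).map (alpha hS)

theorem mem_U (hS : Setting p x L) {η : K x L → ℂ} {a : (ZMod p)ˣ} :
    a ∈ U hS η ↔ ∃ l : L, (∀ k k' : K x L, (k' : L) = l * (k : L) * l⁻¹ → η k' = η k) ∧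
      alpha hS l = a := by
  haveI := hS.normal_K
  rw [U, Subgroup.mem_map]
  refine exists_congr fun l => and_congr_left fun _ => ?_
  rw [CharApp.mem_inertia_iff]
  refine ⟨fun h k k' e => ?_, fun h k => h k _ rfl⟩
  rw [← h k]
  exact congrArg η (Subtype.ext e)

end

end Cfsg.Agent.CyclicDefect
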