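/-
The singular columns of a block when `p` exactly divides `|G|` (namespace `Cfsg.Agent.CyclicDefect`).

Main results: `Lies` (a character of `K` lies under a block), `exists_lies`, `lies_unique`, `dec`
(the decomposition numbers at the sections of `x ^ i`), `dec_eq_zero`, `sum_dec_mul` (orthogonality),
`orbit` (the characters under one block form one orbit of `L`), `sum_singular`.
-/
import Cfsg.Agent.Lib.CyclicDefect.Setup
import Cfsg.Agent.Lib.SecondMain.Rank

set_option autoImplicit false
set_option linter.unusedSectionVars false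
set_option linter.style.haveILetI false

open scoped ComplexConjugate

namespace Cfsg.Agent.CyclicDefect

open Cfsg Blocks

variable {G : Type*} [Group G] {p : ℕ} {x : G} {L : Subgroup G} {M : Ideal AlgInt}

/-- `η` lies under `B`: the idempotent of `B` is congruent to one at `η`. -/
def Lies (M : Ideal AlgInt) (x : G) (L : Subgroup G) (B : Set (IrrCharacter G))
    (η : IrrCharacter (K x L)) : Prop :=
  MemLocalIdeal M (omega (η : K x L → ℂ) (fun k : K x L => blockCoeff B ((k : L) : G)) - 1)

/-- The decomposition number at the section of `pw x i`. -/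
noncomputable def dec [Finite G] (χ : G → ℂ) (η : K x L → ℂ) (i : ZMod p) : ℂ :=
  letI := Fintype.ofFinite (K x L)
  classInner (fun k : K x L => χ (pw x i * ((k : L) : G))) η

theorem dec_eq [Finite G] [Fintype (K x L)] (χ : G → ℂ) (η : K x L → ℂ) (i : ZMod p) :
    dec χ η i = classInner (fun k : K x L => χ (pw x i * ((k : L) : G))) η := by
  unfold dec
  congr!

/-- A regular element of `C(x)` inside `C(x)`. -/
def toC (k : K x L) : Subgroup.centralizer ({x} : Set G) := ⟨((k : L) : G), k.2⟩

theorem toC_injective : Function.Injective (toC (x := x) (L := L)) := fun _ _ h =>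
  Subtype.ext (Subtype.ext (congrArg Subtype.val h :))

/-- Extension by zero to `C(x)`. -/
noncomputable def extC (f : K x L → ℂ) : Subgroup.centralizer ({x} : Set G) → ℂ :=
  Function.extend toC f 0

theorem extC_apply (f : K x L → ℂ) (k : K x L) : extC f (toC k) = f k :=
  toC_injective.extend_apply _ _ _

theorem extC_of_notMem (f : K x L → ℂ) {c : Subgroup.centralizer ({x} : Set G)}
    (h : ∀ k : K x L, toC k ≠ c) : extC f c = 0 :=
  Function.extend_apply' _ _ _ (fun ⟨k, hk⟩ => h k hk)

variable [Finite G] (hS : Setting p x L)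
include hS

theorem Setting.exists_toC {c : Subgroup.centralizer ({x} : Set G)} (hc : ¬ p ∣ orderOf c) :
    ∃ k : K x L, toC k = c := by
  obtain ⟨k, hk⟩ := hS.exists_K_of_regular (g := (c : G))
    (Subgroup.mem_centralizer_singleton_iff.mp c.2 :).symm (by rwa [Subgroup.orderOf_coe])
  exact ⟨k, Subtype.ext hk.symm⟩

theorem Setting.regular_toC (k : K x L) : ¬ p ∣ orderOf (toC k) := by
  rw [← Subgroup.orderOf_coe]; exact hS.regular_K k

theorem isClassFunction_extC {f : K x L → ℂ} (hf : IsClassFunction (K x L) f) :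
    IsClassFunction (Subgroup.centralizer ({x} : Set G)) (extC f) := by
  intro c d
  by_cases hc : p ∣ orderOf c
  · have hc' : p ∣ orderOf (d * c * d⁻¹) := by rwa [SecondMain.orderOf_conj]
    rw [extC_of_notMem f fun k h => hS.regular_toC k (by rwa [h]),
      extC_of_notMem f fun k h => hS.regular_toC k (by rwa [h])]
  obtain ⟨k, rfl⟩ := hS.exists_toC hc
  obtain ⟨i, k₀, hd⟩ := hS.decomp (g := (d : G)) (Subgroup.mem_centralizer_singleton_iff.mp d.2 :).symm
  have e : d * toC k * d⁻¹ = toC (k₀ * k * k₀⁻¹) := by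
    refine Subtype.ext ?_
    show (d : G) * ((k : L) : G) * (d : G)⁻¹ = ((k₀ : L) : G) * ((k : L) : G) * ((k₀ : L) : G)⁻¹
    have hc2 : Commute (pw x i) (((k₀ : L) : G) * ((k : L) : G) * ((k₀ : L) : G)⁻¹) :=
      hS.commute_pw i (((hS.commute_K k₀).mul_right (hS.commute_K k)).mul_right (hS.commute_K k₀).inv_right)
    rw [hd]
    calc pw x i * ((k₀ : L) : G) * ((k : L) : G) * (pw x i * ((k₀ : L) : G))⁻¹
        = pw x i * (((k₀ : L) : G) * ((k : L) : G) * ((k₀ : L) : G)⁻¹) * (pw x i)⁻¹ := by group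
      _ = _ := by rw [hc2.eq, mul_inv_cancel_right]
  rw [e, extC_apply, extC_apply, hf]

theorem sum_extC_mul [Fintype (Subgroup.centralizer ({x} : Set G))] [Fintype (K x L)]
    (f : K x L → ℂ) (g : Subgroup.centralizer ({x} : Set G) → ℂ) :
    ∑ c, extC f c * g c = ∑ k, f k * g (toC k) := by
  classical
  rw [← Finset.sum_subset (Finset.subset_univ (Finset.univ.image (toC (x := x) (L := L))))
    (fun c _ hc => by rw [extC_of_notMem f fun k h => hc (Finset.mem_image.mpr ⟨k, Finset.mem_univ _, h⟩), zero_mul]),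
    Finset.sum_image fun a _ b _ h => toC_injective h]
  simp only [extC_apply]

theorem classInner_extC [Fintype (Subgroup.centralizer ({x} : Set G))] [Fintype (K x L)]
    (f : K x L → ℂ) (ψ : Subgroup.centralizer ({x} : Set G) → ℂ) :
    classInner (extC f) ψ = (p : ℂ)⁻¹ * classInner f (fun k => ψ (toC k)) := by
  rw [classInner, classInner, sum_extC_mul hS, hS.card_centralizer, Nat.cast_mul, mul_inv, mul_assoc]

omit hS in
theorem isCharacter_res {ξ : Subgroup.centralizer ({x} : Set G) → ℂ}
    (hξ : IsCharacter (Subgroup.centralizer ({x} : Set G)) ξ) :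
    IsCharacter (K x L) (fun k => ξ (toC k)) :=
  Char.IsCharacter.comp_hom hξ
    ({ toFun := toC, map_one' := rfl, map_mul' := fun _ _ => rfl } :
      K x L →* Subgroup.centralizer ({x} : Set G))

theorem exists_over [Fintype (K x L)] (η : IrrCharacter (K x L)) :
    ∃ ξ : IrrCharacter (Subgroup.centralizer ({x} : Set G)),
      classInner (fun k => (ξ : _ → ℂ) (toC k)) (η : K x L → ℂ) ≠ 0 := by
  have := Fintype.ofFinite (Subgroup.centralizer ({x} : Set G))
  by_contra h
  push Not at h
  have h0 : extC (η : K x L → ℂ) = 0 :=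
    Char.eq_zero_of_forall_classInner_irr (isClassFunction_extC hS (irr_class η)) fun ξ => by
      rw [classInner_extC hS, ← Char.classInner_conj_symm, h ξ, map_zero, mul_zero]
  have := congrFun h0 (toC (1 : K x L))
  rw [extC_apply] at this
  exact irr_one_ne_zero η this

omit hS in
theorem exists_constituent_res [Fintype (K x L)] (ξ : IrrCharacter (Subgroup.centralizer ({x} : Set G))) :
    ∃ η : IrrCharacter (K x L), classInner (fun k => (ξ : _ → ℂ) (toC k)) (η : K x L → ℂ) ≠ 0 :=
  CharApp.exists_constituent (isCharacter_res (Char.IsIrrCharacter.isCharacter ξ.2)) (irr_one_ne_zero ξ)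

/-- Central characters of `C(x)` on elements supported on `K`. -/
theorem omega_eq_of_over [Fintype (K x L)] {η : IrrCharacter (K x L)}
    {ξ : IrrCharacter (Subgroup.centralizer ({x} : Set G))}
    (h : classInner (fun k => (ξ : _ → ℂ) (toC k)) (η : K x L → ℂ) ≠ 0)
    (f : K x L → ℂ) :
    omega (ξ : Subgroup.centralizer ({x} : Set G) → ℂ) (extC f) = omega (η : K x L → ℂ) f := by
  classical
  have := Fintype.ofFinite (Subgroup.centralizer ({x} : Set G))
  have := Fintype.ofFinite (IrrCharacter (K x L))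
  obtain ⟨c, hc, hcn⟩ := Char.IsCharacter.decompose
    (isCharacter_res (L := L) (Char.IsIrrCharacter.isCharacter ξ.2))
  have hω : ∀ g : K x L → ℂ, omega (ξ : Subgroup.centralizer ({x} : Set G) → ℂ) (extC g) =
      ∑ φ : IrrCharacter (K x L), ((c φ : ℂ) * (φ : K x L → ℂ) 1 / (ξ : Subgroup.centralizer ({x} : Set G) → ℂ) 1) * omega (φ : K x L → ℂ) g := by
    intro g
    rw [omega_eq_sum, sum_extC_mul hS, Finset.sum_congr rfl (g := fun k => ∑ φ : IrrCharacter (K x L),
      (c φ : ℂ) * (g k * (φ : K x L → ℂ) k)) (fun k _ => ?_)]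
    · rw [Finset.sum_comm, Finset.sum_div]
      refine Finset.sum_congr rfl fun φ _ => ?_
      rw [omega_eq_sum, ← Finset.mul_sum]
      have := irr_one_ne_zero φ
      field_simp
    · rw [congrFun hc k, Finset.sum_apply, Finset.mul_sum]
      exact Finset.sum_congr rfl fun φ _ => by simp only [Pi.smul_apply, smul_eq_mul]; ring
  let e : K x L → ℂ := ofOmega (blockInd {η})
  have he : IsClassFunction _ (extC e) := isClassFunction_extC hS (isClassFunction_ofOmega _)
  have hwe : omega (ξ : Subgroup.centralizer ({x} : Set G) → ℂ) (extC e) =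
      (c η : ℂ) * (η : K x L → ℂ) 1 / (ξ : Subgroup.centralizer ({x} : Set G) → ℂ) 1 := by
    rw [hω, Finset.sum_eq_single η]
    · rw [omega_ofOmega, blockInd_of_mem (Set.mem_singleton η), mul_one]
    · intro φ _ hφ
      rw [omega_ofOmega, blockInd_of_notMem (B := {η}) (χ := φ) hφ, mul_zero]
    · exact fun h => absurd (Finset.mem_univ _) h
  have hconv : Blocks.conv (extC e) (extC e) = extC e := by
    funext d
    rw [conv_eq_sum, sum_extC_mul hS]
    by_cases hd : p ∣ orderOf d
    · rw [extC_of_notMem e fun k h => hS.regular_toC k (by rwa [h])]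
      refine Finset.sum_eq_zero fun k _ => ?_
      rw [extC_of_notMem e, mul_zero]
      intro k' hk'
      refine hS.regular_toC (k * k') ?_
      rw [show toC (k * k') = toC k * toC k' from rfl, hk', mul_inv_cancel_left]
      exact hd
    · obtain ⟨k₀, rfl⟩ := hS.exists_toC hd
      rw [extC_apply]
      have hee : e k₀ = Blocks.conv e e k₀ := by
        show ofOmega (blockInd {η}) k₀ = _
        rw [← ofOmega_mul, blockInd_mul_self]
      rw [hee, conv_eq_sum]
      exact Finset.sum_congr rfl fun k _ => by rw [← extC_apply e (k⁻¹ * k₀)]; rfl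
  have hidem := omega_conv he he ξ
  rw [hconv, hwe] at hidem
  have hcne : (c η : ℂ) * (η : K x L → ℂ) 1 / (ξ : Subgroup.centralizer ({x} : Set G) → ℂ) 1 ≠ 0 := by
    refine div_ne_zero (mul_ne_zero ?_ (irr_one_ne_zero η)) (irr_one_ne_zero ξ)
    rw [← hcn η]; exact h
  have h1 : (c η : ℂ) * (η : K x L → ℂ) 1 / (ξ : Subgroup.centralizer ({x} : Set G) → ℂ) 1 = 1 :=
    mul_left_cancel₀ hcne (hidem.symm.trans (mul_one _).symm)
  have hdeg : (ξ : Subgroup.centralizer ({x} : Set G) → ℂ) 1 =
      ∑ φ : IrrCharacter (K x L), (c φ : ℂ) * (φ : K x L → ℂ) 1 := by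
    rw [show (ξ : Subgroup.centralizer ({x} : Set G) → ℂ) 1 = (ξ : _ → ℂ) (toC (1 : K x L)) from rfl,
      congrFun hc 1, Finset.sum_apply]
    rfl
  rw [div_eq_one_iff_eq (irr_one_ne_zero ξ)] at h1
  have hzero : ∀ φ, φ ≠ η → c φ = 0 := by
    intro φ hφ
    have h2 : ∑ ψ ∈ Finset.univ.erase η, c ψ * charDegree (ψ : K x L → ℂ) = 0 := by
      apply Nat.cast_injective (R := ℂ)
      push_cast
      simp only [charDegree_cast]
      rw [Finset.sum_erase_eq_sub (Finset.mem_univ η), ← hdeg, h1, sub_self]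
    have h3 := Finset.sum_eq_zero_iff.mp h2 φ (Finset.mem_erase.mpr ⟨hφ, Finset.mem_univ _⟩)
    exact (mul_eq_zero.mp h3).resolve_right (charDegree_pos φ).ne'
  rw [hω, Finset.sum_eq_single η]
  · rw [h1, div_self (irr_one_ne_zero ξ), one_mul]
  · intro φ _ hφ; rw [hzero φ hφ, Nat.cast_zero, zero_mul, zero_div, zero_mul]
  · exact fun h => absurd (Finset.mem_univ _) h

/-- A central element supported on regular elements restricts to `C(x)` as an extension from `K`. -/
theorem restrict_eq_extC {z : G → ℂ} (hz : ∀ g, p ∣ orderOf g → z g = 0) :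
    (fun c : Subgroup.centralizer ({x} : Set G) => z c) = extC (fun k : K x L => z ((k : L) : G)) := by
  funext c
  by_cases hc : p ∣ orderOf c
  · rw [extC_of_notMem _ fun k h => hS.regular_toC k (by rwa [h]), hz]
    rwa [Subgroup.orderOf_coe]
  · obtain ⟨k, rfl⟩ := hS.exists_toC hc
    rw [extC_apply]
    rfl

omit hS in
theorem isClassFunction_res {z : G → ℂ} (hz : IsClassFunction G z) :
    IsClassFunction (K x L) (fun k => z ((k : L) : G)) := fun k n => by
  simp only [Subgroup.coe_mul, Subgroup.coe_inv]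
  exact hz _ _

theorem omega_res_eq [Fintype (K x L)] {η : IrrCharacter (K x L)}
    {ξ : IrrCharacter (Subgroup.centralizer ({x} : Set G))}
    (h : classInner (fun k => (ξ : _ → ℂ) (toC k)) (η : K x L → ℂ) ≠ 0)
    {z : G → ℂ} (hz0 : ∀ g, p ∣ orderOf g → z g = 0) :
    omega (ξ : Subgroup.centralizer ({x} : Set G) → ℂ) (fun c => z (c : G)) =
      omega (η : K x L → ℂ) (fun k => z ((k : L) : G)) := by
  rw [restrict_eq_extC hS hz0, omega_eq_of_over hS h (fun k => z ((k : L) : G))]

variable (hM : IsPModular p M)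
include hM

omit hS in
theorem blockCoeff_singular {B : Set (IrrCharacter G)} (hB : IsPBlock M B) {g : G} (hg : p ∣ orderOf g) :
    blockCoeff B g = 0 := by
  rw [blockCoeff_eq_ofOmega]
  exact ofOmega_singular_eq_zero hM (blockInd_mem_intRing hM hB) hg

/-- Every character of `K` lies under a block. -/
theorem exists_lies (η : IrrCharacter (K x L)) :
    ∃ B, IsPBlock M B ∧ Lies M x L B η ∧ ∀ χ ∈ B, ∀ z : G → ℂ, IsClassFunction G z →
      (∀ g, MemLocalRing M (z g)) → (∀ g, p ∣ orderOf g → z g = 0) →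
      MemLocalIdeal M (omega (η : K x L → ℂ) (fun k => z ((k : L) : G)) - omega (χ : G → ℂ) z) := by
  classical
  haveI := hS.fact
  have := Fintype.ofFinite (K x L)
  obtain ⟨ξ, hξ⟩ := exists_over hS η
  have hH : ∀ g, g ∈ Subgroup.centralizer ({x} : Set G) ↔ Commute x g := fun _ =>
    SecondMain.commute_iff_mem_centralizer_singleton
  have hle : Subgroup.centralizer (Subgroup.zpowers x : Set G) ≤ Subgroup.centralizer ({x} : Set G) :=
    fun g hg => (hH g).mpr (SecondMain.mem_centralizer_zpowers_iff.mp hg)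
  have hnorm : Subgroup.centralizer ({x} : Set G) ≤ Subgroup.normalizer (Subgroup.zpowers x : Set G) :=
    fun g hg => Subgroup.centralizer_le_normalizer _ (SecondMain.mem_centralizer_zpowers_iff.mpr ((hH g).mp hg))
  obtain ⟨B, hB, h1, h2⟩ := exists_block_brauerPhi hM
    (IsPGroup.of_card (n := 1) (by rw [hS.card_zpowers_eq, pow_one])) hle hnorm ξ
  refine ⟨B, hB, ?_, fun χ hχ z hz hzR hz0 => ?_⟩
  · unfold Lies
    rw [← omega_res_eq hS hξ (fun g => blockCoeff_singular hM hB)]
    rw [SecondMain.brauerPhi_centralizer hH] at h1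
    simp only [blockCoeff_eq_ofOmega]
    exact h1
  · have h3 := h2 χ hχ (omegaFun z) (omega_mem_intRing hM hz hzR)
    rw [SecondMain.brauerPhi_centralizer hH, ofOmega_omega hz, omega_res_eq hS hξ hz0] at h3
    exact h3

theorem lies_unique {η : IrrCharacter (K x L)} {B B' : Set (IrrCharacter G)} (hB : IsPBlock M B)
    (hB' : IsPBlock M B') (h : Lies M x L B η) (h' : Lies M x L B' η) : B = B' := by
  suffices key : ∀ {B₁ : Set (IrrCharacter G)}, IsPBlock M B₁ → Lies M x L B₁ η →
      B₁ = (exists_lies hS hM η).choose by rw [key hB h, key hB' h']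
  intro B₁ hB₁ h₁
  obtain ⟨hB₀, -, hcong⟩ := (exists_lies hS hM η).choose_spec
  obtain ⟨χ, hχ⟩ := isPBlock_nonempty hM hB₀
  by_contra hne
  have h2 := hcong χ hχ (blockCoeff B₁) (isClassFunction_blockCoeff B₁) (memR_blockCoeff hM hB₁)
    (fun g => blockCoeff_singular hM hB₁)
  rw [show omega (χ : G → ℂ) (blockCoeff B₁) = 0 by
    rw [blockCoeff_eq_ofOmega, omega_ofOmega,
      blockInd_of_notMem fun hm => hne (isPBlock_eq_of_mem hM hB₁ hB₀ hm hχ)], sub_zero] at h2
  exact not_memI_one hM ((memI_iff_of_sub hM h₁).mp h2)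

theorem lies_congr {η : IrrCharacter (K x L)} {B : Set (IrrCharacter G)} (hB : IsPBlock M B)
    (h : Lies M x L B η) {χ : IrrCharacter G} (hχ : χ ∈ B) {z : G → ℂ} (hz : IsClassFunction G z)
    (hzR : ∀ g, MemLocalRing M (z g)) (hz0 : ∀ g, p ∣ orderOf g → z g = 0) :
    MemLocalIdeal M (omega (η : K x L → ℂ) (fun k => z ((k : L) : G)) - omega (χ : G → ℂ) z) := by
  obtain ⟨B₀, hB₀, h₀, hcong⟩ := exists_lies hS hM η
  exact hcong χ (lies_unique hS hM hB hB₀ h h₀ ▸ hχ) z hz hzR hz0

/-- The blocks of `C(x)` inducing `B` are those over the characters lying under `B`. -/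
theorem mem_induced_iff [Fintype (K x L)] {η : IrrCharacter (K x L)}
    {ξ : IrrCharacter (Subgroup.centralizer ({x} : Set G))}
    (h : classInner (fun k => (ξ : _ → ℂ) (toC k)) (η : K x L → ℂ) ≠ 0)
    {B : Set (IrrCharacter G)} (hB : IsPBlock M B) :
    ξ ∈ ⋃₀ SecondMain.inducedSet M (Subgroup.centralizer ({x} : Set G)) B ↔ Lies M x L B η := by
  have key : ∀ {b : Set (IrrCharacter (Subgroup.centralizer ({x} : Set G)))}
      {B' : Set (IrrCharacter G)}, IsInducedBlock M (Subgroup.centralizer ({x} : Set G)) b B' → ξ ∈ b →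
      Lies M x L B' η := by
    intro b B' hind hξb
    obtain ⟨χ, hχ⟩ := isPBlock_nonempty hM hind.2.1
    have h1 := SecondMain.omega_restrict_congr hM hind hξb hχ (isClassFunction_blockCoeff B')
      (memR_blockCoeff hM hind.2.1)
    rw [omega_res_eq hS h (fun g => blockCoeff_singular hM hind.2.1),
      show omega (χ : G → ℂ) (blockCoeff B') = 1 by
        rw [blockCoeff_eq_ofOmega, omega_ofOmega, blockInd_of_mem hχ]] at h1
    exact h1
  constructor
  · rintro ⟨b, hb, hξb⟩
    exact key hb hξb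
  · intro hl
    obtain ⟨B', hB'⟩ := SecondMain.exists_induced_centralizer hM (x := x) ⟨1, by rw [hS.hx, pow_one]⟩
      (fun _ => SecondMain.commute_iff_mem_centralizer_singleton) (b := blockOf M (ξ : _ → ℂ)) ⟨ξ, rfl⟩
    have := lies_unique hS hM hB hB'.2.1 hl (key hB' (mem_blockOf_self hM ξ))
    exact ⟨_, this ▸ hB', mem_blockOf_self hM ξ⟩

/-- The second main theorem. -/
theorem dec_eq_zero (χ : IrrCharacter G) {η : IrrCharacter (K x L)}
    (h : ¬ Lies M x L (blockOf M (χ : G → ℂ)) η) {i : ZMod p} (hi : i ≠ 0) :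
    dec (χ : G → ℂ) (η : K x L → ℂ) i = 0 := by
  classical
  have := Fintype.ofFinite (K x L)
  have := Fintype.ofFinite (Subgroup.centralizer ({x} : Set G))
  let C := Subgroup.centralizer ({x} : Set G)
  have := Fintype.ofFinite (IrrCharacter C)
  have hB : IsPBlock M (blockOf M (χ : G → ℂ)) := ⟨χ, rfl⟩
  set S := SecondMain.inducedSet M C (blockOf M (χ : G → ℂ)) with hSdef
  let θ : C → ℂ := fun c => (χ : G → ℂ) (pw x i * (c : G))
  have hθ : ∀ k : K x L, θ (toC k) =
      ∑ ξ ∈ (⋃₀ S).toFinset, classInner θ (ξ : C → ℂ) * (ξ : C → ℂ) (toC k) := by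
    intro k
    show (χ : G → ℂ) (pw x i * (toC k : G)) = _
    rw [← SecondMain.sum_induced_shift_of_mem hM (hS.exists_pow_pw hi) (H := C)
      (fun g => hS.mem_centralizer_pw hi g) hB (mem_blockOf_self hM χ) (hS.regular_toC k)]
    simp only [SecondMain.blockPart_apply]
    rw [SecondMain.finsum_blocks_eq hM (fun b hb => hb.1), finsum_mem_eq_toFinset_sum]
  rw [dec_eq, show (fun k : K x L => (χ : G → ℂ) (pw x i * ((k : L) : G))) =
    ∑ ξ ∈ (⋃₀ S).toFinset, classInner θ (ξ : C → ℂ) • fun k => (ξ : C → ℂ) (toC k) from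
      funext fun k => (hθ k).trans (by simp [Finset.sum_apply]), Char.classInner_sum_left]
  refine Finset.sum_eq_zero fun ξ hξ => ?_
  rw [Char.classInner_smul_left]
  by_cases h' : classInner (fun k => (ξ : C → ℂ) (toC k)) (η : K x L → ℂ) = 0
  · rw [h', mul_zero]
  · exact absurd ((mem_induced_iff hS hM h' hB).mp (Set.mem_toFinset.mp hξ)) h

theorem mem_of_dec_ne_zero {χ : IrrCharacter G} {η : IrrCharacter (K x L)} {B : Set (IrrCharacter G)}
    (hB : IsPBlock M B) (hl : Lies M x L B η) {i : ZMod p} (hi : i ≠ 0)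
    (hd : dec (χ : G → ℂ) (η : K x L → ℂ) i ≠ 0) : χ ∈ B := by
  by_contra hn
  refine hd (dec_eq_zero hS hM χ (fun h => hn ?_) hi)
  rw [lies_unique hS hM hB ⟨χ, rfl⟩ hl h]
  exact mem_blockOf_self hM χ

open scoped Classical in
/-- The values at a section through the decomposition numbers. -/
theorem apply_pw_mul [Fintype (K x L)] [Fintype (IrrCharacter (K x L))] (χ : IrrCharacter G)
    {i : ZMod p} (hi : i ≠ 0) (k : K x L) :
    (χ : G → ℂ) (pw x i * ((k : L) : G)) = ∑ η ∈ Finset.univ.filter
      (fun η => Lies M x L (blockOf M (χ : G → ℂ)) η),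
        dec (χ : G → ℂ) (η : K x L → ℂ) i * (η : K x L → ℂ) k := by
  have hcf : IsClassFunction (K x L) fun k : K x L => (χ : G → ℂ) (pw x i * ((k : L) : G)) := by
    intro a b
    simp only [Subgroup.coe_mul, Subgroup.coe_inv]
    rw [← irr_class χ (pw x i * ((a : L) : G)) ((b : L) : G)]
    rw [show ((b : L) : G) * (pw x i * ((a : L) : G)) = ((b : L) : G) * pw x i * ((a : L) : G) by group,
      (hS.commute_pw i (hS.commute_K b)).symm.eq]
    group
  rw [Finset.sum_filter]
  refine (congrFun (Char.classFunction_eq_sum hcf) k).trans ?_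
  rw [Finset.sum_apply]
  refine Finset.sum_congr rfl fun η _ => ?_
  rw [Pi.smul_apply, smul_eq_mul, ← dec_eq]
  by_cases h : Lies M x L (blockOf M (χ : G → ℂ)) η
  · rw [if_pos h]
  · rw [if_neg h, dec_eq_zero hS hM χ h hi, zero_mul]

/-- Columns in two different sections are orthogonal. -/
theorem sum_dec_mul_of_not_isConj [Fintype (K x L)] [Fintype (IrrCharacter G)]
    {B : Set (IrrCharacter G)} [DecidablePred (· ∈ B)] (hB : IsPBlock M B) {i j : ZMod p} (hi : i ≠ 0)
    (hj : j ≠ 0) (h : ¬ IsConj (pw x i) (pw x j)) (η η' : K x L → ℂ) :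
    ∑ χ ∈ Finset.univ.filter (· ∈ B), dec (χ : G → ℂ) η i * conj (dec (χ : G → ℂ) η' j) = 0 := by
  simp only [dec_eq, classInner, map_mul, map_sum, map_inv₀, Complex.conj_natCast, Complex.conj_conj,
    Finset.mul_sum, Finset.sum_mul]
  rw [Finset.sum_comm]
  refine Finset.sum_eq_zero fun k _ => ?_
  rw [Finset.sum_comm]
  refine Finset.sum_eq_zero fun k' _ => ?_
  have h0 := SecondMain.colSum_eq_zero hM hB (hS.exists_pow_pw hi) (hS.exists_pow_pw hj)
    (hS.regular_K k') (hS.regular_K k) (hS.commute_pw i (hS.commute_K k'))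
    (hS.commute_pw j (hS.commute_K k)) h
  rw [SecondMain.colSum, finsum_mem_eq_finite_toFinset_sum _ (Set.toFinite B),
    show (Set.toFinite B).toFinset = Finset.univ.filter (· ∈ B) by ext; simp] at h0
  rw [← mul_zero ((Nat.card (K x L) : ℂ)⁻¹ * (Nat.card (K x L) : ℂ)⁻¹ * (conj (η k') * η' k)), ← h0,
    Finset.mul_sum]
  exact Finset.sum_congr rfl fun χ _ => by ring

open scoped Classical in
/-- Columns in one section. -/
theorem sum_dec_mul [Fintype (K x L)] [Fintype (IrrCharacter G)]
    {B : Set (IrrCharacter G)} [DecidablePred (· ∈ B)] (hB : IsPBlock M B) {i : ZMod p} (hi : i ≠ 0)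
    {η η' : IrrCharacter (K x L)} (hη : Lies M x L B η) :
    ∑ χ ∈ Finset.univ.filter (· ∈ B),
      dec (χ : G → ℂ) (η : K x L → ℂ) i * conj (dec (χ : G → ℂ) (η' : K x L → ℂ) i) =
      if η = η' then (p : ℂ) else 0 := by
  have := Fintype.ofFinite (Subgroup.centralizer ({x} : Set G))
  have := Fintype.ofFinite (IrrCharacter (Subgroup.centralizer ({x} : Set G)))
  let C := Subgroup.centralizer ({x} : Set G)
  let S := SecondMain.inducedSet M C B
  have h1 : ∑ χ ∈ Finset.univ.filter (· ∈ B),
      dec (χ : G → ℂ) (η : K x L → ℂ) i * conj (dec (χ : G → ℂ) (η' : K x L → ℂ) i) =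
      ∑ ξ ∈ (⋃₀ S).toFinset, classInner (fun k => (ξ : C → ℂ) (toC k)) (η : K x L → ℂ) *
        conj (classInner (fun k => (ξ : C → ℂ) (toC k)) (η' : K x L → ℂ)) := by
    simp only [dec_eq, classInner, map_mul, map_sum, map_inv₀, Complex.conj_natCast,
      Complex.conj_conj, Finset.mul_sum, Finset.sum_mul]
    rw [Finset.sum_comm, Finset.sum_comm (s := (⋃₀ S).toFinset)]
    refine Finset.sum_congr rfl fun a _ => ?_
    rw [Finset.sum_comm, Finset.sum_comm (s := (⋃₀ S).toFinset)]
    refine Finset.sum_congr rfl fun b _ => ?_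
    have h0 := SecondMain.colSum_eq_sum hM hB (hS.exists_pow_pw hi)
      (fun g => hS.mem_centralizer_pw hi g) (hS.regular_toC b) (hS.regular_toC a)
    simp only [SecondMain.colSum] at h0
    rw [SecondMain.finsum_blocks_eq hM (fun c hc => hc.1),
      finsum_mem_eq_finite_toFinset_sum _ (Set.toFinite B),
      show (Set.toFinite B).toFinset = Finset.univ.filter (· ∈ B) by ext; simp,
      finsum_mem_eq_toFinset_sum] at h0
    refine Eq.trans ?_ ((congrArg (fun z => (Nat.card (K x L) : ℂ)⁻¹ * (Nat.card (K x L) : ℂ)⁻¹ *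
      (conj ((η : K x L → ℂ) b) * (η' : K x L → ℂ) a) * z) h0).trans ?_)
    · rw [Finset.mul_sum]
      exact Finset.sum_congr rfl fun χ _ => by simp only [toC]; ring
    · rw [Finset.mul_sum]
      exact Finset.sum_congr rfl fun ξ _ => by ring
  rw [h1, Finset.sum_subset (Finset.subset_univ _) (fun ξ _ hξ => ?_)]
  · have hf := Char.classFunction_eq_sum (isClassFunction_extC hS (irr_class η'))
    have h2 : classInner (extC (η' : K x L → ℂ)) (extC (η : K x L → ℂ)) =
        ∑ ξ : IrrCharacter C, classInner (extC (η' : K x L → ℂ)) (ξ : C → ℂ) *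
          conj (classInner (extC (η : K x L → ℂ)) (ξ : C → ℂ)) := by
      conv_lhs => rw [hf, Char.classInner_sum_left]
      simp only [Char.classInner_smul_left, Char.classInner_conj_symm]
      congr!
    have hres : (fun k => extC (η : K x L → ℂ) (toC k)) = (η : K x L → ℂ) := funext (extC_apply _)
    rw [classInner_extC hS, hres] at h2
    simp only [classInner_extC hS, map_mul, map_inv₀, Complex.conj_natCast,
      Char.classInner_conj_symm] at h2
    have hp0 : (p : ℂ) ≠ 0 := Nat.cast_ne_zero.mpr hS.hp.ne_zero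
    have h3 : classInner (η' : K x L → ℂ) (η : K x L → ℂ) = if η = η' then 1 else 0 := by
      split_ifs with e
      · rw [e, Char.classInner_irr_self η'.2]
      · exact Char.classInner_irr_of_ne η'.2 η.2 fun h => e (Subtype.ext h).symm
    calc _ = (p : ℂ) * (p : ℂ) * ∑ ξ : IrrCharacter C,
          (p : ℂ)⁻¹ * classInner (η' : K x L → ℂ) (fun k => (ξ : C → ℂ) (toC k)) *
            ((p : ℂ)⁻¹ * classInner (fun k => (ξ : C → ℂ) (toC k)) (η : K x L → ℂ)) := by
          rw [Finset.mul_sum]
          refine Finset.sum_congr rfl fun ξ _ => ?_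
          rw [Char.classInner_conj_symm]
          field_simp
      _ = _ := by
          rw [← h2, h3]
          split_ifs <;> simp [hp0]
  · by_cases h' : classInner (fun k => (ξ : C → ℂ) (toC k)) (η : K x L → ℂ) = 0
    · rw [h', zero_mul]
    · exact absurd (Set.mem_toFinset.mpr ((mem_induced_iff hS hM h' hB).mpr hη)) hξ

omit hM

/-- Conjugation by an element of `L` on `K`. -/
noncomputable def cj (l : L) : K x L ≃* K x L :=
  haveI := hS.normal_K
  MulAut.conjNormal l

theorem cj_apply (l : L) (k : K x L) : ((cj hS l k : K x L) : L) = l * (k : L) * l⁻¹ := rfl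

/-- The conjugate of a character of `K`. -/
noncomputable def cjIrr (l : L) (η : IrrCharacter (K x L)) : IrrCharacter (K x L) :=
  ⟨fun k => (η : K x L → ℂ) (cj hS l k), Char.IsIrrCharacter.comp_equiv η.2 (cj hS l)⟩

theorem cjIrr_one (η : IrrCharacter (K x L)) : cjIrr hS 1 η = η := by
  refine Subtype.ext (funext fun k => congrArg (η : K x L → ℂ) (Subtype.ext ?_))
  rw [cj_apply, one_mul, inv_one, mul_one]

theorem cjIrr_cjIrr (l l' : L) (η : IrrCharacter (K x L)) :
    cjIrr hS l (cjIrr hS l' η) = cjIrr hS (l' * l) η := by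
  refine Subtype.ext (funext fun k => congrArg (η : K x L → ℂ) (Subtype.ext ?_))
  simp only [cj_apply]
  group

theorem cjIrr_eq_iff (l : L) (η : IrrCharacter (K x L)) :
    cjIrr hS l η = η ↔ ∀ k k' : K x L, (k' : L) = l * (k : L) * l⁻¹ →
      (η : K x L → ℂ) k' = (η : K x L → ℂ) k := by
  constructor
  · intro h k k' e
    conv_rhs => rw [← h]
    exact congrArg (η : K x L → ℂ) (Subtype.ext e)
  · intro h
    exact Subtype.ext (funext fun k => h k _ (cj_apply hS l k))

theorem omega_comp_cj (l : L) (η : IrrCharacter (K x L)) (f : K x L → ℂ) :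
    omega (cjIrr hS l η : K x L → ℂ) (fun k => f (cj hS l k)) = omega (η : K x L → ℂ) f := by
  have := Fintype.ofFinite (K x L)
  rw [omega_eq_sum, omega_eq_sum]
  show (∑ k, f (cj hS l k) * (η : K x L → ℂ) (cj hS l k)) / (η : K x L → ℂ) (cj hS l 1) = _
  rw [map_one]
  congr 1
  exact Fintype.sum_equiv (cj hS l).toEquiv _ (fun k => f k * (η : K x L → ℂ) k) fun _ => rfl

theorem lies_cjIrr {B : Set (IrrCharacter G)} (l : L) {η : IrrCharacter (K x L)} :
    Lies M x L B (cjIrr hS l η) ↔ Lies M x L B η := by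
  unfold Lies
  rw [← omega_comp_cj hS l η (fun k => blockCoeff B ((k : L) : G))]
  have e : (fun k : K x L => blockCoeff B (((cj hS l k : K x L) : L) : G)) =
      fun k : K x L => blockCoeff B ((k : L) : G) := funext fun k => by
    rw [cj_apply, Subgroup.coe_mul, Subgroup.coe_mul, Subgroup.coe_inv,
      isClassFunction_blockCoeff B]
  rw [e]

theorem dec_cjIrr [Fintype (K x L)] (χ : IrrCharacter G) (l : L) (η : IrrCharacter (K x L))
    (i : ZMod p) : dec (χ : G → ℂ) (cjIrr hS l η : K x L → ℂ) i =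
      dec (χ : G → ℂ) (η : K x L → ℂ) ((alpha hS l : ZMod p) * i) := by
  rw [dec_eq, dec_eq, classInner, classInner]
  congr 1
  refine Fintype.sum_equiv (cj hS l).toEquiv _ _ fun k => ?_
  show _ = (χ : G → ℂ) (pw x ((alpha hS l : ZMod p) * i) * (((cj hS l k : K x L) : L) : G)) *
    conj ((η : K x L → ℂ) (cj hS l k))
  rw [cj_apply, ← alpha_spec hS l i, Subgroup.coe_mul, Subgroup.coe_mul, Subgroup.coe_inv,
    show (l : G) * pw x i * (l : G)⁻¹ * ((l : G) * ((k : L) : G) * (l : G)⁻¹) =
      (l : G) * (pw x i * ((k : L) : G)) * (l : G)⁻¹ by group, irr_class χ]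
  rfl

include hM

/-- The characters lying under one block form one orbit. -/
theorem orbit {B : Set (IrrCharacter G)} (hB : IsPBlock M B) {η η' : IrrCharacter (K x L)}
    (h : Lies M x L B η) (h' : Lies M x L B η') : ∃ l : L, cjIrr hS l η = η' := by
  classical
  by_contra hne
  push Not at hne
  have := Fintype.ofFinite L
  have := Fintype.ofFinite (K x L)
  let e : K x L → ℂ := ofOmega (blockInd {η})
  let f : K x L → ℂ := fun k => ∑ l : L, e (cj hS l k)
  let z : G → ℂ := fun g => if hg : ∃ k : K x L, IsConj ((k : L) : G) g then f hg.choose else 0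
  have hf : ∀ (l : L) (k : K x L), f (cj hS l k) = f k := by
    intro l k
    refine Fintype.sum_equiv (Equiv.mulRight l) _ _ fun m => congrArg e (Subtype.ext ?_)
    simp only [cj_apply, Equiv.coe_mulRight]
    group
  have hfK : ∀ k k' : K x L, IsConj ((k : L) : G) ((k' : L) : G) → f k = f k' := by
    intro k k' hc
    obtain ⟨l, hl⟩ := hS.fusion hc
    rw [← hf l k, show cj hS l k = k' from Subtype.ext ((cj_apply hS l k).trans hl)]
  have hzK : ∀ k : K x L, z ((k : L) : G) = f k := by
    intro k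
    have hex : ∃ k' : K x L, IsConj ((k' : L) : G) ((k : L) : G) := ⟨k, IsConj.refl _⟩
    simp only [z, dif_pos hex]
    exact hfK _ _ hex.choose_spec
  have hzc : IsClassFunction G z := by
    intro g a
    have hiff : IsConj g (a * g * a⁻¹) := isConj_iff.mpr ⟨a, rfl⟩
    by_cases hg : ∃ k : K x L, IsConj ((k : L) : G) g
    · obtain ⟨k, hk⟩ := hg
      have h1 : ∃ k : K x L, IsConj ((k : L) : G) (a * g * a⁻¹) := ⟨k, hk.trans hiff⟩
      have h2 : ∃ k : K x L, IsConj ((k : L) : G) g := ⟨k, hk⟩
      simp only [z, dif_pos h1, dif_pos h2]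
      exact hfK _ _ ((h1.choose_spec.trans hiff.symm).trans h2.choose_spec.symm)
    · have h1 : ¬ ∃ k : K x L, IsConj ((k : L) : G) (a * g * a⁻¹) :=
        fun ⟨k, hk⟩ => hg ⟨k, hk.trans hiff.symm⟩
      simp only [z, dif_neg h1, dif_neg hg]
  have heR : ∀ k, MemLocalRing M (e k) := by
    intro k
    show MemLocalRing M (ofOmega (blockInd {η}) k)
    rw [← blockCoeff_eq_ofOmega, blockCoeff, finsum_mem_singleton]
    refine memR_mul hM (memR_natCast_inv hM hS.not_dvd_card_K) (memR_mul hM
      (memR_of_isIntegral hM (isIntegral_irr η _)) ?_)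
    rw [← Char.IsCharacter.apply_inv (Char.IsIrrCharacter.isCharacter η.2)]
    exact memR_of_isIntegral hM (isIntegral_irr η _)
  have hzR : ∀ g, MemLocalRing M (z g) := by
    intro g
    simp only [z]
    split_ifs with hg
    · exact memR_sum hM _ fun l _ => heR _
    · exact memR_zero hM
  have hz0 : ∀ g, p ∣ orderOf g → z g = 0 := by
    intro g hg
    refine dif_neg fun ⟨k, hk⟩ => hS.regular_K k ?_
    obtain ⟨c, hc⟩ := isConj_iff.mp hk
    rwa [← hc, SecondMain.orderOf_conj] at hg
  have hω : ∀ φ : IrrCharacter (K x L), omega (φ : K x L → ℂ) (fun k => z ((k : L) : G)) =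
      ((Finset.univ.filter fun l : L => cjIrr hS l η = φ).card : ℂ) := by
    intro φ
    simp only [hzK, f]
    rw [omega_eq_sum]
    simp only [Finset.sum_mul]
    rw [Finset.sum_comm, Finset.sum_div, Finset.card_filter, Nat.cast_sum]
    refine Finset.sum_congr rfl fun l _ => ?_
    rw [← omega_eq_sum]
    have h1 := omega_comp_cj hS l (cjIrr hS l⁻¹ φ) e
    rw [cjIrr_cjIrr, inv_mul_cancel, cjIrr_one] at h1
    rw [h1, omega_ofOmega]
    by_cases hc : cjIrr hS l η = φ
    · rw [if_pos hc, blockInd_of_mem, Nat.cast_one]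
      rw [Set.mem_singleton_iff, ← hc, cjIrr_cjIrr, mul_inv_cancel, cjIrr_one]
    · rw [if_neg hc, blockInd_of_notMem, Nat.cast_zero]
      intro hc'
      rw [Set.mem_singleton_iff] at hc'
      exact hc (by rw [← hc', cjIrr_cjIrr, inv_mul_cancel, cjIrr_one])
  obtain ⟨χ, hχ⟩ := isPBlock_nonempty hM hB
  have h1 := memI_sub_trans hM (lies_congr hS hM hB h hχ hzc hzR hz0)
    (memI_sub_comm (lies_congr hS hM hB h' hχ hzc hzR hz0))
  rw [hω η, hω η', Finset.filter_false_of_mem (s := Finset.univ) (p := fun l : L => cjIrr hS l η = η')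
    (fun l _ => hne l), Finset.card_empty, Nat.cast_zero, sub_zero] at h1
  refine not_memI_natCast hM (fun hdvd => hS.hcop (hdvd.trans ?_)) h1
  haveI := hS.normal_K
  have heq : (Finset.univ.filter fun l : L => cjIrr hS l η = η).card =
      Nat.card (CharApp.inertia (K x L) (η : K x L → ℂ)) := by
    rw [← Fintype.card_subtype, ← Nat.card_eq_fintype_card]
    refine Nat.card_congr (Equiv.subtypeEquivRight fun l => ?_)
    rw [cjIrr_eq_iff hS, CharApp.mem_inertia_iff]
    exact ⟨fun h k => h k _ rfl, fun h k k' e => (congrArg _ (Subtype.ext e)).trans (h k)⟩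
  rw [heq]
  exact Subgroup.card_subgroup_dvd_card _

omit hM

/-- A sum over the singular elements. -/
theorem sum_singular [Fintype G] [Fintype (K x L)] [Fact p.Prime] [DecidableEq G] {f : G → ℂ}
    (hf : IsClassFunction G f) :
    ∑ g ∈ Finset.univ.filter (fun g : G => p ∣ orderOf g), f g =
      ((Subgroup.normalizer (Subgroup.zpowers x : Set G)).index : ℂ) *
        ∑ i ∈ Finset.univ.filter (fun i : ZMod p => i ≠ 0), ∑ k : K x L, f (pw x i * ((k : L) : G)) := by
  classical
  set N := Subgroup.normalizer (Subgroup.zpowers x : Set G) with hN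
  let W : Finset (ZMod p × K x L) := Finset.univ.filter fun ik => ik.1 ≠ 0
  let D : Finset (G × (ZMod p × K x L)) := Finset.univ ×ˢ W
  let π : G × (ZMod p × K x L) → G := fun t => t.1 * (pw x t.2.1 * ((t.2.2 : L) : G)) * t.1⁻¹
  have h1 : ∑ t ∈ D, f (π t) = (Nat.card G : ℂ) *
      ∑ i ∈ Finset.univ.filter (fun i : ZMod p => i ≠ 0), ∑ k : K x L, f (pw x i * ((k : L) : G)) := by
    simp only [D, π, hf _ _]
    rw [Finset.sum_product]
    dsimp only
    rw [Finset.sum_const, Finset.card_univ, nsmul_eq_mul, Nat.card_eq_fintype_card,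
      show W = (Finset.univ.filter fun i : ZMod p => i ≠ 0) ×ˢ (Finset.univ : Finset (K x L)) by
        ext; simp [W], Finset.sum_product]
  have hmaps : ∀ t ∈ D, π t ∈ Finset.univ.filter (fun g : G => p ∣ orderOf g) := by
    intro t ht
    refine Finset.mem_filter.mpr ⟨Finset.mem_univ _, ?_⟩
    simp only [π, SecondMain.orderOf_conj]
    exact hS.orderOf_pw_mul (Finset.mem_filter.mp (Finset.mem_product.mp ht).2).2 _
  have hfib : ∀ y ∈ Finset.univ.filter (fun g : G => p ∣ orderOf g),
      ∑ t ∈ D.filter (fun t => π t = y), f (π t) = (Nat.card N : ℂ) * f y := by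
    intro y hy
    rw [Finset.sum_congr rfl (g := fun _ => f y) (fun t ht => by rw [(Finset.mem_filter.mp ht).2]),
      Finset.sum_const, nsmul_eq_mul]
    congr 1
    norm_cast
    have hop : orderOf (y ^ (orderOf y / p)) = p :=
      orderOf_pow_orderOf_div (orderOf_pos y).ne' (Finset.mem_filter.mp hy).2
    obtain ⟨g₀, hg₀⟩ : ∃ g₀ : G, Commute x (g₀⁻¹ * y * g₀) := by
      let P : Sylow p G := Sylow.ofCard (Subgroup.zpowers x)
        (by rw [hS.card_zpowers_eq, hS.factorization_card, pow_one])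
      let Q : Sylow p G := Sylow.ofCard (Subgroup.zpowers (y ^ (orderOf y / p)))
        (by rw [Nat.card_zpowers, hop, hS.factorization_card, pow_one])
      obtain ⟨g, hg⟩ := MulAction.exists_smul_eq G P Q
      have hg' : (Subgroup.zpowers x).map (MulAut.conj g).toMonoidHom =
          Subgroup.zpowers (y ^ (orderOf y / p)) := by
        exact congrArg (fun S : Sylow p G => (S : Subgroup G)) hg
      have hmem : g * x * g⁻¹ ∈ Subgroup.zpowers (y ^ (orderOf y / p)) :=
        hg' ▸ Subgroup.mem_map_of_mem _ (Subgroup.mem_zpowers x)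
      obtain ⟨j, hj⟩ := Subgroup.mem_zpowers_iff.mp hmem
      refine ⟨g, ?_⟩
      have hc : Commute (g * x * g⁻¹) y := hj ▸ ((Commute.refl y).pow_left _).zpow_left j
      have := hc.map (MulAut.conj g⁻¹).toMonoidHom
      simpa [mul_assoc] using this
    have hdec : ∀ n : N, ∃ ik : ZMod p × K x L,
        (g₀ * (n : G))⁻¹ * y * (g₀ * (n : G)) = pw x ik.1 * ((ik.2 : L) : G) := by
      intro n
      obtain ⟨a, ha⟩ := hS.exists_pw ((Subgroup.mem_normalizer_iff.mp n.2 x).mp (Subgroup.mem_zpowers x))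
      have hc : Commute ((n : G) * x * (n : G)⁻¹) (g₀⁻¹ * y * g₀) := ha ▸ hS.commute_pw a hg₀
      have hc' := hc.map (MulAut.conj (n : G)⁻¹).toMonoidHom
      obtain ⟨i, k, hik⟩ := hS.decomp (g := (g₀ * (n : G))⁻¹ * y * (g₀ * (n : G)))
        (by simpa [mul_assoc] using hc')
      exact ⟨(i, k), hik⟩
    choose φ hφ using hdec
    rw [← Nat.card_eq_finsetCard]
    symm
    refine Nat.card_eq_of_bijective (fun n : N => ⟨(g₀ * (n : G), φ n), ?_⟩) ⟨fun a b hab => ?_, ?_⟩
    · have hy' : π (g₀ * (n : G), φ n) = y := by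
        simp only [π]; rw [← hφ n]; group
      refine Finset.mem_filter.mpr ⟨Finset.mem_product.mpr ⟨Finset.mem_univ _,
        Finset.mem_filter.mpr ⟨Finset.mem_univ _, fun h0 => ?_⟩⟩, hy'⟩
      have hs := (Finset.mem_filter.mp hy).2
      rw [← hy'] at hs
      simp only [π, SecondMain.orderOf_conj] at hs
      exact (hS.regular_pw_mul_iff _).mpr h0 hs
    · exact Subtype.ext (mul_left_cancel (congrArg Prod.fst (congrArg Subtype.val hab :)))
    rintro ⟨⟨g, i, k⟩, ht⟩
    obtain ⟨hD, he⟩ := Finset.mem_filter.mp ht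
    have hi : i ≠ 0 := (Finset.mem_filter.mp (Finset.mem_product.mp hD).2).2
    have hn : g₀⁻¹ * g ∈ N := by
      obtain ⟨j, k₀, hjk⟩ := hS.decomp hg₀
      have hj : j ≠ 0 := by
        intro h0
        have hs := (Finset.mem_filter.mp hy).2
        rw [show y = g₀ * (g₀⁻¹ * y * g₀) * g₀⁻¹ by group, SecondMain.orderOf_conj, hjk] at hs
        exact (hS.regular_pw_mul_iff _).mpr h0 hs
      have hconj : g₀⁻¹ * g * (pw x i * ((k : L) : G)) * (g₀⁻¹ * g)⁻¹ = pw x j * ((k₀ : L) : G) := by
        rw [← hjk, ← he]; simp only [π]; group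
      have h2 := (SecondMain.conj_parts (hS.exists_pow_pw hi) (hS.exists_pow_pw hj) (hS.regular_K k)
        (hS.regular_K k₀) (hS.commute_pw i (hS.commute_K k)) (hS.commute_pw j (hS.commute_K k₀)) hconj).1
      have hz : ∀ {i : ZMod p}, i ≠ 0 → Subgroup.zpowers (pw x i) = Subgroup.zpowers x := fun {i} hi =>
        Subgroup.eq_of_le_of_card_ge (Subgroup.zpowers_le.mpr (hS.pw_mem i))
          (by rw [Nat.card_zpowers, Nat.card_zpowers, hS.orderOf_pw hi, hS.hx])
      rw [hN, Subgroup.mem_normalizer_iff_map_conj_eq]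
      conv_lhs => rw [← hz hi, MonoidHom.map_zpowers]
      simp only [MonoidHom.coe_coe, MulAut.conj_apply]
      rw [h2, hz hj]
    refine ⟨⟨_, hn⟩, Subtype.ext (Prod.ext (mul_inv_cancel_left g₀ g) ?_)⟩
    have h2 := hφ ⟨_, hn⟩
    simp only [mul_inv_cancel_left] at h2
    have he' : g⁻¹ * y * g = pw x i * ((k : L) : G) := by
      rw [← he]; simp only [π]; group
    obtain ⟨h3, h4⟩ := hS.decomp_unique (h2.symm.trans he')
    exact Prod.ext h3 h4
  rw [← Finset.sum_fiberwise_of_maps_to hmaps, Finset.sum_congr rfl hfib, ← Finset.mul_sum,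
    ← N.card_mul_index, Nat.cast_mul, mul_assoc] at h1
  exact mul_left_cancel₀ (Nat.cast_ne_zero.mpr (Nat.card_pos (α := N)).ne') h1

end Cfsg.Agent.CyclicDefect
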