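/-
Non-projective homomorphisms to simple modules of the normalizer, in characteristic `p`
(namespace `Cfsg.Agent.CyclicDefect`).

Main results: `Good` (`q : X → S` commutes with the normalizer and is not killed by the relative
trace), `exists_good_irreducible` (a simple `G`-module of the block with such a map onto a given
simple `L`-module), `good_unique` (a simple `G`-module has such maps onto only one).
-/
import Cfsg.Agent.Lib.CyclicDefect.Setup
import Cfsg.Agent.Lib.ModRep.Basic

set_option autoImplicit false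
set_option linter.unusedSectionVars false
set_option linter.style.haveILetI false

namespace Cfsg.Agent.CyclicDefect

open Cfsg Representation

universe w

variable {G : Type*} [Group G] {p : ℕ} {x : G} {L : Subgroup G} {k : Type*} [Field k]

/-- A map onto an `L`-module commuting with the normalizer and nonzero on the kernel of the trace. -/
def Good (p : ℕ) (x : G) {X : Type*} [AddCommGroup X] [Module k X] (π : Representation k G X)
    {S : Type*} [AddCommGroup S] [Module k S] (τ : Representation k L S) : Prop :=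
  ∃ q : X →ₗ[k] S, (∀ v, q (π x v) = q v) ∧ (∀ (l : L) (v : X), q (π (l : G) v) = τ l (q v)) ∧
    ∃ v, ((π x - 1) ^ (p - 1)) v = 0 ∧ q v ≠ 0

/-- The action of a function on the group. -/
noncomputable def actOn [Fintype G] {X : Type*} [AddCommGroup X] [Module k X]
    (π : Representation k G X) (a : G → k) : Module.End k X :=
  ∑ g, a g • π g

theorem actOn_apply [Fintype G] {X : Type*} [AddCommGroup X] [Module k X]
    (π : Representation k G X) (a : G → k) (v : X) : actOn π a v = ∑ g, a g • π g v := by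
  simp [actOn, LinearMap.sum_apply]

/-- The right regular representation on functions. -/
def funRep (k : Type*) [Field k] (H : Type*) [Group H] : Representation k H (H → k) where
  toFun g := LinearMap.funLeft k k (· * g)
  map_one' := LinearMap.ext fun f => funext fun y => congrArg f (mul_one y)
  map_mul' g h := LinearMap.ext fun f => funext fun y => congrArg f (mul_assoc y g h).symm

theorem funRep_apply {H : Type*} [Group H] (g : H) (f : H → k) (y : H) :
    funRep k H g f y = f (y * g) := rfl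

theorem exists_factor {X Y S : Type*} [AddCommGroup X] [Module k X] [AddCommGroup Y] [Module k Y]
    [AddCommGroup S] [Module k S] (f : X →ₗ[k] Y) (q : X →ₗ[k] S)
    (h : LinearMap.ker f ≤ LinearMap.ker q) : ∃ g : Y →ₗ[k] S, g.comp f = q := by
  obtain ⟨g, hg⟩ := LinearMap.exists_extend
    (((LinearMap.ker f).liftQ q h).comp f.quotKerEquivRange.symm.toLinearMap)
  refine ⟨g, LinearMap.ext fun v => ?_⟩
  have := LinearMap.congr_fun hg ⟨f v, LinearMap.mem_range_self f v⟩
  refine this.trans ?_
  show (LinearMap.ker f).liftQ q h (f.quotKerEquivRange.symm ⟨f v, _⟩) = q v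
  rw [LinearMap.quotKerEquivRange_symm_apply_image f v]
  rfl

theorem sum_eq_zero_of_free {ι α A : Type*} [AddCommMonoid A] [DecidableEq α] [Fintype ι]
    (act : ι → α → α) (h : α → A) (hinj : ∀ a, Function.Injective fun i => act i a)
    (hmem : ∀ a, ∃ i, act i a = a) (hclosed : ∀ i j a, ∃ l, act i (act j a) = act l a)
    (hback : ∀ i a, ∃ j, act j (act i a) = a) (hsum : ∀ a, ∑ i, h (act i a) = 0) (s : Finset α)
    (hs : ∀ a ∈ s, ∀ i, act i a ∈ s) : ∑ a ∈ s, h a = 0 := by
  induction s using Finset.strongInduction with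
  | H s ih =>
    rcases s.eq_empty_or_nonempty with rfl | ⟨a, ha⟩
    · rw [Finset.sum_empty]
    set o := Finset.univ.image fun i => act i a with ho
    have hsub : o ⊆ s := fun b hb => by
      obtain ⟨i, -, rfl⟩ := Finset.mem_image.mp hb
      exact hs a ha i
    have hao : a ∈ o := by
      obtain ⟨i, hi⟩ := hmem a
      exact Finset.mem_image.mpr ⟨i, Finset.mem_univ _, hi⟩
    rw [← Finset.sum_sdiff hsub, ih (s \ o) (Finset.ssubset_iff.mpr ⟨a, fun h => (Finset.mem_sdiff.mp h).2 hao,
      Finset.insert_subset ha Finset.sdiff_subset⟩), zero_add, ho,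
      Finset.sum_image fun i _ j _ e => hinj a e, hsum]
    intro b hb i
    rw [Finset.mem_sdiff] at hb ⊢
    refine ⟨hs b hb.1 i, fun hm => hb.2 ?_⟩
    obtain ⟨j, -, hj⟩ := Finset.mem_image.mp hm
    obtain ⟨i', hi'⟩ := hback i b
    obtain ⟨l, hl⟩ := hclosed i' j a
    exact Finset.mem_image.mpr ⟨l, Finset.mem_univ _, by rw [← hl, hj, hi']⟩

variable [Finite G] (hS : Setting p x L)
include hS

theorem Setting.decomp_unique_L {i j : ZMod p} {l l' : L}
    (h : pw x i * (l : G) = pw x j * (l' : G)) : i = j ∧ l = l' := by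
  have h1 : pw x (i - j) = ((l' * l⁻¹ : L) : G) := by
    apply mul_left_cancel (a := pw x j)
    rw [← hS.pw_add, add_sub_cancel, Subgroup.coe_mul, Subgroup.coe_inv, ← mul_assoc, ← h,
      mul_inv_cancel_right]
  have hij : i - j = 0 := by
    by_contra hne
    exact hS.regular_L (l' * l⁻¹) (h1 ▸ (dvd_of_eq (hS.orderOf_pw hne).symm))
  rw [sub_eq_zero] at hij
  subst hij
  exact ⟨rfl, Subtype.ext (mul_left_cancel h)⟩

theorem Setting.mem_zpowers_of_pow_eq_one {n : G}
    (hn : n ∈ Subgroup.normalizer (Subgroup.zpowers x : Set G)) (h : n ^ p = 1) :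
    n ∈ Subgroup.zpowers x := by
  haveI := hS.fact
  obtain ⟨u, hu, l, hl, rfl⟩ := hS.hgen n hn
  obtain ⟨i, rfl⟩ := hS.exists_pw hu
  set a : ZMod p := (alpha hS ⟨l, hl⟩ : ZMod p)
  have hconj : ∀ j, pw x i * l * pw x j * (pw x i * l)⁻¹ = pw x (a * j) := fun j => by
    have hsp := alpha_spec hS ⟨l, hl⟩ j
    rw [show pw x i * l * pw x j * (pw x i * l)⁻¹ = pw x i * (l * pw x j * l⁻¹) * (pw x i)⁻¹ by group,
      show l * pw x j * l⁻¹ = pw x (a * j) from hsp,
      show pw x i * pw x (a * j) = pw x (a * j) * pw x i by rw [← hS.pw_add, ← hS.pw_add, add_comm],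
      mul_inv_cancel_right]
  have hiter : ∀ (m : ℕ) (j : ZMod p),
      (pw x i * l) ^ m * pw x j * ((pw x i * l) ^ m)⁻¹ = pw x (a ^ m * j) := fun m => by
    induction m with
    | zero => intro j; simp
    | succ m ih =>
      intro j
      rw [pow_succ', mul_inv_rev, show pw x i * l * (pw x i * l) ^ m * pw x j *
        (((pw x i * l) ^ m)⁻¹ * (pw x i * l)⁻¹) = pw x i * l * ((pw x i * l) ^ m * pw x j *
        ((pw x i * l) ^ m)⁻¹) * (pw x i * l)⁻¹ by group, ih, hconj, pow_succ', mul_assoc]
  have ha := hiter p 1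
  rw [h, one_mul, inv_one, mul_one, mul_one, ZMod.pow_card] at ha
  have ha1 : a = 1 := (hS.pw_inj ha).symm
  have hcomm : Commute x l := by
    have hsp := alpha_spec hS ⟨l, hl⟩ 1
    change l * pw x 1 * l⁻¹ = pw x (a * 1) at hsp
    rw [ha1, one_mul, hS.pw_one, mul_inv_eq_iff_eq_mul] at hsp
    exact hsp.symm
  rw [(hS.commute_pw i hcomm).mul_pow, hS.pw_pow, CharP.cast_eq_zero, zero_mul, hS.pw_zero, one_mul] at h
  have h2 : orderOf l ∣ Nat.card L := by
    have := orderOf_dvd_natCard (⟨l, hl⟩ : L)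
    rwa [← Subgroup.orderOf_coe] at this
  rw [orderOf_eq_one_iff.mp (Nat.eq_one_of_dvd_coprimes hS.coprime_L (orderOf_dvd_of_pow_eq_one h) h2), mul_one]
  exact hS.pw_mem i

theorem Setting.cast_card_ne_zero [CharP k p] : ((Nat.card L : ℕ) : k) ≠ 0 := by
  rw [Ne, CharP.cast_eq_zero_iff k p]
  exact hS.hcop

theorem Setting.L_mul_pw (l : L) (i : ZMod p) :
    (l : G) * pw x i = pw x ((alpha hS l : ZMod p) * i) * (l : G) := by
  rw [← alpha_spec hS l i, inv_mul_cancel_right]

section trace
variable [CharP k p] {X : Type*} [AddCommGroup X] [Module k X] (π : Representation k G X)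

theorem sum_pw [Fact p.Prime] : ∑ i : ZMod p, π (pw x i) = (π x - 1) ^ (p - 1) := by
  have h : (Polynomial.X - 1 : Polynomial k) ^ (p - 1) = ∑ i ∈ Finset.range p, Polynomial.X ^ i := by
    refine mul_right_cancel₀ (Polynomial.X_sub_C_ne_zero (1 : k)) ?_
    rw [map_one, ← pow_succ, Nat.sub_add_cancel hS.hp.pos, sub_pow_char, one_pow, geom_sum_mul]
  have h' := congrArg (Polynomial.aeval (π x)) h
  simp only [map_pow, map_sub, map_one, map_sum, Polynomial.aeval_X] at h'
  rw [h']
  simp only [← map_pow]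
  refine Finset.sum_bij (fun i _ => i.val) (fun i _ => Finset.mem_range.mpr (ZMod.val_lt i))
    (fun i _ j _ e => ZMod.val_injective p e) (fun n hn => ⟨(n : ZMod p), Finset.mem_univ _,
      ZMod.val_natCast_of_lt (Finset.mem_range.mp hn)⟩) fun i _ => rfl

theorem trace_mul_x : ((π x - 1) ^ (p - 1)) * π x = (π x - 1) ^ (p - 1) := by
  haveI := hS.fact
  rw [← sum_pw hS, Finset.sum_mul]
  refine Fintype.sum_equiv (Equiv.addRight 1) _ _ fun i => ?_
  rw [← map_mul, Equiv.coe_addRight, hS.pw_add, hS.pw_one]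

theorem trace_comm_L (l : L) :
    π (l : G) * (π x - 1) ^ (p - 1) = (π x - 1) ^ (p - 1) * π (l : G) := by
  haveI := hS.fact
  rw [← sum_pw hS, Finset.sum_mul, Finset.mul_sum]
  refine Fintype.sum_equiv (Equiv.mulLeft₀ (alpha hS l : ZMod p) (Units.ne_zero _)) _ _ fun i => ?_
  rw [← map_mul, ← map_mul, hS.L_mul_pw]
  rfl

omit [CharP k p] in
theorem q_pw {S : Type*} [AddCommGroup S] [Module k S] {q : X →ₗ[k] S}
    (hq : ∀ v, q (π x v) = q v) (i : ZMod p) (v : X) : q (π (pw x i) v) = q v := by
  have : ∀ n : ℕ, q (π (x ^ n) v) = q v := by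
    intro n
    induction n with
    | zero => rw [pow_zero, map_one, Module.End.one_apply]
    | succ n ih => rw [pow_succ', map_mul, Module.End.mul_apply, hq, ih]
  exact this _

end trace

section average
variable [CharP k p] {X Y : Type*} [AddCommGroup X] [Module k X] [AddCommGroup Y] [Module k Y]

omit hS [CharP k p] in
/-- The average of a linear map over `L`. -/
noncomputable def avgL [Fintype L] (τ₁ : Representation k L X) (τ₂ : Representation k L Y)
    (h : X →ₗ[k] Y) : X →ₗ[k] Y :=
  (Nat.card L : k)⁻¹ • ∑ l : L, (τ₂ l).comp (h.comp (τ₁ l⁻¹))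

omit hS [CharP k p] in
theorem avgL_apply [Fintype L] (τ₁ : Representation k L X) (τ₂ : Representation k L Y)
    (h : X →ₗ[k] Y) (v : X) :
    avgL τ₁ τ₂ h v = (Nat.card L : k)⁻¹ • ∑ l : L, τ₂ l (h (τ₁ l⁻¹ v)) := by
  simp [avgL, LinearMap.sum_apply]

omit hS [CharP k p] in
theorem avgL_comm [Fintype L] (τ₁ : Representation k L X) (τ₂ : Representation k L Y)
    (h : X →ₗ[k] Y) (m : L) (v : X) : avgL τ₁ τ₂ h (τ₁ m v) = τ₂ m (avgL τ₁ τ₂ h v) := by
  rw [avgL_apply, avgL_apply, map_smul, map_sum]
  congr 1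
  refine Fintype.sum_equiv (Equiv.mulLeft m⁻¹) _ _ fun l => ?_
  rw [← Module.End.mul_apply (τ₂ m), ← map_mul, Equiv.coe_mulLeft, mul_inv_cancel_left,
    mul_inv_rev, inv_inv, map_mul, Module.End.mul_apply]

theorem avgL_eq_of_comm [Fintype L] (τ₁ : Representation k L X) (τ₂ : Representation k L Y)
    (h : X →ₗ[k] Y) {v : X} {b : Y} (hv : ∀ l : L, τ₂ l (h (τ₁ l⁻¹ v)) = b) :
    avgL τ₁ τ₂ h v = b := by
  rw [avgL_apply, Finset.sum_congr rfl fun l _ => hv l, Finset.sum_const, Finset.card_univ,
    ← Nat.card_eq_fintype_card, ← Nat.cast_smul_eq_nsmul k, inv_smul_smul₀ hS.cast_card_ne_zero]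

end average

section descend
variable [Fintype G] [CharP k p] {S : Type*} [AddCommGroup S] [Module k S] {τ : Representation k L S}

/-- A good module contains a good irreducible subquotient, with the same action of `a`. -/
theorem exists_good_simple (a : G → k) :
    ∀ (n : ℕ) (X : Type w) [AddCommGroup X] [Module k X] [FiniteDimensional k X]
      (π : Representation k G X), Module.finrank k X = n → actOn π a = 1 → Good p x π τ →
      ∃ (d : ℕ) (φ : Representation k G (Fin d → k)), φ.IsIrreducible ∧ actOn φ a = 1 ∧ Good p x φ τ := by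
  classical
  have := Fintype.ofFinite L
  intro n
  induction n using Nat.strong_induction_on with
  | _ n ih =>
    intro X _ _ _ π hn hE hgood
    obtain ⟨q, hqx, hqL, v, hv, hqv⟩ := hgood
    by_cases hirr : ∀ W : Subrepresentation π, W.toSubmodule = ⊥ ∨ W.toSubmodule = ⊤
    · let b := Module.finBasis k X
      let e : X ≃ₗ[k] (Fin (Module.finrank k X) → k) := b.equivFun
      let φ : Representation k G (Fin (Module.finrank k X) → k) :=
        { toFun := fun g => e.conj (π g)
          map_one' := by rw [map_one]; exact e.conj_id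
          map_mul' := fun g h => by rw [map_mul]; exact e.conj_comp (π h) (π g) }
      have hφ : ∀ g w, φ g w = e (π g (e.symm w)) := fun g w => LinearEquiv.conj_apply_apply e _ w
      refine ⟨_, φ, ?_, ?_, q.comp e.symm.toLinearMap, fun w => ?_, fun l w => ?_, e v, ?_, ?_⟩
      · haveI : Nontrivial (Fin (Module.finrank k X) → k) :=
          e.symm.toEquiv.nontrivial_congr.mpr (nontrivial_of_ne v 0 fun h => hqv (by rw [h, map_zero]))
        haveI : Nontrivial (Subrepresentation φ) := ⟨⟨⊥, ⊤, fun h =>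
          bot_ne_top (congrArg Subrepresentation.toSubmodule h :)⟩⟩
        refine ⟨fun W => ?_⟩
        have hW := hirr ⟨W.toSubmodule.comap e.toLinearMap, fun g w hw => by
          show e (π g w) ∈ W.toSubmodule
          have := W.apply_mem_toSubmodule g hw
          rwa [hφ, LinearEquiv.coe_coe, LinearEquiv.symm_apply_apply] at this⟩
        refine hW.imp (fun h => Subrepresentation.toSubmodule_injective ?_)
          fun h => Subrepresentation.toSubmodule_injective ?_
        · have := congrArg (Submodule.map e.toLinearMap) h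
          rwa [Submodule.map_comap_eq_of_surjective e.surjective, Submodule.map_bot] at this
        · have := congrArg (Submodule.map e.toLinearMap) h
          rwa [Submodule.map_comap_eq_of_surjective e.surjective, Submodule.map_top,
            LinearEquiv.range] at this
      · refine LinearMap.ext fun w => ?_
        rw [actOn_apply]
        simp only [hφ]
        rw [Finset.sum_congr rfl fun g _ => (map_smul e (a g) (π g (e.symm w))).symm, ← map_sum,
          ← actOn_apply π a, hE, Module.End.one_apply, LinearEquiv.apply_symm_apply,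
          Module.End.one_apply]
      · show q (e.symm (φ x w)) = q (e.symm w)
        rw [hφ, LinearEquiv.symm_apply_apply, hqx]
      · show q (e.symm (φ (l : G) w)) = τ l (q (e.symm w))
        rw [hφ, LinearEquiv.symm_apply_apply, hqL]
      · have hc : φ x - 1 = e.conj (π x - 1) := by
          rw [map_sub, Module.End.one_eq_id (M := X), e.conj_id]; rfl
        have hp : ∀ (m : ℕ), (e.conj (π x - 1)) ^ m = e.conj ((π x - 1) ^ m) := fun m => by
          induction m with
          | zero => rw [pow_zero, pow_zero]; exact e.conj_id.symm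
          | succ m ihm => rw [pow_succ, pow_succ, ihm]; exact (e.conj_comp _ _).symm
        rw [hc, hp, LinearEquiv.conj_apply_apply, LinearEquiv.symm_apply_apply, hv, map_zero]
      · show q (e.symm (e v)) ≠ 0
        rwa [LinearEquiv.symm_apply_apply]
    push Not at hirr
    obtain ⟨W, hW0, hW1⟩ := hirr
    set W' := W.toSubmodule with hW'
    let σ : Module.End k X := (π x - 1) ^ (p - 1)
    let πW := W.toRepresentation
    have hEW : actOn πW a = 1 := LinearMap.ext fun w => Subtype.ext (by
      have := LinearMap.congr_fun hE (w : X)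
      rw [actOn_apply] at this
      rw [actOn_apply, Submodule.coe_sum]
      exact this)
    have hpowW : ∀ (m : ℕ) (w : W'), ((((πW x - 1) ^ m) w : W') : X) = ((π x - 1) ^ m) (w : X) := fun m => by
      induction m with
      | zero => intro w; simp
      | succ m ihm =>
        intro w
        rw [pow_succ, pow_succ, Module.End.mul_apply, Module.End.mul_apply, ihm]
        rfl
    by_cases hcase : ∃ w : W', σ (w : X) = 0 ∧ q (w : X) ≠ 0
    · obtain ⟨w, hw0, hw1⟩ := hcase
      refine ih (Module.finrank k W') ?_ W' πW rfl hEW ?_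
      · rw [← hn]; exact Submodule.finrank_lt hW1
      · exact ⟨q.comp W'.subtype, fun u => hqx _, fun l u => hqL l _, w,
          Subtype.ext ((hpowW _ w).trans hw0), hw1⟩
    push Not at hcase
    obtain ⟨g, hg⟩ := exists_factor (σ.comp W'.subtype) (q.comp W'.subtype)
      (fun w hw => by
        rw [LinearMap.mem_ker] at hw ⊢
        exact hcase w hw)
    let A : X →ₗ[k] S := avgL (π.comp L.subtype) τ g
    let q2 : X →ₗ[k] S := q - A.comp σ
    have hσL : ∀ (l : L) (u : X), π (l : G) (σ u) = σ (π (l : G) u) := fun l u =>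
      LinearMap.congr_fun (trace_comm_L hS π l) u
    have hkill : W' ≤ LinearMap.ker q2 := by
      intro w hw
      rw [LinearMap.mem_ker, LinearMap.sub_apply, sub_eq_zero, LinearMap.comp_apply]
      refine (avgL_eq_of_comm hS _ _ g fun l => ?_).symm
      show τ l (g (π ((l⁻¹ : L) : G) (σ w))) = q w
      rw [hσL]
      have h1 := LinearMap.congr_fun hg ⟨π ((l⁻¹ : L) : G) w, W.apply_mem_toSubmodule _ hw⟩
      rw [LinearMap.comp_apply, LinearMap.comp_apply, LinearMap.comp_apply, Submodule.subtype_apply] at h1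
      rw [h1, hqL, ← Module.End.mul_apply, ← map_mul, mul_inv_cancel, map_one, Module.End.one_apply]
    let πQ := π.quotient W' fun g u hu => W.apply_mem_toSubmodule g hu
    have hQ : ∀ g u, πQ g (Submodule.Quotient.mk u) = Submodule.Quotient.mk (π g u) := fun _ _ => rfl
    refine ih (Module.finrank k (X ⧸ W')) ?_ (X ⧸ W') πQ rfl ?_ ⟨W'.liftQ q2 hkill, ?_, ?_, W'.mkQ v, ?_, ?_⟩
    · rw [← hn, ← W'.finrank_quotient_add_finrank]
      exact Nat.lt_add_of_pos_right (Nat.pos_of_ne_zero fun h0 => hW0 (Submodule.finrank_eq_zero.mp h0))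
    · refine LinearMap.ext fun u => ?_
      obtain ⟨u, rfl⟩ := Submodule.mkQ_surjective W' u
      rw [actOn_apply]
      have := congrArg W'.mkQ (LinearMap.congr_fun hE u)
      rw [actOn_apply, map_sum] at this
      simp only [map_smul] at this
      exact this
    · intro u
      obtain ⟨u, rfl⟩ := Submodule.mkQ_surjective W' u
      show q2 (π x u) = q2 u
      rw [LinearMap.sub_apply, LinearMap.sub_apply, LinearMap.comp_apply, LinearMap.comp_apply, hqx,
        show σ (π x u) = σ u from LinearMap.congr_fun (trace_mul_x hS π) u]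
    · intro l u
      obtain ⟨u, rfl⟩ := Submodule.mkQ_surjective W' u
      show q2 (π (l : G) u) = τ l (q2 u)
      rw [LinearMap.sub_apply, LinearMap.sub_apply, LinearMap.comp_apply, LinearMap.comp_apply, hqL,
        map_sub, ← hσL]
      exact congrArg _ (avgL_comm (π.comp L.subtype) τ g l (σ u))
    · have hpowQ : ∀ (m : ℕ) (u : X), ((πQ x - 1) ^ m) (W'.mkQ u) = W'.mkQ (((π x - 1) ^ m) u) := fun m => by
        induction m with
        | zero => intro u; simp
        | succ m ihm =>
          intro u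
          rw [pow_succ, pow_succ, Module.End.mul_apply, Module.End.mul_apply, ← ihm]
          rfl
      rw [hpowQ, hv, map_zero]
    · show q2 v ≠ 0
      rw [LinearMap.sub_apply, LinearMap.comp_apply, show σ v = 0 from hv, map_zero, sub_zero]
      exact hqv

end descend

section existence
variable [Fintype G] [CharP k p]

/-- A simple module of the block over a given simple module of `L`. -/
theorem exists_good_irreducible (a : G → k) (hac : ∀ g h : G, a (h * g * h⁻¹) = a g)
    (haa : ∀ g, ∑ y, a y * a (y⁻¹ * g) = a g) (ha0 : ∀ g, p ∣ orderOf g → a g = 0)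
    [Fintype (K x L)] (S : Subrepresentation (funRep k L)) (hne : S.toSubmodule ≠ ⊥)
    (hfix : ∀ s ∈ S.toSubmodule, ∀ l : L, ∑ c : K x L, a ((c : L) : G) * s (l * (c : L)) = s l) :
    ∃ (d : ℕ) (φ : Representation k G (Fin d → k)), φ.IsIrreducible ∧ actOn φ a = 1 ∧
      Good p x φ S.toRepresentation := by
  classical
  haveI := hS.fact
  have := Fintype.ofFinite L
  obtain ⟨s, hs, hs0⟩ := Submodule.exists_mem_ne_zero_of_ne_bot hne
  let π : Representation k G (G → k) := funRep k G
  let E : Module.End k (G → k) := actOn π a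
  have hE_apply : ∀ (f : G → k) (g : G), E f g = ∑ y, a y * f (g * y) := fun f g => by
    simp [E, π, actOn_apply, Finset.sum_apply, funRep_apply]
  have hEE : ∀ f, E (E f) = E f := by
    intro f
    funext g
    simp only [hE_apply, Finset.mul_sum]
    conv_rhs => enter [2, y]; rw [← haa y, Finset.sum_mul]
    conv_rhs => rw [Finset.sum_comm]
    refine Finset.sum_congr rfl fun y _ => ?_
    refine Fintype.sum_equiv (Equiv.mulLeft y) _ _ fun z => ?_
    rw [Equiv.coe_mulLeft, inv_mul_cancel_left, mul_assoc, mul_assoc]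
  have hEπ : ∀ g f, π g (E f) = E (π g f) := by
    intro g f
    funext h
    rw [funRep_apply, hE_apply, hE_apply]
    refine Fintype.sum_equiv (MulAut.conj g).toEquiv _ _ fun y => ?_
    show _ = a (g * y * g⁻¹) * f (h * (g * y * g⁻¹) * g)
    rw [hac]
    congr 2
    group
  let X : Subrepresentation π :=
    { toSubmodule :=
        { carrier := {f | (∀ g, f (x * g) = f g) ∧ E f = f}
          add_mem' := fun {f f'} hf hf' => ⟨fun g => by simp [hf.1 g, hf'.1 g], by rw [map_add, hf.2, hf'.2]⟩
          zero_mem' := ⟨fun g => rfl, map_zero _⟩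
          smul_mem' := fun c f hf => ⟨fun g => by simp [hf.1 g], by rw [map_smul, hf.2]⟩ }
      apply_mem_toSubmodule := fun g f hf => ⟨fun h => by
        show funRep k G g f (x * h) = funRep k G g f h
        rw [funRep_apply, funRep_apply, mul_assoc, hf.1], by rw [← hEπ, hf.2]⟩ }
  let πX := X.toRepresentation
  obtain ⟨Pr, hPr⟩ := LinearMap.exists_extend (LinearMap.id : S.toSubmodule →ₗ[k] S.toSubmodule)
  let pr : (L → k) →ₗ[k] S.toSubmodule := avgL (funRep k L) S.toRepresentation Pr
  have hpr : ∀ f (hf : f ∈ S.toSubmodule), pr f = ⟨f, hf⟩ := by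
    intro f hf
    refine avgL_eq_of_comm hS _ _ _ fun l => ?_
    rw [show Pr (funRep k L l⁻¹ f) = S.toRepresentation l⁻¹ ⟨f, hf⟩ from
      LinearMap.congr_fun hPr (S.toRepresentation l⁻¹ ⟨f, hf⟩)]
    rw [← Module.End.mul_apply, ← map_mul, mul_inv_cancel, map_one, Module.End.one_apply]
  let q : X.toSubmodule →ₗ[k] S.toSubmodule :=
    pr.comp ((LinearMap.funLeft k k (Subtype.val : L → G)).comp X.toSubmodule.subtype)
  let fs : G → k := fun g => if h : ∃ il : ZMod p × L, g = pw x il.1 * (il.2 : G) then s h.choose.2 else 0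
  have hfs : ∀ (i : ZMod p) (l : L), fs (pw x i * (l : G)) = s l := fun i l => by
    have h : ∃ il : ZMod p × L, pw x i * (l : G) = pw x il.1 * (il.2 : G) := ⟨(i, l), rfl⟩
    simp only [fs, dif_pos h]
    rw [← (hS.decomp_unique_L h.choose_spec).2]
  have hfs0 : ∀ g, (¬ ∃ il : ZMod p × L, g = pw x il.1 * (il.2 : G)) → fs g = 0 := fun g h => dif_neg h
  have hfsx : ∀ (i : ZMod p) g, fs (pw x i * g) = fs g := by
    intro i g
    by_cases h : ∃ il : ZMod p × L, g = pw x il.1 * (il.2 : G)
    · obtain ⟨⟨j, l⟩, rfl⟩ := h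
      rw [← mul_assoc, ← hS.pw_add, hfs, hfs]
    · rw [hfs0 g h, hfs0]
      rintro ⟨⟨j, l⟩, e⟩
      exact h ⟨(-i + j, l), by rw [hS.pw_add, mul_assoc, ← e, ← mul_assoc, ← hS.pw_add, neg_add_cancel, hS.pw_zero, one_mul]⟩
  have hfs_mem : E fs ∈ X.toSubmodule := by
    refine ⟨fun g => ?_, hEE fs⟩
    rw [hE_apply, hE_apply]
    exact Finset.sum_congr rfl fun y _ => by
      rw [mul_assoc, ← hfsx 1 (g * y), hS.pw_one]
  have hval : (fun l : L => E fs (l : G)) = s := by
    funext l
    rw [hE_apply, ← Finset.sum_subset (Finset.subset_univ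
      (Finset.univ.image fun il : ZMod p × L => pw x il.1 * (il.2 : G))) (fun y _ hy => ?_),
      Finset.sum_image (fun a _ b _ h => Prod.ext (hS.decomp_unique_L h).1 (hS.decomp_unique_L h).2)]
    swap
    · rw [hfs0, mul_zero]
      rintro ⟨⟨i, m⟩, e⟩
      refine hy (Finset.mem_image.mpr ⟨((alpha hS l⁻¹ : ZMod p) * i, l⁻¹ * m), Finset.mem_univ _, ?_⟩)
      dsimp only at e ⊢
      rw [Subgroup.coe_mul, ← mul_assoc, ← hS.L_mul_pw, mul_assoc, ← e, Subgroup.coe_inv,
        inv_mul_cancel_left]
    rw [Fintype.sum_prod_type, Finset.sum_comm]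
    have hterm : ∀ (m : L) (i : ZMod p), fs ((l : G) * (pw x i * (m : G))) = s (l * m) := fun m i => by
      rw [← mul_assoc, hS.L_mul_pw, mul_assoc]
      exact hfs _ (l * m)
    simp only [hterm, ← Finset.sum_mul]
    rw [← hfix s hs l, ← Finset.sum_subset (Finset.subset_univ (Finset.univ.image fun c : K x L => (c : L))) ?_,
      Finset.sum_image (fun a _ b _ h => Subtype.ext h)]
    · refine Finset.sum_congr rfl fun c _ => ?_
      rw [Finset.sum_eq_single (0 : ZMod p) (fun i _ hi => ha0 _ (hS.orderOf_pw_mul hi c))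
        (fun h => absurd (Finset.mem_univ _) h), hS.pw_zero, one_mul]
    · intro m _ hm
      have hα : (alpha hS m : ZMod p) ≠ 1 := fun h => hm (Finset.mem_image.mpr
        ⟨⟨m, by rw [← ker_alpha hS, MonoidHom.mem_ker]; exact Units.ext h⟩, Finset.mem_univ _, rfl⟩)
      have hconst : ∀ i : ZMod p, a (pw x i * (m : G)) = a (m : G) := fun i => by
        set c : ZMod p := i / (1 - (alpha hS m : ZMod p)) with hc
        have hi : c + (alpha hS m : ZMod p) * (-c) = i := by
          rw [hc, mul_neg, ← sub_eq_add_neg, ← one_sub_mul, mul_div_cancel₀ _ (sub_ne_zero.mpr (Ne.symm hα))]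
        conv_rhs => rw [← hac (m : G) (pw x c)]
        have hinv : (pw x c)⁻¹ = pw x (-c) := inv_eq_of_mul_eq_one_right (by rw [← hS.pw_add, add_neg_cancel, hS.pw_zero])
        rw [hinv, mul_assoc, hS.L_mul_pw, ← mul_assoc, ← hS.pw_add, hi]
      rw [Finset.sum_congr rfl fun i _ => hconst i, Finset.sum_const, Finset.card_univ, ZMod.card,
        ← Nat.cast_smul_eq_nsmul k, CharP.cast_eq_zero, zero_smul, zero_mul]
  have hEX : actOn πX a = 1 := LinearMap.ext fun f => Subtype.ext (by
    rw [actOn_apply, Submodule.coe_sum]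
    have := f.2.2
    rw [show E = actOn π a from rfl, actOn_apply] at this
    exact this)
  refine exists_good_simple hS a _ X.toSubmodule πX rfl hEX ⟨q, ?_, ?_, ⟨E fs, hfs_mem⟩, ?_, ?_⟩
  · intro f
    show pr (fun l : L => (f : G → k) ((l : G) * x)) = pr (fun l : L => (f : G → k) (l : G))
    congr 1
    funext l
    have hinv : ∀ (n : ℕ) g, (f : G → k) (x ^ n * g) = (f : G → k) g := by
      intro n g
      induction n with
      | zero => rw [pow_zero, one_mul]
      | succ n ihn => rw [pow_succ', mul_assoc, f.2.1, ihn]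
    conv_lhs => rw [← hS.pw_one (p := p), hS.L_mul_pw]
    exact hinv _ _
  · intro m f
    show pr (fun l : L => (f : G → k) ((l : G) * (m : G))) = S.toRepresentation m (pr fun l : L => (f : G → k) (l : G))
    rw [← avgL_comm]
    rfl
  · have hpow : ∀ (n : ℕ) (f : X.toSubmodule), ((((πX x - 1) ^ n) f : X.toSubmodule) : G → k) =
        ((π x - 1) ^ n) (f : G → k) := fun n => by
      induction n with
      | zero => intro f; simp
      | succ n ihn =>
        intro f
        rw [pow_succ, pow_succ, Module.End.mul_apply, Module.End.mul_apply, ihn]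
        rfl
    refine Subtype.ext ?_
    rw [hpow, ← sum_pw hS π]
    show (∑ i : ZMod p, π (pw x i)) (E fs) = 0
    simp only [LinearMap.sum_apply, hEπ, ← map_sum]
    convert map_zero E using 2
    funext g
    simp only [Finset.sum_apply, π, funRep_apply, Pi.zero_apply]
    by_cases h : ∃ il : ZMod p × L, g = pw x il.1 * (il.2 : G)
    · obtain ⟨⟨j, l⟩, rfl⟩ := h
      have : ∀ i : ZMod p, fs (pw x j * (l : G) * pw x i) = s l := fun i => by
        rw [mul_assoc, hS.L_mul_pw, ← mul_assoc, ← hS.pw_add, hfs]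
      rw [Finset.sum_congr rfl fun i _ => this i, Finset.sum_const, Finset.card_univ, ZMod.card,
        ← Nat.cast_smul_eq_nsmul k, CharP.cast_eq_zero, zero_smul]
    · refine Finset.sum_eq_zero fun i _ => hfs0 _ ?_
      rintro ⟨⟨j, l⟩, e⟩
      refine h ⟨(j + (alpha hS l : ZMod p) * -i, l), ?_⟩
      dsimp only at e ⊢
      rw [hS.pw_add, mul_assoc, ← hS.L_mul_pw, ← mul_assoc, ← e, mul_assoc, ← hS.pw_add, add_neg_cancel,
        hS.pw_zero, mul_one]
  · show pr (fun l : L => E fs (l : G)) ≠ 0
    rw [hval, hpr s hs]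
    exact fun h => hs0 (congrArg Subtype.val h :)

end existence

section uniqueness
variable [IsAlgClosed k] [CharP k p] {V : Type*} {S₁ S₂ : Type w} [AddCommGroup V] [Module k V]
  [FiniteDimensional k V] [AddCommGroup S₁] [Module k S₁] [AddCommGroup S₂] [Module k S₂]

/-- A simple module has good maps onto at most one simple module of `L`. -/
theorem good_unique {φ : Representation k G V} [φ.IsIrreducible] {τ₁ : Representation k L S₁}
    {τ₂ : Representation k L S₂} [τ₁.IsIrreducible] [τ₂.IsIrreducible]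
    (hne : IsEmpty (τ₁.Equiv τ₂)) (h₁ : Good p x φ τ₁) : ¬ Good p x φ τ₂ := by
  classical
  haveI := hS.fact
  have := Fintype.ofFinite L
  have := Fintype.ofFinite G
  rintro ⟨q₂, hx₂, hL₂, v₂, hv₂, hqv₂⟩
  obtain ⟨q, hqx, hqL, v, hv, hqv⟩ := h₁
  set Δ : Module.End k V := φ x - 1 with hΔ
  have hqΔ : ∀ u, q (Δ u) = 0 := fun u => by
    rw [hΔ, LinearMap.sub_apply, Module.End.one_apply, map_sub, hqx, sub_self]
  have hΔ2 : ∀ u, q₂ (Δ u) = 0 := fun u => by
    rw [hΔ, LinearMap.sub_apply, Module.End.one_apply, map_sub, hx₂, sub_self]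
  have hex : ∃ j, ∃ u, (Δ ^ j) u = 0 ∧ q u ≠ 0 := ⟨p - 1, v, hv, hqv⟩
  set j := Nat.find hex with hj
  obtain ⟨u₀, hu₀, hqu₀⟩ := Nat.find_spec hex
  obtain ⟨i₀, hi₀⟩ : ∃ i, j = i + 1 := by
    refine Nat.exists_eq_succ_of_ne_zero fun h0 => hqu₀ ?_
    rw [← hj, h0, pow_zero, Module.End.one_apply] at hu₀
    rw [hu₀, map_zero]
  have hmin : ∀ u, (Δ ^ i₀) u = 0 → q u = 0 := fun u hu =>
    by_contra fun h => Nat.find_min hex (show i₀ < Nat.find hex by omega) ⟨u, hu, h⟩
  obtain ⟨q', hq'⟩ := exists_factor (Δ ^ i₀) q hmin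
  have hq'Δ : ∀ u, q' ((Δ ^ (i₀ + 1)) u) = 0 := fun u => by
    rw [pow_succ, Module.End.mul_apply, ← LinearMap.comp_apply, hq', hqΔ]
  -- the kernel of `Δ ^ j` is invariant under `L`
  let φL : Representation k L V := φ.comp L.subtype
  set Kj : Submodule k V := LinearMap.ker (Δ ^ (i₀ + 1)) with hKj
  have hKinv : ∀ (l : L) u, u ∈ Kj → φ (l : G) u ∈ Kj := by
    intro l u hu
    rw [hKj, LinearMap.mem_ker] at hu ⊢
    -- `φ l` conjugates `Δ` to a multiple of `Δ`
    set a := (alpha hS l⁻¹ : ZMod p).val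
    have hcomm : φ ((l⁻¹ : L) : G) * Δ = (φ (pw x (alpha hS l⁻¹ : ZMod p)) - 1) * φ ((l⁻¹ : L) : G) := by
      rw [hΔ, mul_sub, sub_mul, mul_one, one_mul, ← map_mul, ← map_mul]
      conv_lhs => rw [← hS.pw_one (p := p), hS.L_mul_pw, mul_one]
    set Δ' : Module.End k V := φ (pw x (alpha hS l⁻¹ : ZMod p)) - 1 with hΔ'
    have hdvd : ∃ R : Module.End k V, Δ' = R * Δ ∧ Commute R Δ := by
      refine ⟨∑ i ∈ Finset.range a, φ x ^ i, ?_, ?_⟩
      · rw [hΔ', hΔ, geom_sum_mul, ← map_pow]
        rfl
      · exact Commute.sum_left _ _ _ fun i _ => ((Commute.refl _).pow_left i).sub_right (Commute.one_right _)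
    obtain ⟨R, hR, hRc⟩ := hdvd
    have hpow : ∀ n, φ ((l⁻¹ : L) : G) * Δ ^ n = R ^ n * Δ ^ n * φ ((l⁻¹ : L) : G) := by
      intro n
      induction n with
      | zero => simp
      | succ n ihn =>
        rw [pow_succ Δ, ← mul_assoc, ihn, mul_assoc _ (φ ((l⁻¹ : L) : G)), hcomm, hR, pow_succ R]
        simp only [mul_assoc]
        rw [← mul_assoc (Δ ^ n) R, (hRc.pow_right n).symm.eq]
        simp only [mul_assoc]
    have h1 := LinearMap.congr_fun (hpow (i₀ + 1)) (φ (l : G) u)
    simp only [Module.End.mul_apply] at h1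
    have h2 : φ ((l⁻¹ : L) : G) (φ (l : G) u) = u := by
      rw [← Module.End.mul_apply, ← map_mul, Subgroup.coe_inv, inv_mul_cancel, map_one, Module.End.one_apply]
    rw [h2, hu, map_zero] at h1
    have := congrArg (φ (l : G)) h1
    rwa [map_zero, ← Module.End.mul_apply, ← map_mul, Subgroup.coe_inv, mul_inv_cancel, map_one,
      Module.End.one_apply] at this
  -- an equivariant section of `q` into the kernel
  have hsurj : LinearMap.range (q.comp Kj.subtype) = ⊤ := by
    let W : Subrepresentation τ₁ := ⟨LinearMap.range (q.comp Kj.subtype), fun l w hw => by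
      obtain ⟨⟨u, hu⟩, rfl⟩ := hw
      exact ⟨⟨φ (l : G) u, hKinv l u hu⟩, hqL l u⟩⟩
    rcases IsSimpleOrder.eq_bot_or_eq_top W with h | h
    · refine absurd ?_ hqu₀
      have hm : q u₀ ∈ W.toSubmodule := ⟨⟨u₀, by rw [hKj, LinearMap.mem_ker, ← hi₀]; exact hu₀⟩, rfl⟩
      rw [h] at hm
      exact (Submodule.mem_bot k).mp hm
    · exact congrArg Subrepresentation.toSubmodule h
  obtain ⟨sec, hsec⟩ := LinearMap.exists_rightInverse_of_surjective _ hsurj
  let r₀ : S₁ →ₗ[k] V := avgL τ₁ φL (Kj.subtype.comp sec)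
  have hr₀q : ∀ s, q (r₀ s) = s := by
    intro s
    rw [avgL_apply, map_smul, map_sum]
    have : ∀ l : L, q (φL l ((Kj.subtype.comp sec) (τ₁ l⁻¹ s))) = s := fun l => by
      show q (φ (l : G) _) = s
      rw [hqL, show q ((Kj.subtype.comp sec) (τ₁ l⁻¹ s)) = τ₁ l⁻¹ s from LinearMap.congr_fun hsec _,
        ← Module.End.mul_apply, ← map_mul, mul_inv_cancel, map_one, Module.End.one_apply]
    rw [Finset.sum_congr rfl fun l _ => this l, Finset.sum_const, Finset.card_univ,
      ← Nat.card_eq_fintype_card, ← Nat.cast_smul_eq_nsmul k, inv_smul_smul₀ hS.cast_card_ne_zero]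
  have hr₀K : ∀ s, (Δ ^ (i₀ + 1)) (r₀ s) = 0 := by
    intro s
    rw [avgL_apply, map_smul, map_sum, Finset.sum_eq_zero, smul_zero]
    intro l _
    exact LinearMap.mem_ker.mp (hKinv l _ (sec _).2)
  have hzero : ∀ s, q₂ (r₀ s) = 0 := fun s =>
    LinearMap.congr_fun (ModRep.hom_eq_zero hne (q₂.comp r₀) fun l u => by
      show q₂ (r₀ (τ₁ l u)) = τ₂ l (q₂ (r₀ u))
      rw [show r₀ (τ₁ l u) = φL l (r₀ u) from avgL_comm _ _ _ l u]
      exact hL₂ l _) s
  -- an endomorphism commuting with the normalizer, projecting onto the image of the section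
  let f₀ : Module.End k V := ∑ i ∈ Finset.range (i₀ + 1), (Δ ^ i).comp (r₀.comp (q'.comp (Δ ^ (i₀ - i))))
  have hf₀_apply : ∀ u, f₀ u = ∑ i ∈ Finset.range (i₀ + 1), (Δ ^ i) (r₀ (q' ((Δ ^ (i₀ - i)) u))) :=
    fun u => by simp [f₀, LinearMap.sum_apply]
  have hf₀Δ : ∀ u, Δ (f₀ u) = f₀ (Δ u) := by
    intro u
    rw [hf₀_apply, hf₀_apply, map_sum, Finset.sum_range_succ, Finset.sum_range_succ']
    simp only [← Module.End.mul_apply, ← pow_succ', ← pow_succ]
    rw [Nat.sub_zero, hr₀K, add_zero, hq'Δ, map_zero, map_zero, add_zero]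
    refine Finset.sum_congr rfl fun i hi => ?_
    rw [show i₀ - (i + 1) + 1 = i₀ - i by have := Finset.mem_range.mp hi; omega]
  have hf₀x : ∀ u, φ x (f₀ u) = f₀ (φ x u) := fun u => by
    have h := hf₀Δ u
    rw [hΔ, LinearMap.sub_apply, LinearMap.sub_apply, Module.End.one_apply, Module.End.one_apply, map_sub] at h
    exact sub_left_injective h
  have hf₀pw : ∀ (i : ZMod p) u, φ (pw x i) (f₀ u) = f₀ (φ (pw x i) u) := fun i u => by
    have : ∀ (n : ℕ) u, φ (x ^ n) (f₀ u) = f₀ (φ (x ^ n) u) := fun n => by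
      induction n with
      | zero => intro u; simp
      | succ n ihn =>
        intro u
        rw [pow_succ', map_mul, Module.End.mul_apply, ihn, hf₀x, Module.End.mul_apply]
    exact this _ u
  have hqf₀ : ∀ u, q (f₀ u) = q u := fun u => by
    rw [hf₀_apply, map_sum, Finset.sum_range_succ', Finset.sum_eq_zero (fun i _ => by
      rw [pow_succ', Module.End.mul_apply, hqΔ]), zero_add, pow_zero, Module.End.one_apply, hr₀q,
      Nat.sub_zero, ← LinearMap.comp_apply, hq']
  have hq₂f₀ : ∀ u, q₂ (f₀ u) = 0 := fun u => by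
    rw [hf₀_apply, map_sum, Finset.sum_range_succ', Finset.sum_eq_zero (fun i _ => by
      rw [pow_succ', Module.End.mul_apply, hΔ2]), zero_add, pow_zero, Module.End.one_apply, hzero]
  let f : Module.End k V := avgL φL φL f₀
  have hfL : ∀ (l : L) u, f (φ (l : G) u) = φ (l : G) (f u) := fun l u => avgL_comm φL φL f₀ l u
  have hfpw : ∀ (i : ZMod p) u, f (φ (pw x i) u) = φ (pw x i) (f u) := by
    intro i u
    rw [avgL_apply, avgL_apply, map_smul, map_sum]
    congr 1
    refine Finset.sum_congr rfl fun l _ => ?_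
    show φ (l : G) (f₀ (φ ((l⁻¹ : L) : G) (φ (pw x i) u))) = φ (pw x i) (φ (l : G) (f₀ (φ ((l⁻¹ : L) : G) u)))
    have h1 : φ ((l⁻¹ : L) : G) (φ (pw x i) u) = φ (pw x ((alpha hS l⁻¹ : ZMod p) * i)) (φ ((l⁻¹ : L) : G) u) := by
      rw [← Module.End.mul_apply, ← map_mul, hS.L_mul_pw, map_mul, Module.End.mul_apply]
    rw [h1, ← hf₀pw, ← Module.End.mul_apply, ← map_mul, hS.L_mul_pw, map_mul, Module.End.mul_apply,
      ← mul_assoc, ← Units.val_mul, ← map_mul, mul_inv_cancel, map_one, Units.val_one, one_mul]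
  have hfN : ∀ n ∈ Subgroup.normalizer (Subgroup.zpowers x : Set G), ∀ u, f (φ n u) = φ n (f u) := by
    intro n hn u
    obtain ⟨z, hz, l, hl, rfl⟩ := hS.hgen n hn
    obtain ⟨i, rfl⟩ := hS.exists_pw hz
    rw [map_mul, Module.End.mul_apply, Module.End.mul_apply, hfpw, hfL ⟨l, hl⟩]
  have hqf : ∀ u, q (f u) = q u := fun u => by
    rw [avgL_apply, map_smul, map_sum]
    have : ∀ l : L, q (φL l (f₀ (φL l⁻¹ u))) = q u := fun l => by
      show q (φ (l : G) _) = q u
      rw [hqL, hqf₀]
      show τ₁ l (q (φ ((l⁻¹ : L) : G) u)) = q u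
      rw [hqL, ← Module.End.mul_apply, ← map_mul, mul_inv_cancel, map_one, Module.End.one_apply]
    rw [Finset.sum_congr rfl fun l _ => this l, Finset.sum_const, Finset.card_univ,
      ← Nat.card_eq_fintype_card, ← Nat.cast_smul_eq_nsmul k, inv_smul_smul₀ hS.cast_card_ne_zero]
  have hq₂f : ∀ u, q₂ (f u) = 0 := fun u => by
    rw [avgL_apply, map_smul, map_sum, Finset.sum_eq_zero, smul_zero]
    intro l _
    show q₂ (φ (l : G) _) = 0
    rw [hL₂, hq₂f₀, map_zero]
  -- the relative trace of `f`
  let N := Subgroup.normalizer (Subgroup.zpowers x : Set G)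
  have := Fintype.ofFinite (G ⧸ N)
  let F : G → Module.End k V := fun g => φ g * f * φ g⁻¹
  have hF : ∀ (g : G), ∀ n ∈ N, F (g * n) = F g := by
    intro g n hn
    refine LinearMap.ext fun u => ?_
    simp only [F, Module.End.mul_apply, mul_inv_rev, map_mul]
    rw [← hfN n hn, ← Module.End.mul_apply (φ n), ← map_mul, mul_inv_cancel, map_one, Module.End.one_apply]
  let T : Module.End k V := ∑ c : G ⧸ N, F c.out
  have hFout : ∀ g : G, F (g : G ⧸ N).out = F g := fun g => by
    obtain ⟨n, hn⟩ := QuotientGroup.mk_out_eq_mul N g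
    rw [hn, hF g _ n.2]
  have hTg : ∀ g u, T (φ g u) = φ g (T u) := by
    intro g u
    simp only [T, LinearMap.sum_apply, map_sum]
    refine Fintype.sum_equiv (MulAction.toPerm g⁻¹) _ _ fun c => ?_
    have hc : F ((g⁻¹ • c : G ⧸ N)).out = F (g⁻¹ * c.out) := by
      rw [← hFout (g⁻¹ * c.out), ← smul_eq_mul g⁻¹, MulAction.Quotient.coe_smul_out]
    show F c.out (φ g u) = φ g (F (g⁻¹ • c).out u)
    rw [hc]
    simp only [F, Module.End.mul_apply, mul_inv_rev, inv_inv, map_mul]
    rw [← Module.End.mul_apply (φ g) (φ g⁻¹), ← map_mul, mul_inv_cancel, map_one, Module.End.one_apply]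
  obtain ⟨c₀, hc₀⟩ := ModRep.exists_scalar φ T hTg
  have hkill : ∀ {W : Type _} [AddCommGroup W] [Module k W] (q : V →ₗ[k] W),
      (∀ u, q (φ x u) = q u) → ∀ w, ((φ x - 1) ^ (p - 1)) w = 0 →
        q (T w) = q (f w) := by
    intro W _ _ q hqx w hw
    let act : ZMod p → G ⧸ N → G ⧸ N := fun i c => pw x i • c
    have hone : F ((1 : G) : G ⧸ N).out = f := by rw [hFout]; simp [F]
    simp only [T, LinearMap.sum_apply, map_sum]
    rw [← Finset.add_sum_erase _ _ (Finset.mem_univ ((1 : G) : G ⧸ N)), hone, add_eq_left]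
    let c₁ : G ⧸ N := ((1 : G) : G ⧸ N)
    let act' : ZMod p → {c : G ⧸ N // c ≠ c₁} → {c : G ⧸ N // c ≠ c₁} := fun i c => ⟨pw x i • c.1, fun h => c.2 (by
      have hfix : (pw x i)⁻¹ • c₁ = c₁ := by
        show ((((pw x i)⁻¹ * 1 : G)) : G ⧸ N) = ((1 : G) : G ⧸ N)
        rw [QuotientGroup.eq, mul_one, mul_one, inv_inv]
        exact Subgroup.le_normalizer (hS.pw_mem i)
      rw [← inv_smul_smul (pw x i) c.1, h, hfix])⟩
    have hadd : ∀ i j (c : {c : G ⧸ N // c ≠ c₁}), act' i (act' j c) = act' (i + j) c := fun i j c =>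
      Subtype.ext (by show pw x i • pw x j • c.1 = pw x (i + j) • c.1; rw [hS.pw_add, mul_smul])
    have hzero' : ∀ c, act' 0 c = c := fun c => Subtype.ext (by show pw x 0 • c.1 = c.1; rw [hS.pw_zero, one_smul])
    rw [Finset.sum_subtype (Finset.univ.erase ((1 : G) : G ⧸ N)) (p := fun c => c ≠ c₁) (by simp [c₁])
      (fun c => q (F c.out w))]
    refine sum_eq_zero_of_free act' _ ?_ (fun c => ⟨0, hzero' c⟩) (fun i j c => ⟨i + j, hadd i j c⟩)
      (fun i c => ⟨-i, by rw [hadd, neg_add_cancel, hzero']⟩) ?_ _ (fun c _ i => Finset.mem_univ _)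
    · intro c i j hij
      dsimp only at hij
      by_contra hne'
      have h1 : act' (-j + i) c = c := by
        rw [← hadd, hij, hadd, neg_add_cancel, hzero']
      have hd : -j + i ≠ 0 := fun h => hne' (neg_add_eq_zero.mp h).symm
      obtain ⟨g, hg⟩ := QuotientGroup.mk_surjective c.1
      have h2 : pw x (-j + i) • c.1 = c.1 := congrArg Subtype.val h1
      rw [← hg] at h2
      have h3 : (pw x (-j + i) * g)⁻¹ * g ∈ N := QuotientGroup.eq.mp h2
      have h4 : g⁻¹ * pw x (-j + i) * g ∈ Subgroup.zpowers x := by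
        refine hS.mem_zpowers_of_pow_eq_one ?_ ?_
        · have := N.inv_mem h3
          rwa [show ((pw x (-j + i) * g)⁻¹ * g)⁻¹ = g⁻¹ * pw x (-j + i) * g by group] at this
        · have hc := conj_pow (a := g⁻¹) (b := pw x (-j + i)) (i := p)
          rw [inv_inv, hS.pw_pow, CharP.cast_eq_zero, zero_mul, hS.pw_zero, mul_one, inv_mul_cancel] at hc
          exact hc
      refine c.2 (hg.symm.trans ?_)
      rw [QuotientGroup.eq, mul_one]
      show g⁻¹ ∈ Subgroup.normalizer (Subgroup.zpowers x : Set G)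
      have hz : Subgroup.zpowers (pw x (-j + i)) = Subgroup.zpowers x :=
        Subgroup.eq_of_le_of_card_ge (Subgroup.zpowers_le.mpr (hS.pw_mem _))
          (by rw [Nat.card_zpowers, Nat.card_zpowers, hS.orderOf_pw hd, hS.hx])
      rw [Subgroup.mem_normalizer_iff_map_conj_eq]
      conv_lhs => rw [← hz, MonoidHom.map_zpowers]
      simp only [MonoidHom.coe_coe, MulAut.conj_apply, inv_inv]
      refine Subgroup.eq_of_le_of_card_ge (Subgroup.zpowers_le.mpr h4) ?_
      have ho : orderOf (g⁻¹ * pw x (-j + i) * g) = p := by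
        have := orderOf_injective (MulAut.conj g⁻¹).toMonoidHom (MulAut.conj g⁻¹).injective (pw x (-j + i))
        simpa [hS.orderOf_pw hd] using this
      rw [Nat.card_zpowers, Nat.card_zpowers, ho, hS.hx]
    · intro c
      have : ∀ i : ZMod p, q (F (act' i c).1.out w) = q (F c.1.out (φ (pw x (-i)) w)) := fun i => by
        show q (F (pw x i • c.1).out w) = _
        rw [show F (pw x i • c.1).out = F (pw x i * c.1.out) by
          rw [← hFout (pw x i * c.1.out), ← smul_eq_mul (pw x i), MulAction.Quotient.coe_smul_out]]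
        simp only [F, map_mul, mul_inv_rev, Module.End.mul_apply]
        rw [q_pw hS φ hqx, show (pw x i)⁻¹ = pw x (-i) from
          inv_eq_of_mul_eq_one_right (by rw [← hS.pw_add, add_neg_cancel, hS.pw_zero])]
      rw [Finset.sum_congr rfl fun i _ => this i, ← map_sum, ← map_sum,
        Fintype.sum_equiv (Equiv.neg (ZMod p)) (fun i => φ (pw x (-i)) w) (fun i => φ (pw x i) w) fun _ => rfl,
        ← LinearMap.sum_apply, sum_pw hS φ, hw, map_zero, map_zero]
  have e1 := hkill q hqx v hv
  rw [hc₀, map_smul, hqf] at e1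
  have hc1 : c₀ = 1 := by
    have := sub_eq_zero.mpr e1
    rw [← one_smul k (q v), ← mul_smul, ← sub_smul, smul_eq_zero, mul_one] at this
    exact sub_eq_zero.mp (this.resolve_right hqv)
  have e2 := hkill q₂ hx₂ v₂ hv₂
  rw [hc₀, hc1, one_smul, hq₂f] at e2
  exact hqv₂ e2

end uniqueness

end Cfsg.Agent.CyclicDefect
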