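/-
The lower bound for the number of modular characters of a block when `p` exactly divides `|G|`
(namespace `Cfsg.Agent.CyclicDefect`).

Main results: `card_U`, `exists_simples` (pairwise non-isomorphic simple modules of `L` over a character
of `K`), `mem_span_reductions` (traces of the block lie in the span of the reduced characters),
`card_U_le_blockRank`.
-/
import Cfsg.Agent.Lib.CyclicDefect.Sections
import Cfsg.Agent.Lib.CyclicDefect.StableHom
import Cfsg.Agent.Lib.CentralChar.Congr
import Cfsg.Agent.Lib.SecondMain.Ext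
import Cfsg.Agent.Lib.FullyRamified.Basic
import Cfsg.Agent.Lib.Clifford.AbelianQuotient

set_option autoImplicit false
set_option linter.unusedSectionVars false
set_option linter.style.haveILetI false

open scoped ComplexConjugate

namespace Cfsg.Agent.CyclicDefect

open Cfsg Blocks BrauerPairs

variable {G : Type*} [Group G] {p : ℕ} {x : G} {L : Subgroup G} {M : Ideal AlgInt}

/-- Integral functions whose reductions span an independent family. -/
theorem card_le_finrank {H : Type*} [Finite H] (hM : IsPModular p M) {ι κ : Type*} [Finite ι]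
    [Finite κ] (v : κ → H → ℂ) (hv : ∀ a h, MemLocalRing M (v a h)) (τ : ι → H → Res M)
    (hτ : letI := ModRep.resField hM; LinearIndependent (Res M) τ)
    (hmem : ∀ i, ∃ b : κ → Res M, ∀ h, τ i h = ∑ᶠ a, b a * res M (v a h)) :
    Nat.card ι ≤ Module.finrank ℂ (Submodule.span ℂ (Set.range v)) := by
  classical
  letI := ModRep.resField hM
  have := Fintype.ofFinite H
  have := Fintype.ofFinite ι
  have := Fintype.ofFinite κ
  choose b hb using hmem
  simp only [finsum_eq_sum_of_fintype] at hb
  let w : ι → H → ℂ := fun i => ∑ a, unres (b i a) • v a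
  have hwR : ∀ i h, MemLocalRing M (w i h) := fun i h => by
    simp only [w, Finset.sum_apply, Pi.smul_apply, smul_eq_mul]
    exact memR_sum hM _ fun a _ => memR_mul hM (memR_unres hM _) (hv a h)
  have hwres : ∀ i h, res M (w i h) = τ i h := fun i h => by
    simp only [w, Finset.sum_apply, Pi.smul_apply, smul_eq_mul]
    rw [hb, res_sum hM _ fun a _ => memR_mul hM (memR_unres hM _) (hv a h)]
    exact Finset.sum_congr rfl fun a _ => by rw [res_mul hM (memR_unres hM _) (hv a h), res_unres hM]
  obtain ⟨R, hR⟩ := LinearMap.exists_leftInverse_of_injective _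
    (LinearMap.ker_eq_bot.mpr (Fintype.linearIndependent_iff'ₛ.mp hτ |> fun h => h))
  let B : Matrix H ι ℂ := fun h i => unres (R (Pi.single h 1) i)
  let A : Matrix ι H ℂ := fun i h => w i h
  have hAB : ∀ i l, MemLocalIdeal M ((A * B) i l - if i = l then 1 else 0) := by
    intro i l
    have hmemR : MemLocalRing M ((A * B) i l) :=
      memR_sum hM _ fun h _ => memR_mul hM (hwR i h) (memR_unres hM _)
    have h2 : R (τ i) = Pi.single i 1 := by
      have := LinearMap.congr_fun hR (Pi.single i 1)
      simp only [LinearMap.comp_apply, LinearMap.id_apply] at this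
      convert this using 2
      simp [Finset.sum_apply, Pi.single_apply]
    have h3 : ∑ h, τ i h * R (Pi.single h 1) l = R (τ i) l := by
      conv_rhs => rw [pi_eq_sum_univ' (τ i), map_sum, Finset.sum_apply]
      refine Finset.sum_congr rfl fun h _ => ?_
      rw [map_smul, Pi.smul_apply, smul_eq_mul]
    have h4 : res M ((A * B) i l) = if i = l then 1 else 0 := by
      rw [Matrix.mul_apply, res_sum hM _ fun h _ => memR_mul hM (hwR i h) (memR_unres hM _)]
      simp only [res_mul hM (hwR i _) (memR_unres hM _), res_unres hM, hwres]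
      rw [h3, h2, Pi.single_apply]
      simp [eq_comm]
    split_ifs at h4 ⊢
    · exact (res_eq_one_iff hM hmemR).mp h4
    · rw [sub_zero]; exact (res_eq_zero_iff hM hmemR).mp h4
  have hdet : (A * B).det ≠ 0 := det_ne_zero_of_congr_one hM _ fun i l => by simpa [Matrix.one_apply] using hAB i l
  have hind : LinearIndependent ℂ w := by
    rw [Fintype.linearIndependent_iff]
    intro c hc
    have h0 : Matrix.vecMul c (A * B) = 0 := by
      rw [← Matrix.vecMul_vecMul]
      have : Matrix.vecMul c A = 0 := by
        funext h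
        have := congrFun hc h
        simpa [Matrix.vecMul, dotProduct, A] using this
      rw [this, Matrix.zero_vecMul]
    exact congrFun (Matrix.eq_zero_of_vecMul_eq_zero hdet h0)
  have hsub : Submodule.span ℂ (Set.range w) ≤ Submodule.span ℂ (Set.range v) := by
    rw [Submodule.span_le]
    rintro _ ⟨i, rfl⟩
    exact Submodule.sum_mem _ fun a _ => Submodule.smul_mem _ _ (Submodule.subset_span ⟨a, rfl⟩)
  calc Nat.card ι = Module.finrank ℂ (Submodule.span ℂ (Set.range w)) := by
        rw [finrank_span_eq_card hind, Nat.card_eq_fintype_card]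
    _ ≤ _ := Submodule.finrank_mono hsub

theorem exists_minimal_invariant {k : Type*} [Field k] {H : Type*} [Group H] {V : Type*}
    [AddCommGroup V] [Module k V] [FiniteDimensional k V] (π : Representation k H V)
    (W : Subrepresentation π) (hW : W.toSubmodule ≠ ⊥) :
    ∃ S : Subrepresentation π, S.toSubmodule ≤ W.toSubmodule ∧ S.toSubmodule ≠ ⊥ ∧
      S.toRepresentation.IsIrreducible := by
  classical
  have hex : ∃ n, ∃ S : Subrepresentation π, S.toSubmodule ≤ W.toSubmodule ∧ S.toSubmodule ≠ ⊥ ∧
      Module.finrank k S.toSubmodule = n := ⟨_, W, le_rfl, hW, rfl⟩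
  obtain ⟨S, hSW, hS0, hSn⟩ := Nat.find_spec hex
  refine ⟨S, hSW, hS0, ?_⟩
  haveI : Nontrivial S.toSubmodule := Submodule.nontrivial_iff_ne_bot.mpr hS0
  haveI : Nontrivial (Subrepresentation S.toRepresentation) :=
    ⟨⟨⊥, ⊤, fun h => bot_ne_top (congrArg Subrepresentation.toSubmodule h :)⟩⟩
  refine ⟨fun T => ?_⟩
  by_cases h0 : T.toSubmodule = ⊥
  · exact Or.inl (Subrepresentation.toSubmodule_injective h0)
  refine Or.inr (Subrepresentation.toSubmodule_injective ?_)
  let T' : Subrepresentation π := ⟨T.toSubmodule.map S.toSubmodule.subtype, fun g v hv => by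
    obtain ⟨t, ht, rfl⟩ := hv
    exact ⟨S.toRepresentation g t, T.apply_mem_toSubmodule g ht, rfl⟩⟩
  have h1 : Nat.find hex ≤ Module.finrank k T'.toSubmodule :=
    Nat.find_min' hex ⟨T', (Submodule.map_subtype_le _ _).trans hSW, fun h => h0
      (Submodule.map_injective_of_injective S.toSubmodule.injective_subtype
        (h.trans (Submodule.map_bot _).symm)), rfl⟩
  rw [← hSn, Submodule.finrank_map_subtype_eq] at h1
  exact Submodule.eq_top_of_finrank_eq (le_antisymm (Submodule.finrank_le _) h1)

variable [Finite G] (hS : Setting p x L)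
include hS

theorem card_U (η : K x L → ℂ) :
    Nat.card (U hS η) = haveI := hS.normal_K; (K x L).relIndex (CharApp.inertia (K x L) η) := by
  haveI := hS.normal_K
  have h1 := Nat.card_congr (QuotientGroup.quotientKerEquivRange
    ((alpha hS).comp (CharApp.inertia (K x L) η).subtype)).toEquiv
  rw [MonoidHom.range_comp, Subgroup.range_subtype] at h1
  rw [U, ← h1, Subgroup.relIndex, Subgroup.index, ← MonoidHom.comap_ker, ker_alpha hS]
  rfl

theorem Setting.commutator_mem (a b : L) : a * b * a⁻¹ * b⁻¹ ∈ K x L := by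
  rw [← ker_alpha hS, MonoidHom.mem_ker, map_mul, map_mul, map_mul, map_inv, map_inv]
  rw [mul_comm (alpha hS a) (alpha hS b), mul_inv_cancel_right, mul_inv_cancel]

open scoped Classical in
/-- The characters of `L` over `η`. -/
theorem exists_chars (η : IrrCharacter (K x L)) :
    ∃ C : Finset (IrrCharacter L), C.card = Nat.card (U hS (η : K x L → ℂ)) ∧
      ∀ ψ ∈ C, ∀ f : K x L → ℂ, (∀ l k, f (cj hS l k) = f k) →
        omega (ψ : L → ℂ) (fun l => if h : l ∈ K x L then f ⟨l, h⟩ else 0) = omega (η : K x L → ℂ) f := by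
  classical
  haveI := hS.normal_K
  have := Fintype.ofFinite L
  have := Fintype.ofFinite (K x L)
  have := Fintype.ofFinite (IrrCharacter (K x L))
  haveI := hS.fact
  obtain ⟨e, C, he, hC, hcard, hind, -, hext⟩ := Clifford.inertia_decomp (K x L) η.2
    (fun a _ b _ => hS.commutator_mem a b)
  have he1 : e = 1 := by
    refine hext ?_
    set T := CharApp.inertia (K x L) (η : K x L → ℂ) with hT
    haveI := Fintype.ofFinite T
    have hKT : K x L ≤ T := CharApp.le_inertia _ (irr_class η)
    have hker : ((alpha hS).comp T.subtype).ker = (K x L).subgroupOf T := by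
      rw [← MonoidHom.comap_ker, ker_alpha hS]
      rfl
    haveI : IsCyclic (T ⧸ (K x L).subgroupOf T) := by
      haveI : IsCyclic ((alpha hS).comp T.subtype).range := inferInstance
      exact isCyclic_of_surjective
        ((QuotientGroup.quotientMulEquivOfEq hker).toMonoidHom.comp
          (QuotientGroup.quotientKerEquivRange ((alpha hS).comp T.subtype)).symm.toMonoidHom)
        ((QuotientGroup.quotientMulEquivOfEq hker).surjective.comp
          (QuotientGroup.quotientKerEquivRange _).symm.surjective)
    let ι : (K x L).subgroupOf T ≃* K x L := Subgroup.subgroupOfEquivOfLe hKT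
    obtain ⟨φ, hφ, hφK⟩ := FullyRamified.exists_extension_of_cyclic (Z := (K x L).subgroupOf T)
      inferInstance (θ := fun z => (η : K x L → ℂ) (ι z)) (Char.IsIrrCharacter.comp_equiv η.2 ι)
      (fun g z => by
        refine Eq.trans ?_ ((CharApp.mem_inertia_iff _).mp g.2 (ι z))
        exact congrArg (η : K x L → ℂ) (Subtype.ext rfl))
    exact ⟨φ, hφ, fun n => hφK ⟨⟨(n : L), hKT n.2⟩, n.2⟩⟩
  subst he1
  simp only [Nat.cast_one, one_smul, one_pow, one_mul] at hind hcard
  refine ⟨C.attach.map ⟨fun ψ => ⟨ψ.1, hC ψ.1 ψ.2⟩, fun a b h => Subtype.ext (Subtype.mk.inj h)⟩,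
    by rw [Finset.card_map, Finset.card_attach, hcard, card_U hS], ?_⟩
  intro ψ' hψ' f hf
  obtain ⟨⟨ψ, hψC⟩, -, rfl⟩ := Finset.mem_map.mp hψ'
  show omega ψ _ = _
  -- every constituent of `ψ` on `K` is a conjugate of `η`
  obtain ⟨c, hc, hcn⟩ := Char.IsCharacter.decompose
    (Char.IsCharacter.restrict (Char.IsIrrCharacter.isCharacter (hC ψ hψC)) (K x L))
  have hres : ∀ φ : IrrCharacter (K x L), c φ ≠ 0 → ∃ l : L, cjIrr hS l η = φ := by
    intro φ hφ
    by_contra hno
    push Not at hno
    have h0 : classInner (fun n : K x L => indFun (K x L) (η : K x L → ℂ) n) (φ : K x L → ℂ) = 0 := by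
      have hrw : (fun n : K x L => indFun (K x L) (η : K x L → ℂ) n) =
          (Nat.card (K x L) : ℂ)⁻¹ • ∑ l : L, (cjIrr hS l η : K x L → ℂ) := by
        funext n
        rw [Cfsg.indFun, Pi.smul_apply, Finset.sum_apply, smul_eq_mul]
        congr 1
        refine Fintype.sum_equiv (Equiv.inv L) _ _ fun l => ?_
        have hmem : l⁻¹ * (n : L) * l ∈ K x L := by
          have := (hS.normal_K).conj_mem n n.2 l⁻¹
          rwa [inv_inv] at this
        rw [Char.extendByZero_mem _ _ hmem]
        refine congrArg (η : K x L → ℂ) (Subtype.ext ?_)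
        rw [cj_apply, Equiv.inv_apply, inv_inv]
      rw [hrw, Char.classInner_smul_left, Char.classInner_sum_left, Finset.sum_eq_zero, mul_zero]
      exact fun l _ => Char.classInner_irr_of_ne (cjIrr hS l η).2 φ.2
        (fun h => hno l (Subtype.ext h.symm).symm)
    rw [hind] at h0
    rw [show (fun n : K x L => (∑ χ ∈ C, χ) (n : L)) = ∑ χ ∈ C, fun n : K x L => χ (n : L) by
      funext n; simp [Finset.sum_apply], Char.classInner_sum_left] at h0
    choose! m hm using fun χ (hχ : χ ∈ C) => Char.IsCharacter.classInner_nat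
      (Char.IsCharacter.restrict (Char.IsIrrCharacter.isCharacter (hC χ hχ)) (K x L))
      (Char.IsIrrCharacter.isCharacter φ.2)
    rw [Finset.sum_congr rfl hm, ← Nat.cast_sum, Nat.cast_eq_zero, Finset.sum_eq_zero_iff] at h0
    have h2 := hm ψ hψC
    rw [h0 ψ hψC, hcn φ, Nat.cast_zero, Nat.cast_eq_zero] at h2
    exact hφ h2
  have hω : ∀ φ : IrrCharacter (K x L), c φ ≠ 0 → omega (φ : K x L → ℂ) f = omega (η : K x L → ℂ) f := by
    intro φ hφ
    obtain ⟨l, rfl⟩ := hres φ hφ
    conv_lhs => rw [← funext (hf l)]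
    exact omega_comp_cj hS l η f
  have hψ1 : ψ 1 ≠ 0 := Char.IsIrrCharacter.apply_one_ne_zero (hC ψ hψC)
  have hterm : ∀ φ : IrrCharacter (K x L), ∑ k, f k * ((c φ : ℂ) * (φ : K x L → ℂ) k) =
      omega (η : K x L → ℂ) f * ((c φ : ℂ) * (φ : K x L → ℂ) 1) := by
    intro φ
    by_cases hφ : c φ = 0
    · simp [hφ]
    · rw [← hω φ hφ, omega_eq_sum, div_mul_eq_mul_div, eq_div_iff (irr_one_ne_zero φ), Finset.sum_mul,
        Finset.sum_mul]
      exact Finset.sum_congr rfl fun k _ => by ring
  rw [omega_eq_sum, ← Finset.sum_subset (Finset.subset_univ (Finset.univ.image fun k : K x L => (k : L)))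
    (fun l _ hl => by rw [dif_neg fun h => hl (Finset.mem_image.mpr ⟨⟨l, h⟩, Finset.mem_univ _, rfl⟩), zero_mul]),
    Finset.sum_image fun a _ b _ h => Subtype.ext h, div_eq_iff hψ1]
  have hval : ∀ k : K x L, ψ (k : L) = ∑ φ : IrrCharacter (K x L), (c φ : ℂ) * (φ : K x L → ℂ) k := fun k => by
    refine (congrFun hc k).trans ?_
    simp [Finset.sum_apply]
  have h1 := hval 1
  rw [OneMemClass.coe_one] at h1
  rw [h1, Finset.mul_sum, ← Finset.sum_congr rfl fun φ _ => hterm φ, Finset.sum_comm]
  exact Finset.sum_congr rfl fun k _ => by rw [dif_pos k.2, hval k, Finset.mul_sum]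

variable (hM : IsPModular p M)
include hM

set_option synthInstance.maxHeartbeats 200000 in
set_option maxHeartbeats 800000 in
/-- Simple modules of `L` over a character lying under a block. -/
theorem exists_simples {B : Set (IrrCharacter G)} (hB : IsPBlock M B) {η : IrrCharacter (K x L)}
    (hl : Lies M x L B η) [Fintype (K x L)] :
    letI := ModRep.resField hM
    ∃ S : Fin (Nat.card (U hS (η : K x L → ℂ))) → Subrepresentation (funRep (Res M) L),
      (∀ i, (S i).toSubmodule ≠ ⊥ ∧ (S i).toRepresentation.IsIrreducible ∧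
        ∀ s ∈ (S i).toSubmodule, ∀ l : L,
          ∑ c : K x L, res M (blockCoeff B ((c : L) : G)) * s (l * (c : L)) = s l) ∧
      ∀ i j, i ≠ j → IsEmpty ((S i).toRepresentation.Equiv (S j).toRepresentation) := by
  letI := ModRep.resField hM
  classical
  have := Fintype.ofFinite L
  obtain ⟨C, hCcard, hC⟩ := exists_chars hS η
  let ψ : Fin (Nat.card (U hS (η : K x L → ℂ))) ≃ C := (finCongr hCcard.symm).trans C.equivFin.symm
  let eI : IrrCharacter L → L → ℂ := fun χ => ofOmega (blockInd {χ})
  have heR : ∀ χ l, MemLocalRing M (eI χ l) := by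
    intro χ l
    show MemLocalRing M (ofOmega (blockInd {χ}) l)
    rw [← blockCoeff_eq_ofOmega, blockCoeff, finsum_mem_singleton]
    refine memR_mul hM (memR_natCast_inv hM hS.hcop) (memR_mul hM
      (memR_of_isIntegral hM (isIntegral_irr χ _)) ?_)
    rw [← Char.IsCharacter.apply_inv (Char.IsIrrCharacter.isCharacter χ.2)]
    exact memR_of_isIntegral hM (isIntegral_irr χ _)
  let E : IrrCharacter L → Module.End (Res M) (L → Res M) := fun χ =>
    actOn (funRep (Res M) L) (fun l => res M (eI χ l))
  have hEa : ∀ χ (f : L → Res M) l, E χ f l = ∑ y, res M (eI χ y) * f (l * y) := fun χ f l => by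
    simp [E, actOn_apply, Finset.sum_apply, funRep_apply]
  have hclass : ∀ χ (l y : L), res M (eI χ (l * y * l⁻¹)) = res M (eI χ y) := fun χ l y => by
    rw [show eI χ (l * y * l⁻¹) = eI χ y from isClassFunction_ofOmega _ y l]
  have hEcomm : ∀ χ (g : L) f, funRep (Res M) L g (E χ f) = E χ (funRep (Res M) L g f) := by
    intro χ g f
    funext h
    rw [funRep_apply, hEa, hEa]
    refine Fintype.sum_equiv (MulAut.conj g).toEquiv _ _ fun y => ?_
    show _ = res M (eI χ (g * y * g⁻¹)) * f (h * (g * y * g⁻¹) * g)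
    rw [hclass]
    congr 2
    group
  have hEE : ∀ χ χ' f, E χ (E χ' f) = if χ = χ' then E χ f else 0 := by
    intro χ χ' f
    funext l
    rw [hEa]
    simp only [hEa, Finset.mul_sum]
    have hconv : ∀ z, ∑ y, res M (eI χ y) * res M (eI χ' (y⁻¹ * z)) =
        if χ = χ' then res M (eI χ z) else 0 := by
      intro z
      have h1 : Blocks.conv (eI χ) (eI χ') z = if χ = χ' then eI χ z else 0 := by
        show Blocks.conv (ofOmega _) (ofOmega _) z = _
        rw [← ofOmega_mul]
        split_ifs with h
        · rw [h, blockInd_mul_self]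
        · rw [show blockInd {χ} * blockInd {χ'} = (0 : IrrCharacter L → ℂ) from funext fun φ => by
            by_cases hφ : φ = χ
            · rw [Pi.mul_apply, hφ, blockInd_of_notMem (B := {χ'}) (χ := χ) h, mul_zero]; rfl
            · rw [Pi.mul_apply, blockInd_of_notMem (B := {χ}) (χ := φ) hφ, zero_mul]; rfl]
          exact congrFun ofOmega_zero z
      rw [conv_eq_sum] at h1
      have h2 := congrArg (res M) h1
      rw [res_sum hM _ fun y _ => memR_mul hM (heR χ y) (heR χ' _)] at h2
      simp only [res_mul hM (heR χ _) (heR χ' _)] at h2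
      rw [h2]
      split_ifs
      · rfl
      · exact res_zero hM
    have hL : ∑ y, ∑ z, res M (eI χ y) * (res M (eI χ' z) * f (l * y * z)) =
        ∑ w, (∑ y, res M (eI χ y) * res M (eI χ' (y⁻¹ * w))) * f (l * w) := by
      simp only [Finset.sum_mul]
      conv_rhs => rw [Finset.sum_comm]
      refine Finset.sum_congr rfl fun y _ => ?_
      refine Fintype.sum_equiv (Equiv.mulLeft y) _ _ fun z => ?_
      rw [Equiv.coe_mulLeft, inv_mul_cancel_left, mul_assoc, mul_assoc]
    rw [hL]
    simp only [hconv]
    split_ifs with h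
    · rw [hEa]
    · simp
  let W : IrrCharacter L → Subrepresentation (funRep (Res M) L) := fun χ =>
    ⟨LinearMap.ker (E χ - 1), fun g f hf => by
      rw [LinearMap.mem_ker, LinearMap.sub_apply, Module.End.one_apply, sub_eq_zero] at hf ⊢
      rw [← hEcomm, hf]⟩
  have hW : ∀ χ f, f ∈ (W χ).toSubmodule → E χ f = f := fun χ f hf => by
    have := LinearMap.mem_ker.mp hf
    rwa [LinearMap.sub_apply, Module.End.one_apply, sub_eq_zero] at this
  have hW0 : ∀ χ, (W χ).toSubmodule ≠ ⊥ := by
    intro χ h0
    have hmem : E χ (Pi.single 1 1) ∈ (W χ).toSubmodule := by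
      show E χ (Pi.single 1 1) ∈ LinearMap.ker (E χ - 1)
      rw [LinearMap.mem_ker, LinearMap.sub_apply, Module.End.one_apply, hEE, if_pos rfl, sub_self]
    rw [h0, Submodule.mem_bot] at hmem
    have h1 := congrFun hmem 1
    rw [hEa, Pi.zero_apply, Finset.sum_eq_single 1 (fun y _ hy => by
      rw [one_mul, Pi.single_apply, if_neg hy, mul_zero]) (fun h => absurd (Finset.mem_univ _) h),
      one_mul, Pi.single_eq_same, mul_one, res_eq_zero_iff hM (heR χ 1)] at h1
    have hval : eI χ 1 = (Nat.card L : ℂ)⁻¹ * ((charDegree (χ : L → ℂ) * charDegree (χ : L → ℂ) : ℕ) : ℂ) := by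
      show ofOmega (blockInd {χ}) 1 = _
      rw [← blockCoeff_eq_ofOmega, blockCoeff, finsum_mem_singleton, ← charDegree_cast,
        Complex.conj_natCast, Nat.cast_mul]
    rw [hval] at h1
    have h2 := memI_mul_left hM (memR_natCast hM (Nat.card L)) h1
    rw [← mul_assoc, mul_inv_cancel₀ (Nat.cast_ne_zero.mpr Nat.card_pos.ne'), one_mul] at h2
    exact not_memI_natCast hM (fun h => hS.hcop (((hS.hp.dvd_mul.mp h).elim id id).trans
      (charDegree_dvd_card χ))) h2
  choose S hSW hS0 hSirr using fun i => exists_minimal_invariant (funRep (Res M) L) (W (ψ i).1) (hW0 _)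
  have hfix : ∀ χ ∈ C, ∀ s ∈ (W χ).toSubmodule, ∀ l : L,
      ∑ c : K x L, res M (blockCoeff B ((c : L) : G)) * s (l * (c : L)) = s l := by
    intro χ hχ s hs l
    let f : K x L → ℂ := fun c => blockCoeff B ((c : L) : G)
    have hf : ∀ l k, f (cj hS l k) = f k := fun l k => by
      show blockCoeff B _ = blockCoeff B _
      rw [cj_apply, Subgroup.coe_mul, Subgroup.coe_mul, Subgroup.coe_inv, isClassFunction_blockCoeff B]
    let z : L → ℂ := fun l => if h : l ∈ K x L then f ⟨l, h⟩ else 0
    have hzR : ∀ l, MemLocalRing M (z l) := fun l => by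
      simp only [z]
      split_ifs
      · exact memR_blockCoeff hM hB _
      · exact memR_zero hM
    have hzc : IsClassFunction L z := by
      intro a b
      haveI := hS.normal_K
      by_cases ha : a ∈ K x L
      · simp only [z, dif_pos ha, dif_pos ((hS.normal_K).conj_mem a ha b)]
        exact (congrArg f (Subtype.ext (cj_apply hS b ⟨a, ha⟩).symm)).trans (hf b ⟨a, ha⟩)
      · have hb : b * a * b⁻¹ ∉ K x L := fun h => ha (by
          have := (hS.normal_K).conj_mem _ h b⁻¹
          simpa [mul_assoc] using this)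
        simp only [z, dif_neg ha, dif_neg hb]
    have hconv : ∀ w, MemLocalIdeal M (Blocks.conv z (eI χ) w - eI χ w) := by
      intro w
      have hω : MemLocalIdeal M (omega (χ : L → ℂ) z - 1) := by
        rw [show omega (χ : L → ℂ) z = omega (η : K x L → ℂ) f from hC χ hχ f hf]; exact hl
      have : Blocks.conv z (eI χ) = omega (χ : L → ℂ) z • eI χ := by
        refine eq_of_omega_eq (isClassFunction_conv hzc (isClassFunction_ofOmega _))
          (Char.isClassFunction_smul (isClassFunction_ofOmega _) _) fun φ => ?_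
        rw [omega_conv hzc (isClassFunction_ofOmega _), omega_ofOmega]
        rw [show omega (φ : L → ℂ) (omega (χ : L → ℂ) z • eI χ) =
          omega (χ : L → ℂ) z * omega (φ : L → ℂ) (eI χ) by
            simp only [omega_eq_sum, Pi.smul_apply, smul_eq_mul, mul_assoc, ← Finset.mul_sum,
              mul_div_assoc], omega_ofOmega]
        by_cases hφ : φ = χ
        · rw [hφ]
        · rw [blockInd_of_notMem (B := {χ}) (χ := φ) hφ, mul_zero, mul_zero]
      rw [this, Pi.smul_apply, smul_eq_mul, ← sub_one_mul]
      exact memI_mul_right hM hω (heR χ w)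
    have hkey : ∀ w, ∑ c : K x L, res M (f c) * res M (eI χ ((c : L)⁻¹ * w)) = res M (eI χ w) := by
      intro w
      have hcR : MemLocalRing M (Blocks.conv z (eI χ) w) := by
        rw [conv_eq_sum]
        exact memR_sum hM _ fun y _ => memR_mul hM (hzR y) (heR χ _)
      have h1 := (res_eq_iff hM hcR (heR χ w)).mpr (hconv w)
      rw [conv_eq_sum, res_sum hM _ fun y _ => memR_mul hM (hzR y) (heR χ _)] at h1
      rw [← h1, ← Finset.sum_subset (Finset.subset_univ (Finset.univ.image fun c : K x L => (c : L)))
        (fun y _ hy => by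
          simp only [z]
          rw [dif_neg fun h => hy (Finset.mem_image.mpr ⟨⟨y, h⟩, Finset.mem_univ _, rfl⟩), zero_mul,
            res_zero hM]), Finset.sum_image fun a _ b _ h => Subtype.ext h]
      refine Finset.sum_congr rfl fun c _ => ?_
      simp only [z, dif_pos c.2, res_mul hM (memR_blockCoeff hM hB _) (heR χ _), f]
    have hsl : ∀ m, s m = ∑ y, res M (eI χ y) * s (m * y) := fun m => by
      rw [← hEa, hW χ s hs]
    rw [show s l = ∑ y, (∑ c : K x L, res M (f c) * res M (eI χ ((c : L)⁻¹ * y))) * s (l * y) from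
      (hsl l).trans (Finset.sum_congr rfl fun y _ => by rw [hkey]),
      Finset.sum_congr rfl fun c _ => by rw [hsl (l * (c : L)), Finset.mul_sum]]
    simp only [Finset.sum_mul]
    conv_rhs => rw [Finset.sum_comm]
    refine Finset.sum_congr rfl fun c _ => ?_
    refine Fintype.sum_equiv (Equiv.mulLeft (c : L)) _ _ fun y => ?_
    rw [Equiv.coe_mulLeft, inv_mul_cancel_left, mul_assoc, mul_assoc]
  refine ⟨S, fun i => ⟨hS0 i, hSirr i, fun s hs => hfix _ (ψ i).2 s (hSW i hs)⟩, fun i j hij => ⟨fun e => ?_⟩⟩
  obtain ⟨s, hs, hs0⟩ := Submodule.exists_mem_ne_zero_of_ne_bot (hS0 i)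
  set t := e.toLinearEquiv ⟨s, hs⟩ with ht
  have hcomm : ∀ g u, e.toLinearEquiv ((S i).toRepresentation g u) =
      (S j).toRepresentation g (e.toLinearEquiv u) := fun g u =>
    LinearMap.congr_fun (e.toIntertwiningMap.isIntertwining' g) u
  have h1 : E (ψ i).1 t.1 = t.1 := by
    have h := hW _ s (hSW i hs)
    have hsum : (∑ y, res M (eI (ψ i).1 y) • (S i).toRepresentation y ⟨s, hs⟩) = ⟨s, hs⟩ := Subtype.ext (by
      rw [Submodule.coe_sum]
      refine Eq.trans ?_ h
      rw [show E (ψ i).1 = actOn (funRep (Res M) L) (fun l => res M (eI (ψ i).1 l)) from rfl, actOn_apply]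
      rfl)
    have := congrArg (fun u => (e.toLinearEquiv u).1) hsum
    simp only [map_sum, map_smul, hcomm, Submodule.coe_sum, ← ht] at this
    refine Eq.trans ?_ this
    rw [show E (ψ i).1 = actOn (funRep (Res M) L) (fun l => res M (eI (ψ i).1 l)) from rfl, actOn_apply]
    rfl
  have h2 := hW _ t.1 (hSW j t.2)
  have h3 : t.1 = 0 := by
    rw [← h1, ← h2, hEE, if_neg fun h => hij (ψ.injective (Subtype.ext h))]
  exact hs0 (congrArg Subtype.val (e.toLinearEquiv.map_eq_zero_iff.mp (Subtype.ext h3) :))

omit hS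

/-- Traces of the block lie in the span of the reductions of its characters. -/
theorem mem_span_reductions [Fintype G] [Fintype (IrrCharacter G)] (τ : G → Res M)
    (hτc : ∀ g h, τ (h * g * h⁻¹) = τ g)
    (hτp : ∀ g u y, Commute u y → g = u * y → (∃ n, orderOf u = p ^ n) → τ g = τ y)
    {B : Set (IrrCharacter G)} (hB : IsPBlock M B)
    (hτE : ∀ g, ∑ h, res M (blockCoeff B h) * τ (h * g) = τ g) :
    ∃ b : B → Res M, ∀ g, τ g = ∑ᶠ χ : B, b χ * res M ((χ.1 : G → ℂ) g) := by
  classical
  haveI : Fact p.Prime := ⟨hM.1⟩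
  letI := ModRep.resField hM
  -- the indicator of every section is in the span
  have hres : ∀ (χ : IrrCharacter G) (g u y : G), Commute u y → g = u * y → (∃ n, orderOf u = p ^ n) →
      res M ((χ : G → ℂ) g) = res M ((χ : G → ℂ) y) := by
    rintro χ g u y hc rfl ⟨n, hn⟩
    rw [res_eq_iff hM (memR_of_isIntegral hM (isIntegral_irr χ _)) (memR_of_isIntegral hM (isIntegral_irr χ _))]
    refine CentralChar.memI_sub_of_pow_eq (k := n) hM (Char.IsIrrCharacter.isCharacter χ.2) ?_
    rw [hc.mul_pow, ← hn, pow_orderOf_eq_one, one_mul]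
  choose u y hguy hug hyg hu hyco using fun g : G => Transfer.exists_pPart_mul (p := p) g
  have hyreg : ∀ g, ¬ p ∣ orderOf (y g) := fun g => hM.1.coprime_iff_not_dvd.mp (hyco g).symm
  have hcuy : ∀ g, Commute (u g) (y g) := by
    intro g
    obtain ⟨i, hi⟩ := Subgroup.mem_zpowers_iff.mp (hug g)
    obtain ⟨j, hj⟩ := Subgroup.mem_zpowers_iff.mp (hyg g)
    have h1 := (Commute.refl g).zpow_zpow i j
    rwa [hi, hj] at h1
  have hspan : ∀ τ' : G → Res M, (∀ g h, τ' (h * g * h⁻¹) = τ' g) →
      ∃ b : IrrCharacter G → Res M, ∀ g, ¬ p ∣ orderOf g → τ' g = ∑ χ, b χ * res M ((χ : G → ℂ) g) := by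
    intro τ' hτ'
    have hdelta : ∀ z : G, ¬ p ∣ orderOf z → ∃ b : IrrCharacter G → Res M, ∀ g, ¬ p ∣ orderOf g →
        (if IsConj z g then 1 else 0) = ∑ χ, b χ * res M ((χ : G → ℂ) g) := by
      intro z hz
      obtain ⟨f, hf, ⟨n, hn, hfz⟩, m, hm, hm1, hsupp⟩ := Char.exists_brauer_local_supp z p hM.1
      have hint : ∀ χ : IrrCharacter G, IsIntegral ℤ (classInner f (χ : G → ℂ)) := by
        intro χ
        clear hfz hsupp
        induction hf using Submodule.span_induction with
        | mem a ha =>
          obtain ⟨χ₁, χ₂, h₁, h₂, rfl⟩ :=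
            Char.brauerGens_isGeneralizedCharacter (AddSubgroup.subset_closure ha)
          obtain ⟨n₁, e₁⟩ := Char.IsCharacter.classInner_nat h₁ (Char.IsIrrCharacter.isCharacter χ.2)
          obtain ⟨n₂, e₂⟩ := Char.IsCharacter.classInner_nat h₂ (Char.IsIrrCharacter.isCharacter χ.2)
          rw [Char.classInner_sub_left, e₁, e₂]
          exact (isIntegral_algebraMap (R := ℤ) (A := ℂ) (x := (n₁ : ℤ))).sub
            (isIntegral_algebraMap (R := ℤ) (A := ℂ) (x := (n₂ : ℤ)))
        | zero => rw [Char.classInner_zero_left]; exact isIntegral_zero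
        | add a b _ _ ha hb => rw [Char.classInner_add_left]; exact ha.add hb
        | smul r a _ ha =>
          rw [show r • a = (r : ℂ) • a from rfl, Char.classInner_smul_left]
          exact r.2.mul ha
      have hfc : IsClassFunction G f := by
        clear hfz hsupp hint
        induction hf using Submodule.span_induction with
        | mem a ha =>
          exact Char.IsGeneralizedCharacter.isClassFunction
            (Char.brauerGens_isGeneralizedCharacter (AddSubgroup.subset_closure ha))
        | zero => exact fun _ _ => rfl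
        | add a b _ _ ha hb => exact Char.isClassFunction_add ha hb
        | smul r a _ ha =>
          rw [show r • a = (r : ℂ) • a from rfl]
          exact Char.isClassFunction_smul ha _
      have hpow : ∀ g : G, ¬ p ∣ orderOf g → g ^ m = g := by
        intro g hg
        have hd : orderOf g ∣ Nat.card G / p ^ (Nat.card G).factorization p :=
          Nat.Coprime.dvd_of_dvd_mul_left ((hM.1.coprime_iff_not_dvd.mpr hg).pow_left _).symm
            (by rw [Nat.ordProj_mul_ordCompl_eq_self]; exact orderOf_dvd_natCard g)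
        exact (pow_eq_pow_iff_modEq.mpr (hm1.of_dvd hd)).trans (pow_one g)
      have hn0 : (n : Res M) ≠ 0 := by
        haveI := res_charP hM
        rwa [Ne, CharP.cast_eq_zero_iff (Res M) p]
      refine ⟨fun χ => (n : Res M)⁻¹ * res M (classInner f (χ : G → ℂ)), fun g hg => ?_⟩
      have hcast : ∀ χ : IrrCharacter G, MemLocalRing M (classInner f (χ : G → ℂ) * (χ : G → ℂ) g) :=
        fun χ => memR_mul hM (memR_of_isIntegral hM (hint χ)) (memR_of_isIntegral hM (isIntegral_irr χ g))
      have hfg : res M (f g) = ∑ χ : IrrCharacter G, res M (classInner f (χ : G → ℂ)) * res M ((χ : G → ℂ) g) := by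
        conv_lhs => rw [Char.classFunction_eq_sum hfc, Finset.sum_apply]
        simp only [Pi.smul_apply, smul_eq_mul]
        rw [res_sum hM _ fun χ _ => hcast χ]
        exact Finset.sum_congr rfl fun χ _ => res_mul hM (memR_of_isIntegral hM (hint χ))
          (memR_of_isIntegral hM (isIntegral_irr χ g))
      simp only [mul_assoc, ← Finset.mul_sum, ← hfg]
      split_ifs with hc
      · rw [classFunction_eq_of_isConj hfc hc.symm, hfz, res_natCast hM, inv_mul_cancel₀ hn0]
      · have : f g = 0 := by_contra fun h => hc (by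
          have := hsupp g h
          rwa [hpow z hz, hpow g hg] at this)
        rw [this, res_zero hM, mul_zero]
    choose! δ hδ using hdelta
    have := Fintype.ofFinite (ConjClasses G)
    refine ⟨fun χ => ∑ q : ConjClasses G, if p ∣ orderOf (Quotient.out q) then 0 else
      τ' (Quotient.out q) * δ (Quotient.out q) χ, fun g hg => ?_⟩
    simp only [Finset.sum_mul]
    rw [Finset.sum_comm, Finset.sum_eq_single (ConjClasses.mk g)]
    · have hc : IsConj (Quotient.out (ConjClasses.mk g)) g :=
        ConjClasses.mk_eq_mk_iff_isConj.mp (Quotient.out_eq (ConjClasses.mk g))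
      obtain ⟨c, hcg⟩ := isConj_iff.mp hc
      have hreg : ¬ p ∣ orderOf (Quotient.out (ConjClasses.mk g)) := by
        rwa [← hcg, SecondMain.orderOf_conj] at hg
      simp only [if_neg hreg, mul_assoc, ← Finset.mul_sum, ← hδ _ hreg g hg, if_pos hc, mul_one]
      rw [← hτ' (Quotient.out (ConjClasses.mk g)) c, hcg]
    · intro q _ hq
      by_cases hreg : p ∣ orderOf (Quotient.out q)
      · simp [if_pos hreg]
      · simp only [if_neg hreg, mul_assoc, ← Finset.mul_sum, ← hδ _ hreg g hg]
        rw [if_neg, mul_zero]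
        intro hc
        exact hq ((Quotient.out_eq q).symm.trans (ConjClasses.mk_eq_mk_iff_isConj.mpr hc))
    · exact fun h => absurd (Finset.mem_univ _) h
  obtain ⟨b, hb⟩ := hspan τ hτc
  have hall : ∀ g, τ g = ∑ χ, b χ * res M ((χ : G → ℂ) g) := fun g => by
    rw [hτp g (u g) (y g) (hcuy g) (hguy g) (hu g), hb (y g) (hyreg g)]
    exact Finset.sum_congr rfl fun χ _ => by rw [hres χ g (u g) (y g) (hcuy g) (hguy g) (hu g)]
  refine ⟨fun χ => b χ.1, fun g => ?_⟩
  rw [finsum_eq_sum_of_fintype, ← hτE g]
  simp only [hall, Finset.mul_sum]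
  rw [Finset.sum_comm, ← Finset.sum_subset (Finset.subset_univ B.toFinset) (fun χ _ hχ => ?_)]
  · rw [← Finset.sum_subtype B.toFinset (p := (· ∈ B)) (by simp)
      (fun χ => b χ * res M ((χ : G → ℂ) g))]
    refine Finset.sum_congr rfl fun χ hχ => ?_
    simp only [mul_left_comm _ (b χ), ← Finset.mul_sum]
    congr 1
    rw [Finset.sum_congr rfl fun h _ => (res_mul hM (memR_blockCoeff hM hB h)
      (memR_of_isIntegral hM (isIntegral_irr χ (h * g)))).symm, ← res_sum hM _ fun h _ => memR_mul hM
        (memR_blockCoeff hM hB h) (memR_of_isIntegral hM (isIntegral_irr χ (h * g))),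
      SecondMain.sum_mul_apply_mul (isClassFunction_blockCoeff B), blockCoeff_eq_ofOmega, omega_ofOmega,
      blockInd_of_mem (Set.mem_toFinset.mp hχ), one_mul]
  · simp only [mul_left_comm _ (b χ), ← Finset.mul_sum]
    rw [Finset.sum_congr rfl fun h _ => (res_mul hM (memR_blockCoeff hM hB h)
      (memR_of_isIntegral hM (isIntegral_irr χ (h * g)))).symm, ← res_sum hM _ fun h _ => memR_mul hM
        (memR_blockCoeff hM hB h) (memR_of_isIntegral hM (isIntegral_irr χ (h * g))),
      SecondMain.sum_mul_apply_mul (isClassFunction_blockCoeff B), blockCoeff_eq_ofOmega, omega_ofOmega,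
      blockInd_of_notMem (fun h => hχ (Set.mem_toFinset.mpr h)), zero_mul, res_zero hM, mul_zero]

include hS

/-- A block has at least as many modular characters as the order of the inertial group. -/
theorem card_U_le_blockRank {B : Set (IrrCharacter G)} (hB : IsPBlock M B) {η : IrrCharacter (K x L)}
    (hl : Lies M x L B η) : Nat.card (U hS (η : K x L → ℂ)) ≤ blockRank p B := by
  classical
  haveI := hS.fact
  letI := ModRep.resField hM
  haveI := res_charP hM
  haveI := ModRep.isAlgClosed_res hM
  have := Fintype.ofFinite G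
  have := Fintype.ofFinite (K x L)
  have := Fintype.ofFinite (IrrCharacter G)
  obtain ⟨S, hSp, hSne⟩ := exists_simples hS hM hB hl
  let a : G → Res M := fun g => res M (blockCoeff B g)
  have haR := memR_blockCoeff hM hB
  have haa : ∀ g, ∑ y, a y * a (y⁻¹ * g) = a g := by
    intro g
    have h : Blocks.conv (blockCoeff B) (blockCoeff B) g = blockCoeff B g := by
      rw [blockCoeff_eq_ofOmega, ← ofOmega_mul, blockInd_mul_self]
    rw [conv_eq_sum] at h
    have h2 := congrArg (res M) h
    rw [res_sum hM _ fun y _ => memR_mul hM (haR y) (haR _)] at h2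
    simp only [res_mul hM (haR _) (haR _)] at h2
    exact h2
  choose d φ hirr hE hgood using fun i => exists_good_irreducible hS a
    (fun g h => congrArg (res M) (isClassFunction_blockCoeff B g h)) haa
    (fun g hg => by show res M _ = 0; rw [blockCoeff_singular hM hB hg, res_zero hM])
    (S i) (hSp i).1 (hSp i).2.2
  have hne : ∀ i j, i ≠ j → IsEmpty ((φ i).Equiv (φ j)) := fun i j hij => ⟨fun e => by
    haveI := hirr j
    haveI := (hSp i).2.1
    haveI := (hSp j).2.1
    refine good_unique hS (hSne i j hij) ?_ (hgood j)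
    obtain ⟨q, hq1, hq2, v, hv, hqv⟩ := hgood i
    have hcomm : ∀ g u, e.toLinearEquiv.symm (φ j g u) = φ i g (e.toLinearEquiv.symm u) := fun g u => by
      rw [LinearEquiv.symm_apply_eq]
      have := LinearMap.congr_fun (e.toIntertwiningMap.isIntertwining' g) (e.toLinearEquiv.symm u)
      refine Eq.trans ?_ this.symm
      show φ j g u = φ j g (e.toLinearEquiv (e.toLinearEquiv.symm u))
      rw [LinearEquiv.apply_symm_apply]
    have hpow : ∀ (n : ℕ) u, e.toLinearEquiv.symm (((φ j x - 1) ^ n) u) =
        ((φ i x - 1) ^ n) (e.toLinearEquiv.symm u) := fun n => by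
      induction n with
      | zero => intro u; simp
      | succ n ih =>
        intro u
        rw [pow_succ, pow_succ, Module.End.mul_apply, Module.End.mul_apply, ih]
        congr 1
        simp only [LinearMap.sub_apply, Module.End.one_apply, map_sub, hcomm]
    refine ⟨q.comp e.toLinearEquiv.symm.toLinearMap, fun u => ?_, fun l u => ?_, e.toLinearEquiv v, ?_, ?_⟩
    · show q (e.toLinearEquiv.symm (φ j x u)) = _
      rw [hcomm, hq1]; rfl
    · show q (e.toLinearEquiv.symm (φ j (l : G) u)) = _
      rw [hcomm, hq2]; rfl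
    · apply e.toLinearEquiv.symm.injective
      rw [hpow, LinearEquiv.symm_apply_apply, hv, map_zero]
    · show q (e.toLinearEquiv.symm (e.toLinearEquiv v)) ≠ 0
      rwa [LinearEquiv.symm_apply_apply]⟩
  let τ : Fin (Nat.card (U hS (η : K x L → ℂ))) → G → Res M := fun i g =>
    LinearMap.trace (Res M) _ (φ i g)
  have hτp : ∀ i g u y, Commute u y → g = u * y → (∃ n, orderOf u = p ^ n) → τ i g = τ i y :=
    fun i g u y hc he hu => ModRep.trace_eq_pPrime hM.1 (φ i) hc he hu
  have hτc : ∀ i g h, τ i (h * g * h⁻¹) = τ i g := fun i g h => by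
    show LinearMap.trace _ _ _ = LinearMap.trace _ _ _
    rw [map_mul (φ i), map_mul (φ i), LinearMap.trace_mul_comm, ← mul_assoc, ← map_mul (φ i), inv_mul_cancel,
      map_one (φ i), one_mul]
  have hτE : ∀ i g, ∑ h, res M (blockCoeff B h) * τ i (h * g) = τ i g := by
    intro i g
    have := congrArg (fun A => LinearMap.trace (Res M) _ (A * φ i g)) (hE i)
    simp only [one_mul, actOn, Finset.sum_mul, smul_mul_assoc, map_sum, map_smul, smul_eq_mul, ← map_mul] at this
    exact this
  choose b hb using fun i => mem_span_reductions hM (τ i) (hτc i) (hτp i) hB (hτE i)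
  -- restrict to the regular elements
  let v : B → G → ℂ := fun χ => pRegularPart p (χ.1 : G → ℂ)
  let τ' : Fin (Nat.card (U hS (η : K x L → ℂ))) → G → Res M := fun i g =>
    if p ∣ orderOf g then 0 else τ i g
  have hvR : ∀ χ g, MemLocalRing M (v χ g) := fun χ g => by
    by_cases hg : p ∣ orderOf g
    · simp only [v, SecondMain.pRegularPart_of_singular hg]; exact memR_zero hM
    · simp only [v, SecondMain.pRegularPart_of_regular hg]; exact memR_of_isIntegral hM (isIntegral_irr χ.1 g)
  have hτ'ind : LinearIndependent (Res M) τ' := by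
    have hind := ModRep.linearIndependent_trace (fun i => Fin (d i) → Res M) φ hirr hne
    rw [Fintype.linearIndependent_iff] at hind ⊢
    intro c hc
    refine hind c (funext fun g => ?_)
    obtain ⟨u, y, hguy, hug, hyg, hu, hyco⟩ := Transfer.exists_pPart_mul (p := p) g
    have hyreg : ¬ p ∣ orderOf y := hM.1.coprime_iff_not_dvd.mp hyco.symm
    have hcuy : Commute u y := by
      obtain ⟨i, hi⟩ := Subgroup.mem_zpowers_iff.mp hug
      obtain ⟨j, hj⟩ := Subgroup.mem_zpowers_iff.mp hyg
      have h1 := (Commute.refl g).zpow_zpow i j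
      rwa [hi, hj] at h1
    have h := congrFun hc y
    simp only [Finset.sum_apply, Pi.smul_apply, Pi.zero_apply, τ', if_neg hyreg] at h
    simp only [Finset.sum_apply, Pi.smul_apply, Pi.zero_apply]
    refine Eq.trans (Finset.sum_congr rfl fun i _ => ?_) h
    exact congrArg (c i • ·) (hτp i g u y hcuy hguy hu)
  have hmem : ∀ i, ∃ b' : B → Res M, ∀ g, τ' i g = ∑ᶠ χ, b' χ * res M (v χ g) := fun i =>
    ⟨b i, fun g => by
      simp only [τ', v]
      split_ifs with hg
      · simp [SecondMain.pRegularPart_of_singular hg, res_zero hM]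
      · simp only [SecondMain.pRegularPart_of_regular hg, hb i g]⟩
  have h := card_le_finrank hM v hvR τ' hτ'ind hmem
  rw [Nat.card_fin] at h
  refine h.trans (le_of_eq ?_)
  rw [blockRank]
  have hset : Set.range v = (fun χ : IrrCharacter G => pRegularPart p (χ : G → ℂ)) '' B := by
    ext f
    constructor
    · rintro ⟨χ, rfl⟩; exact ⟨χ.1, χ.2, rfl⟩
    · rintro ⟨χ, hχ, rfl⟩; exact ⟨⟨χ, hχ⟩, rfl⟩
  rw [hset]

end Cfsg.Agent.CyclicDefect
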