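/-
The integer rows of a block when `p` exactly divides `|G|` (namespace `Cfsg.Agent.CyclicDefect`).

Main results: `bval` (the Fourier coefficients of the decomposition numbers), `exists_int_bval`,
`dec_eq_sum_bval`, `sum_bval_mul` (the Gram matrix), `sum_bval_apply` (orthogonality to the regular
elements), `exists_dec_ne_zero`, `card_lies`, `card_sub_blockRank`.
-/
import Cfsg.Agent.Lib.CyclicDefect.Lower
import Cfsg.Agent.Lib.Char.Linear
import Cfsg.Agent.Lib.BlockDefect.RegInner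

set_option autoImplicit false
set_option linter.unusedSectionVars false
set_option linter.style.haveILetI false

open scoped ComplexConjugate

namespace Cfsg.Agent.CyclicDefect

open Cfsg Blocks

variable {G : Type*} [Group G] {p : ℕ} [Fact p.Prime] {x : G} {L : Subgroup G} {M : Ideal AlgInt}

/-- The standard character of `ZMod p`. -/
noncomputable abbrev ζ (i : ZMod p) : ℂ := ZMod.stdAddChar i

theorem sum_ζ_mul (b : ZMod p) : ∑ i : ZMod p, ζ (i * b) = if b = 0 then (p : ℂ) else 0 := by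
  have h := AddChar.sum_mulShift b (ZMod.isPrimitive_stdAddChar p)
  rw [ZMod.card] at h
  exact_mod_cast h

theorem ζ_add (i j : ZMod p) : ζ (i + j) = ζ i * ζ j := AddChar.map_add_eq_mul _ _ _

theorem ζ_zero : ζ (0 : ZMod p) = 1 := AddChar.map_zero_eq_one _

theorem conj_ζ (i : ZMod p) : conj (ζ i) = ζ (-i) := (AddChar.map_neg_eq_conj _ _).symm

theorem sum_units {A : Type*} [AddCommMonoid A] (f : ZMod p → A) (h0 : f 0 = 0) :
    ∑ a : (ZMod p)ˣ, f (a : ZMod p) = ∑ i : ZMod p, f i := by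
  classical
  rw [← Finset.sum_erase (f := f) Finset.univ h0, ← Finset.sum_image fun a _ b _ h => Units.ext h]
  refine Finset.sum_congr ?_ fun _ _ => rfl
  ext i
  simp only [Finset.mem_image, Finset.mem_univ, true_and, Finset.mem_erase, and_true]
  exact ⟨fun ⟨a, ha⟩ => ha ▸ a.ne_zero, fun h => ⟨Units.mk0 i h, rfl⟩⟩

variable [Finite G] (hS : Setting p x L)

/-- The Fourier coefficient of the decomposition numbers. -/
noncomputable def bval (χ : G → ℂ) (η : K x L → ℂ) (j : ZMod p) : ℂ :=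
  (p : ℂ)⁻¹ * ∑ i : ZMod p, (ζ (-(i * j)) - 1) * dec (x := x) χ η i

theorem bval_zero (χ : G → ℂ) (η : K x L → ℂ) : bval (p := p) χ η 0 = 0 := by
  simp [bval]

theorem dec_eq_sum_bval (χ : G → ℂ) (η : K x L → ℂ) {i : ZMod p} (hi : i ≠ 0) :
    dec χ η i = ∑ j : ZMod p, bval χ η j * ζ (i * j) := by
  simp only [bval, mul_assoc, Finset.sum_mul, ← Finset.mul_sum]
  rw [Finset.sum_comm]
  have hterm : ∀ i' : ZMod p, ∑ j : ZMod p, (ζ (-(i' * j)) - 1) * (dec χ η i' * ζ (i * j)) =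
      if i' = i then (p : ℂ) * dec χ η i' else 0 := by
    intro i'
    have : ∀ j : ZMod p, (ζ (-(i' * j)) - 1) * (dec χ η i' * ζ (i * j)) =
        dec χ η i' * (ζ (j * (i - i')) - ζ (j * i)) := fun j => by
      rw [show j * (i - i') = -(i' * j) + i * j by ring, mul_comm j i, ζ_add]
      ring
    rw [Finset.sum_congr rfl fun j _ => this j, ← Finset.mul_sum, Finset.sum_sub_distrib, sum_ζ_mul,
      sum_ζ_mul, if_neg hi, sub_zero]
    by_cases h : i' = i
    · rw [if_pos h, if_pos (by rw [h, sub_self]), mul_comm]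
    · rw [if_neg h, if_neg (sub_ne_zero.mpr (Ne.symm h)), mul_zero]
  rw [Finset.sum_congr rfl fun i' _ => hterm i', Finset.sum_ite_eq' Finset.univ i, if_pos (Finset.mem_univ _),
    inv_mul_cancel_left₀ (Nat.cast_ne_zero.mpr (Fact.out : p.Prime).ne_zero)]

include hS

theorem exists_int_bval (χ : IrrCharacter G) (η : IrrCharacter (K x L)) (j : ZMod p) :
    ∃ z : ℤ, bval (χ : G → ℂ) (η : K x L → ℂ) j = z := by
  have := Fintype.ofFinite (K x L)
  let φ : Multiplicative (ZMod p) × K x L →* G :=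
    { toFun := fun a => pw x a.1.toAdd * ((a.2 : L) : G)
      map_one' := by simp [hS.pw_zero]
      map_mul' := fun a b => by
        simp only [Prod.fst_mul, Prod.snd_mul, toAdd_mul, hS.pw_add, Subgroup.coe_mul]
        rw [mul_assoc, mul_assoc, ← mul_assoc (pw x b.1.toAdd),
          (hS.commute_pw _ (hS.commute_K a.2)).eq, mul_assoc] }
  have hnat : ∀ j : ZMod p, ∃ n : ℕ,
      (p : ℂ)⁻¹ * ∑ i : ZMod p, ζ (-(i * j)) * dec (x := x) (χ : G → ℂ) (η : K x L → ℂ) i = n := by
    intro j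
    let l : Multiplicative (ZMod p) →* ℂ :=
      { toFun := fun a => ζ (a.toAdd * j)
        map_one' := by simp
        map_mul' := fun a b => by rw [toAdd_mul, add_mul, ζ_add] }
    obtain ⟨n, hn⟩ := Char.IsCharacter.classInner_nat
      (Char.IsCharacter.comp_hom (Char.IsIrrCharacter.isCharacter χ.2) φ)
      (Char.IsCharacter.prodMul (Char.isCharacter_of_hom l) (Char.IsIrrCharacter.isCharacter η.2))
    refine ⟨n, ?_⟩
    rw [← hn, classInner, Fintype.sum_prod_type, Nat.card_prod, Nat.cast_mul, mul_inv, mul_assoc,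
      show Nat.card (Multiplicative (ZMod p)) = p from Nat.card_zmod p]
    congr 1
    rw [Finset.mul_sum]
    refine Fintype.sum_equiv Multiplicative.ofAdd _ _ fun i => ?_
    simp only [dec_eq, classInner, φ, l, MonoidHom.coe_mk, OneHom.coe_mk,
      toAdd_ofAdd, map_mul, conj_ζ, Finset.mul_sum]
    exact Finset.sum_congr rfl fun k _ => by ring
  obtain ⟨n₁, h₁⟩ := hnat j
  obtain ⟨n₀, h₀⟩ := hnat 0
  refine ⟨(n₁ : ℤ) - n₀, ?_⟩
  push_cast
  rw [← h₁, ← h₀, ← mul_sub, ← Finset.sum_sub_distrib, bval]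
  congr 1
  exact Finset.sum_congr rfl fun i _ => by rw [mul_zero, neg_zero, ζ_zero, one_mul, sub_mul, one_mul]

/-- The integer row. -/
noncomputable def bInt (χ : IrrCharacter G) (η : IrrCharacter (K x L)) (j : ZMod p) : ℤ :=
  (exists_int_bval hS χ η j).choose

theorem bInt_spec (χ : IrrCharacter G) (η : IrrCharacter (K x L)) (j : ZMod p) :
    bval (χ : G → ℂ) (η : K x L → ℂ) j = (bInt hS χ η j : ℂ) :=
  (exists_int_bval hS χ η j).choose_spec

theorem alpha_mem_U_iff {η : IrrCharacter (K x L)} (l : L) :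
    alpha hS l ∈ U hS (η : K x L → ℂ) ↔ cjIrr hS l η = η := by
  haveI := hS.normal_K
  rw [cjIrr_eq_iff]
  refine ⟨fun h => ?_, fun h => (mem_U hS).mpr ⟨l, h, rfl⟩⟩
  obtain ⟨l', hl', he⟩ := (mem_U hS).mp h
  rw [← cjIrr_eq_iff hS] at hl' ⊢
  have hk : l' * l⁻¹ ∈ K x L := by
    rw [← ker_alpha hS, MonoidHom.mem_ker, map_mul, map_inv, he, mul_inv_cancel]
  have hmem : cjIrr hS (l' * l⁻¹) η = η := by
    refine Subtype.ext (funext fun k => ?_)
    refine Eq.trans (congrArg (η : K x L → ℂ) (Subtype.ext ?_)) (irr_class η k ⟨_, hk⟩)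
    rw [cj_apply]
    rfl
  calc cjIrr hS l η = cjIrr hS l (cjIrr hS (l' * l⁻¹) η) := by rw [hmem]
    _ = η := by rw [cjIrr_cjIrr, inv_mul_cancel_right, hl']

theorem dec_mul_of_mem_U (χ : IrrCharacter G) {η : IrrCharacter (K x L)} {a : (ZMod p)ˣ}
    (ha : a ∈ U hS (η : K x L → ℂ)) (i : ZMod p) :
    dec (χ : G → ℂ) (η : K x L → ℂ) ((a : ZMod p) * i) = dec (χ : G → ℂ) (η : K x L → ℂ) i := by
  have := Fintype.ofFinite (K x L)
  obtain ⟨l, hl, rfl⟩ := (mem_U hS).mp ha
  rw [← dec_cjIrr hS χ l η i, (cjIrr_eq_iff hS l η).mpr hl]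

theorem bval_mul_of_mem_U (χ : IrrCharacter G) {η : IrrCharacter (K x L)} {a : (ZMod p)ˣ}
    (ha : a ∈ U hS (η : K x L → ℂ)) (j : ZMod p) :
    bval (χ : G → ℂ) (η : K x L → ℂ) ((a : ZMod p) * j) = bval (χ : G → ℂ) (η : K x L → ℂ) j := by
  rw [bval, bval]
  congr 1
  refine Fintype.sum_equiv (Equiv.mulLeft₀ (a : ZMod p) a.ne_zero) _ _ fun i => ?_
  show _ = (ζ (-((a : ZMod p) * i * j)) - 1) * dec (χ : G → ℂ) (η : K x L → ℂ) ((a : ZMod p) * i)
  rw [dec_mul_of_mem_U hS χ ha, show (a : ZMod p) * i * j = i * ((a : ZMod p) * j) by ring]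

variable (hM : IsPModular p M)
include hM

open scoped Classical in
theorem sum_dec_mul_conj [Fintype (IrrCharacter G)] {B : Set (IrrCharacter G)} [DecidablePred (· ∈ B)]
    (hB : IsPBlock M B) {η : IrrCharacter (K x L)} (hl : Lies M x L B η) {i i' : ZMod p} (hi : i ≠ 0)
    (hi' : i' ≠ 0) :
    ∑ χ ∈ Finset.univ.filter (· ∈ B),
        dec (χ : G → ℂ) (η : K x L → ℂ) i * conj (dec (χ : G → ℂ) (η : K x L → ℂ) i') =
      ∑ a : U hS (η : K x L → ℂ), if i' = ((a : (ZMod p)ˣ) : ZMod p) * i then (p : ℂ) else 0 := by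
  have := Fintype.ofFinite (K x L)
  set r : (ZMod p)ˣ := Units.mk0 i' hi' * (Units.mk0 i hi)⁻¹ with hr
  have hr' : ∀ a : (ZMod p)ˣ, i' = (a : ZMod p) * i ↔ a = r := by
    intro a
    rw [hr, eq_mul_inv_iff_mul_eq, Units.ext_iff, Units.val_mul, Units.val_mk0, Units.val_mk0]
    exact eq_comm
  have hRHS : (∑ a : U hS (η : K x L → ℂ), if i' = ((a : (ZMod p)ˣ) : ZMod p) * i then (p : ℂ) else 0) =
      if r ∈ U hS (η : K x L → ℂ) then (p : ℂ) else 0 := by
    simp only [hr']
    split_ifs with h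
    · rw [Finset.sum_eq_single ⟨r, h⟩ (fun a _ ha => if_neg fun e => ha (Subtype.ext e))
        (fun h' => absurd (Finset.mem_univ _) h'), if_pos rfl]
    · exact Finset.sum_eq_zero fun a _ => if_neg fun e => h (by rw [← e]; exact a.2)
  rw [hRHS]
  by_cases hconj : IsConj (pw x i) (pw x i')
  · obtain ⟨g, hg⟩ := isConj_iff.mp hconj
    have hgN : g ∈ Subgroup.normalizer (Subgroup.zpowers x : Set G) := by
      rw [Subgroup.mem_normalizer_iff_map_conj_eq]
      have hz : ∀ {i : ZMod p}, i ≠ 0 → Subgroup.zpowers (pw x i) = Subgroup.zpowers x := fun {i} hi =>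
        Subgroup.eq_of_le_of_card_ge (Subgroup.zpowers_le.mpr (hS.pw_mem i))
          (by rw [Nat.card_zpowers, Nat.card_zpowers, hS.orderOf_pw hi, hS.hx])
      conv_lhs => rw [← hz hi, MonoidHom.map_zpowers]
      simp only [MonoidHom.coe_coe, MulAut.conj_apply]
      rw [hg, hz hi']
    obtain ⟨u, hu, l, hlL, rfl⟩ := hS.hgen g hgN
    obtain ⟨c, rfl⟩ := hS.exists_pw hu
    have he : i' = (alpha hS ⟨l, hlL⟩ : ZMod p) * i := by
      refine hS.pw_inj ?_
      rw [← hg, show pw x c * l * pw x i * (pw x c * l)⁻¹ = pw x c * (l * pw x i * l⁻¹) * (pw x c)⁻¹ by group,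
        alpha_spec hS ⟨l, hlL⟩ i, show pw x c * pw x ((alpha hS ⟨l, hlL⟩ : ZMod p) * i) =
          pw x ((alpha hS ⟨l, hlL⟩ : ZMod p) * i) * pw x c by rw [← hS.pw_add, ← hS.pw_add, add_comm],
        mul_inv_cancel_right]
    rw [← (hr' _).mp he, alpha_mem_U_iff hS, he]
    simp only [← dec_cjIrr hS _ ⟨l, hlL⟩ η i]
    rw [sum_dec_mul hS hM hB hi hl]
    simp only [eq_comm]
  · rw [sum_dec_mul_of_not_isConj hS hM hB hi hi' hconj, if_neg]
    intro h
    obtain ⟨l, -, hl'⟩ := (mem_U hS).mp h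
    refine hconj (isConj_iff.mpr ⟨(l : G), ?_⟩)
    rw [alpha_spec hS l i, hl', ← (hr' r).mpr rfl]

open scoped Classical in
/-- The Gram matrix of the rows. -/
theorem sum_bval_mul [Fintype (IrrCharacter G)] {B : Set (IrrCharacter G)} [DecidablePred (· ∈ B)]
    (hB : IsPBlock M B) {η : IrrCharacter (K x L)} (hl : Lies M x L B η) {j j' : ZMod p} (hj : j ≠ 0)
    (hj' : j' ≠ 0) :
    ∑ χ ∈ Finset.univ.filter (· ∈ B), bval (χ : G → ℂ) (η : K x L → ℂ) j * conj (bval (χ : G → ℂ) (η : K x L → ℂ) j') =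
      ∑ a : U hS (η : K x L → ℂ), ((if ((a : (ZMod p)ˣ) : ZMod p) * j' = j then 1 else 0) + 1) := by
  have hp0 : (p : ℂ) ≠ 0 := Nat.cast_ne_zero.mpr hS.hp.ne_zero
  simp only [bval, map_mul, map_sum, map_inv₀, Complex.conj_natCast, map_sub, map_one, conj_ζ, neg_neg,
    Finset.mul_sum, Finset.sum_mul]
  rw [Finset.sum_comm, Finset.sum_congr rfl fun i' _ => Finset.sum_comm]
  have hterm : ∀ i i' : ZMod p, ∑ χ ∈ Finset.univ.filter (· ∈ B),
      (p : ℂ)⁻¹ * ((ζ (-(i * j)) - 1) * dec (χ : G → ℂ) (η : K x L → ℂ) i) *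
        ((p : ℂ)⁻¹ * ((ζ (i' * j') - 1) * conj (dec (χ : G → ℂ) (η : K x L → ℂ) i'))) =
      ∑ a : U hS (η : K x L → ℂ), if i' = ((a : (ZMod p)ˣ) : ZMod p) * i then
        (p : ℂ)⁻¹ * ((ζ (-(i * j)) - 1) * (ζ (i' * j') - 1)) else 0 := by
    intro i i'
    by_cases hi : i = 0
    · subst hi
      simp
    by_cases hi' : i' = 0
    · subst hi'
      simp
    rw [Finset.sum_congr rfl (g := fun χ : IrrCharacter G =>
      (p : ℂ)⁻¹ * ((p : ℂ)⁻¹ * ((ζ (-(i * j)) - 1) * (ζ (i' * j') - 1))) *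
        (dec (χ : G → ℂ) (η : K x L → ℂ) i * conj (dec (χ : G → ℂ) (η : K x L → ℂ) i')))
      (fun χ _ => by ring), ← Finset.mul_sum, sum_dec_mul_conj hS hM hB hl hi hi', Finset.mul_sum]
    refine Finset.sum_congr rfl fun a _ => ?_
    split_ifs
    · field_simp
    · rw [mul_zero]
  have hsum : ∀ a : U hS (η : K x L → ℂ),
      ∑ i : ZMod p, (p : ℂ)⁻¹ * ((ζ (-(i * j)) - 1) * (ζ (((a : (ZMod p)ˣ) : ZMod p) * i * j') - 1)) =
        (if ((a : (ZMod p)ˣ) : ZMod p) * j' = j then 1 else 0) + 1 := by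
    intro a
    have : ∀ i : ZMod p, (ζ (-(i * j)) - 1) * (ζ (((a : (ZMod p)ˣ) : ZMod p) * i * j') - 1) =
        ζ (i * (((a : (ZMod p)ˣ) : ZMod p) * j' - j)) - ζ (i * -j) - ζ (i * (((a : (ZMod p)ˣ) : ZMod p) * j')) + 1 := fun i => by
      rw [show i * (((a : (ZMod p)ˣ) : ZMod p) * j' - j) = -(i * j) + ((a : (ZMod p)ˣ) : ZMod p) * i * j' by ring,
        ζ_add, mul_neg, show i * (((a : (ZMod p)ˣ) : ZMod p) * j') = ((a : (ZMod p)ˣ) : ZMod p) * i * j' by ring]
      ring
    simp only [this, ← Finset.mul_sum, Finset.sum_add_distrib, Finset.sum_sub_distrib, sum_ζ_mul]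
    rw [if_neg (neg_ne_zero.mpr hj), if_neg (mul_ne_zero (Units.ne_zero _) hj'), Finset.sum_const,
      Finset.card_univ, ZMod.card, nsmul_eq_mul, mul_one]
    by_cases h : ((a : (ZMod p)ˣ) : ZMod p) * j' = j
    · rw [if_pos (sub_eq_zero.mpr h), if_pos h]; field_simp; ring
    · rw [if_neg (fun h0 => h (sub_eq_zero.mp h0)), if_neg h]; field_simp; ring
  rw [Finset.sum_comm]
  simp only [← hsum]
  rw [Finset.sum_congr rfl fun i _ => Finset.sum_congr rfl fun i' _ => hterm i i',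
    Finset.sum_congr rfl fun i _ => Finset.sum_comm, Finset.sum_comm]
  refine Finset.sum_congr rfl fun a _ => Finset.sum_congr rfl fun i _ => ?_
  rw [Finset.sum_ite_eq' Finset.univ, if_pos (Finset.mem_univ _)]

/-- The rows are orthogonal to the regular elements. -/
theorem sum_bval_apply [Fintype (IrrCharacter G)] {B : Set (IrrCharacter G)} [DecidablePred (· ∈ B)]
    (hB : IsPBlock M B) (η : IrrCharacter (K x L)) (j : ZMod p) {g : G} (hg : ¬ p ∣ orderOf g) :
    ∑ χ ∈ Finset.univ.filter (· ∈ B), bval (χ : G → ℂ) (η : K x L → ℂ) j * (χ : G → ℂ) g = 0 := by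
  have := Fintype.ofFinite (K x L)
  simp only [bval, dec_eq, classInner, Finset.mul_sum, Finset.sum_mul]
  rw [Finset.sum_comm]
  refine Finset.sum_eq_zero fun i _ => ?_
  by_cases hi : i = 0
  · subst hi; simp
  rw [Finset.sum_comm]
  refine Finset.sum_eq_zero fun k _ => ?_
  have h0 := weak_orth hM (blockInd_mem_intRing hM hB) hg
    (y := (pw x i * ((k : L) : G))⁻¹) (by rw [orderOf_inv]; exact hS.orderOf_pw_mul hi k)
  rw [finsum_mem_eq_finite_toFinset_sum _ (Set.toFinite B),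
    show (Set.toFinite B).toFinset = Finset.univ.filter (· ∈ B) by ext; simp] at h0
  rw [← mul_zero ((p : ℂ)⁻¹ * (ζ (-(i * j)) - 1) * (Nat.card (K x L) : ℂ)⁻¹ * conj ((η : K x L → ℂ) k)), ← h0,
    Finset.mul_sum]
  refine Finset.sum_congr rfl fun χ _ => ?_
  rw [← Char.IsCharacter.apply_inv (Char.IsIrrCharacter.isCharacter χ.2), inv_inv]
  ring

/-- Every member of a block over `η` has a nonzero decomposition number. -/
theorem exists_dec_ne_zero {B : Set (IrrCharacter G)} (hB : IsPBlock M B) {η : IrrCharacter (K x L)}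
    (hl : Lies M x L B η) {χ : IrrCharacter G} (hχ : χ ∈ B) :
    ∃ i : ZMod p, i ≠ 0 ∧ dec (χ : G → ℂ) (η : K x L → ℂ) i ≠ 0 := by
  classical
  by_contra hno
  push Not at hno
  have := Fintype.ofFinite G
  have := Fintype.ofFinite (K x L)
  have := Fintype.ofFinite (IrrCharacter (K x L))
  have hBeq : B = blockOf M (χ : G → ℂ) := isPBlock_eq_blockOf hM hB hχ
  have hvK : ∀ (i : ZMod p), i ≠ 0 → ∀ k : K x L, (χ : G → ℂ) (pw x i * ((k : L) : G)) = 0 := by
    intro i hi k
    rw [apply_pw_mul hS hM χ hi k]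
    refine Finset.sum_eq_zero fun φ hφ => ?_
    obtain ⟨l, rfl⟩ := orbit hS hM hB hl (hBeq ▸ (Finset.mem_filter.mp hφ).2)
    rw [dec_cjIrr hS, hno _ (mul_ne_zero (Units.ne_zero _) hi), zero_mul]
  have hvan : ∀ g : G, p ∣ orderOf g → (χ : G → ℂ) g = 0 := by
    let f : G → ℂ := fun g => (χ : G → ℂ) g * conj ((χ : G → ℂ) g)
    have hf : IsClassFunction G f := fun g h => by simp only [f, irr_class χ g h]
    have h0 := sum_singular hS hf
    rw [Finset.sum_eq_zero (s := Finset.univ.filter fun i : ZMod p => i ≠ 0) (fun i hi =>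
      Finset.sum_eq_zero fun k _ => by
        simp only [f, hvK i (Finset.mem_filter.mp hi).2 k, zero_mul]), mul_zero] at h0
    intro g hg
    simp only [f, Complex.mul_conj] at h0
    rw [← Complex.ofReal_sum, Complex.ofReal_eq_zero,
      Finset.sum_eq_zero_iff_of_nonneg fun g _ => Complex.normSq_nonneg _] at h0
    exact Complex.normSq_eq_zero.mp (h0 g (Finset.mem_filter.mpr ⟨Finset.mem_univ _, hg⟩))
  -- `χ` has defect zero
  have hP : IsPGroup p (Subgroup.zpowers x) := IsPGroup.of_card (n := 1) (by rw [hS.card_zpowers_eq, pow_one])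
  have := Fintype.ofFinite (Subgroup.zpowers x)
  obtain ⟨n, hn⟩ := BlockDefect.sum_subgroup_eq (Char.IsIrrCharacter.isCharacter χ.2) (Subgroup.zpowers x)
  rw [BlockDefect.sum_pGroup_eq_apply_one hS.hp hP hvan, hS.card_zpowers_eq, ← charDegree_cast,
    ← Nat.cast_mul, Nat.cast_inj] at hn
  obtain ⟨m, hm, hN⟩ : ∃ m, ¬ p ∣ m ∧ Nat.card G = p * m := by
    obtain ⟨m, hm⟩ := hS.hx ▸ orderOf_dvd_natCard x
    exact ⟨m, fun h => hS.hsq (by rw [hm, pow_two]; exact Nat.mul_dvd_mul_left p h), hm⟩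
  -- the idempotent of `χ` is congruent to zero on `K`
  let z : G → ℂ := ofOmega (blockInd {χ})
  have hz : ∀ g, z g = (m : ℂ)⁻¹ * ((n : ℂ) * conj ((χ : G → ℂ) g)) := by
    intro g
    show ofOmega (blockInd {χ}) g = _
    rw [← blockCoeff_eq_ofOmega, blockCoeff, finsum_mem_singleton, ← charDegree_cast, hn, hN]
    push_cast
    have : (p : ℂ) ≠ 0 := Nat.cast_ne_zero.mpr hS.hp.ne_zero
    field_simp
  have hzR : ∀ g, MemLocalRing M (z g) := fun g => by
    rw [hz, ← Char.IsCharacter.apply_inv (Char.IsIrrCharacter.isCharacter χ.2)]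
    exact memR_mul hM (memR_natCast_inv hM hm) (memR_mul hM (memR_natCast hM n)
      (memR_of_isIntegral hM (isIntegral_irr χ _)))
  have hz0 : ∀ g, p ∣ orderOf g → z g = 0 := fun g hg => by
    rw [hz, hvan g hg, map_zero, mul_zero, mul_zero]
  have hzK : ∀ k : K x L, MemLocalIdeal M (z ((k : L) : G)) := by
    intro k
    rw [hz, ← Char.IsCharacter.apply_inv (Char.IsIrrCharacter.isCharacter χ.2)]
    set y : G := ((k : L) : G)⁻¹
    have hy : y ∈ Subgroup.centralizer (Subgroup.zpowers x : Set G) := by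
      rw [Subgroup.mem_centralizer_iff]
      intro u hu
      obtain ⟨j, rfl⟩ := Subgroup.mem_zpowers_iff.mp hu
      exact ((hS.commute_K k).inv_right.zpow_left j).eq
    have hI := isIntegral_avg (Char.IsIrrCharacter.isCharacter χ.2) (Subgroup.zpowers x) hy
    have hyr : ¬ p ∣ orderOf y := by rw [orderOf_inv]; exact hS.regular_K k
    rw [Finset.sum_eq_single (1 : Subgroup.zpowers x) (fun u _ hu => ?_) (fun h => absurd (Finset.mem_univ _) h),
      OneMemClass.coe_one, mul_one, hS.card_zpowers_eq] at hI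
    · refine memI_mul_left hM (memR_natCast_inv hM hm) (memI_mul_left hM (memR_natCast hM n) ?_)
      rw [show (χ : G → ℂ) y = (p : ℂ) * ((p : ℂ)⁻¹ * (χ : G → ℂ) y) by
        rw [mul_inv_cancel_left₀ (Nat.cast_ne_zero.mpr hS.hp.ne_zero)]]
      exact memI_mul_right hM (memI_p hM) (memR_of_isIntegral hM hI)
    · refine hvan _ ?_
      obtain ⟨i, hi⟩ := hS.exists_pw u.2
      have hi0 : i ≠ 0 := fun h => hu (Subtype.ext (by rw [hi, h, hS.pw_zero, OneMemClass.coe_one]))
      rw [hi]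
      have hc : Commute (pw x i) y := hS.commute_pw i (hS.commute_K k).inv_right
      rw [← hc.eq, hc.orderOf_mul_eq_mul_orderOf_of_coprime
        (by rw [hS.orderOf_pw hi0]; exact hS.hp.coprime_iff_not_dvd.mpr hyr), hS.orderOf_pw hi0]
      exact dvd_mul_right _ _
  have h1 := lies_congr hS hM hB hl hχ (isClassFunction_ofOmega _) hzR hz0
  rw [omega_ofOmega, blockInd_of_mem (Set.mem_singleton χ)] at h1
  exact not_memI_one hM ((memI_iff_of_sub hM h1).mp
    (memI_omega hM (isClassFunction_res (isClassFunction_ofOmega _)) hzK η))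

open scoped Classical in
/-- The number of characters lying under a block. -/
theorem card_lies [Fintype (IrrCharacter (K x L))] {B : Set (IrrCharacter G)} (hB : IsPBlock M B)
    {η : IrrCharacter (K x L)} (hl : Lies M x L B η) :
    (Finset.univ.filter (Lies M x L B)).card =
      haveI := hS.normal_K; (CharApp.inertia (K x L) (η : K x L → ℂ)).index := by
  haveI := hS.normal_K
  set T : Finset (IrrCharacter (K x L)) := Finset.univ.filter (Lies M x L B)
  have hmem : ∀ φ, φ ∈ T ↔ Lies M x L B φ := fun φ => by simp [T]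
  have hI : ∀ a : L, a ∈ CharApp.inertia (K x L) (η : K x L → ℂ) ↔ cjIrr hS a η = η := fun a => by
    rw [CharApp.mem_inertia_iff, cjIrr_eq_iff hS]
    exact ⟨fun h k k' e => (congrArg _ (Subtype.ext e)).trans (h k), fun h k => h k _ rfl⟩
  rw [Subgroup.index, ← Nat.card_eq_finsetCard]
  refine (Nat.card_eq_of_bijective (fun q : L ⧸ CharApp.inertia (K x L) (η : K x L → ℂ) =>
    (⟨cjIrr hS q.out⁻¹ η, (hmem _).mpr ((lies_cjIrr hS _).mpr hl)⟩ : T)) ⟨fun q q' h => ?_, fun φ => ?_⟩).symm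
  · have h' : cjIrr hS q.out⁻¹ η = cjIrr hS q'.out⁻¹ η := congrArg Subtype.val h
    rw [← Quotient.out_eq q, ← Quotient.out_eq q']
    refine QuotientGroup.eq.mpr ((hI _).mpr ?_)
    rw [← cjIrr_cjIrr hS q'.out, h', cjIrr_cjIrr, inv_mul_cancel, cjIrr_one]
  · obtain ⟨l, hlφ⟩ := orbit hS hM hB hl ((hmem _).mp φ.2)
    refine ⟨((l⁻¹ : L) : L ⧸ CharApp.inertia (K x L) (η : K x L → ℂ)), Subtype.ext ?_⟩
    obtain ⟨u, hu⟩ := QuotientGroup.mk_out_eq_mul (CharApp.inertia (K x L) (η : K x L → ℂ)) l⁻¹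
    show cjIrr hS (((l⁻¹ : L) : L ⧸ CharApp.inertia (K x L) (η : K x L → ℂ)).out)⁻¹ η = φ.1
    rw [hu, mul_inv_rev, inv_inv, ← cjIrr_cjIrr hS l, (hI _).mp (Subgroup.inv_mem _ u.2), hlφ]

/-- The number of characters of a block minus its rank. -/
theorem card_sub_blockRank {B : Set (IrrCharacter G)} (hB : IsPBlock M B)
    {η : IrrCharacter (K x L)} (hl : Lies M x L B η) :
    ((Nat.card B : ℂ) - (blockRank p B : ℂ)) * (Nat.card (U hS (η : K x L → ℂ)) : ℂ) = ((p - 1 : ℕ) : ℂ) := by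
  classical
  haveI := hS.normal_K
  have := Fintype.ofFinite G
  have := Fintype.ofFinite (K x L)
  have := Fintype.ofFinite (IrrCharacter G)
  have := Fintype.ofFinite (IrrCharacter (K x L))
  have := Fintype.ofFinite L
  let f : G → ℂ := fun g => SecondMain.colSum B g g
  have hf : IsClassFunction G f := fun g h => by simp only [f, SecondMain.colSum, irr_class _ g h]
  have h1 : (Nat.card B : ℂ) = (Nat.card G : ℂ)⁻¹ * ∑ g, f g := by
    simp only [f, SecondMain.colSum, finsum_mem_eq_toFinset_sum]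
    rw [Finset.sum_comm, Finset.mul_sum]
    refine Eq.trans ?_ (Finset.sum_congr rfl fun χ _ =>
      (Char.classInner_irr_self χ.2).symm.trans rfl)
    rw [Finset.sum_const, nsmul_eq_mul, mul_one, Nat.card_eq_fintype_card, Set.toFinset_card]
  rw [SecondMain.blockRank_eq_regular hM hB, h1, ← mul_sub,
    ← Finset.sum_filter_add_sum_filter_not Finset.univ (fun g : G => p ∣ orderOf g) f, add_sub_cancel_right,
    sum_singular hS hf]
  let T : Finset (IrrCharacter (K x L)) := Finset.univ.filter (Lies M x L B)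
  have hsec : ∀ i : ZMod p, i ≠ 0 → ∑ k : K x L, f (pw x i * ((k : L) : G)) =
      (Nat.card (K x L) : ℂ) * (T.card * (p : ℂ)) := by
    intro i hi
    simp only [f, SecondMain.colSum, finsum_mem_eq_finite_toFinset_sum _ (Set.toFinite B)]
    rw [show (Set.toFinite B).toFinset = Finset.univ.filter (· ∈ B) by ext; simp, Finset.sum_comm]
    have hpar : ∀ χ : IrrCharacter G, ∑ k : K x L,
        (χ : G → ℂ) (pw x i * ((k : L) : G)) * conj ((χ : G → ℂ) (pw x i * ((k : L) : G))) =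
        (Nat.card (K x L) : ℂ) * ∑ φ : IrrCharacter (K x L),
          dec (χ : G → ℂ) (φ : K x L → ℂ) i * conj (dec (χ : G → ℂ) (φ : K x L → ℂ) i) := by
      intro χ
      have hcf : IsClassFunction (K x L) fun k : K x L => (χ : G → ℂ) (pw x i * ((k : L) : G)) := by
        intro a b
        simp only [Subgroup.coe_mul, Subgroup.coe_inv]
        rw [← irr_class χ (pw x i * ((a : L) : G)) ((b : L) : G)]
        rw [show ((b : L) : G) * (pw x i * ((a : L) : G)) = ((b : L) : G) * pw x i * ((a : L) : G) by group,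
          (hS.commute_pw i (hS.commute_K b)).symm.eq]
        group
      rw [show ∑ k : K x L, (χ : G → ℂ) (pw x i * ((k : L) : G)) * conj ((χ : G → ℂ) (pw x i * ((k : L) : G))) =
        (Nat.card (K x L) : ℂ) * classInner (fun k : K x L => (χ : G → ℂ) (pw x i * ((k : L) : G)))
          (fun k : K x L => (χ : G → ℂ) (pw x i * ((k : L) : G))) from (Char.card_mul_classInner _ _).symm]
      congr 1
      conv_lhs => arg 1; rw [Char.classFunction_eq_sum hcf]
      rw [Char.classInner_sum_left]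
      refine Finset.sum_congr rfl fun φ _ => ?_
      rw [Char.classInner_smul_left, dec_eq, Char.classInner_conj_symm]
    simp only [hpar, ← Finset.mul_sum]
    rw [Finset.sum_comm, ← Finset.sum_subset (Finset.subset_univ T) (fun φ _ hφ => ?_)]
    · rw [Finset.sum_congr rfl fun φ hφ => show _ = (p : ℂ) by
        rw [sum_dec_mul hS hM hB hi (Finset.mem_filter.mp hφ).2, if_pos rfl], Finset.sum_const, nsmul_eq_mul]
    · refine Finset.sum_eq_zero fun χ hχ => ?_
      rw [dec_eq_zero hS hM χ (fun h => hφ (Finset.mem_filter.mpr ⟨Finset.mem_univ _, ?_⟩)) hi, zero_mul]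
      rw [isPBlock_eq_blockOf hM hB (Finset.mem_filter.mp hχ).2]
      exact h
  rw [Finset.sum_congr rfl fun i hi => hsec i (Finset.mem_filter.mp hi).2, Finset.sum_const,
    Finset.filter_ne', Finset.card_erase_of_mem (Finset.mem_univ _), Finset.card_univ, ZMod.card, nsmul_eq_mul]
  have hT : T.card = (CharApp.inertia (K x L) (η : K x L → ℂ)).index := card_lies hS hM hB hl
  have hcard1 : (Nat.card G : ℂ) = ((Subgroup.normalizer (Subgroup.zpowers x : Set G)).index : ℂ) *
      ((p : ℂ) * (Nat.card L : ℂ)) := by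
    rw [← Nat.cast_mul, ← Nat.cast_mul, ← hS.card_normalizer, Subgroup.index_mul_card]
  have hcard2 : (Nat.card L : ℂ) =
      (Nat.card (K x L) : ℂ) * (Nat.card (U hS (η : K x L → ℂ)) : ℂ) * (T.card : ℂ) := by
    have hle : K x L ≤ CharApp.inertia (K x L) (η : K x L → ℂ) := CharApp.le_inertia _ (irr_class η)
    rw [← Nat.cast_mul, ← Nat.cast_mul, hT, card_U hS, mul_assoc, Subgroup.relIndex_mul_index hle,
      Subgroup.card_mul_index]
  have hp0 : (p : ℂ) ≠ 0 := Nat.cast_ne_zero.mpr hS.hp.ne_zero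
  have hi0 : ((Subgroup.normalizer (Subgroup.zpowers x : Set G)).index : ℂ) ≠ 0 :=
    Nat.cast_ne_zero.mpr Subgroup.index_ne_zero_of_finite
  have hK0 : (Nat.card (K x L) : ℂ) ≠ 0 := Nat.cast_ne_zero.mpr Nat.card_pos.ne'
  have hU0 : (Nat.card (U hS (η : K x L → ℂ)) : ℂ) ≠ 0 := Nat.cast_ne_zero.mpr Nat.card_pos.ne'
  have hT0 : (T.card : ℂ) ≠ 0 := by rw [hT]; exact Nat.cast_ne_zero.mpr Subgroup.index_ne_zero_of_finite
  rw [hcard1, hcard2]
  field_simp

end Cfsg.Agent.CyclicDefect
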