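/-
Blocks when `p` exactly divides `|G|` (namespace `Cfsg.Agent.CyclicDefect`).

Main results: `block_structure` (`e + t` members, constant rows `± 1` and exceptional rows `± δ_c`),
`memI_apply_one_sub` (degrees modulo `p`), `bInt_twist`, `ext_of_rows` (a member is determined by its
row and its regular values), `exists_lies_of_not_dvd`, `lies_principal`.
-/
import Cfsg.Agent.Lib.CyclicDefect.Rows
import Cfsg.Agent.Lib.CyclicDefect.Comb
import Cfsg.Agent.Lib.GaloisPow.Twist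
import Cfsg.Agent.Lib.Blocks.Simple

set_option autoImplicit false
set_option linter.unusedSectionVars false
set_option linter.style.haveILetI false

open scoped ComplexConjugate

namespace Cfsg.Agent.CyclicDefect

open Cfsg Blocks

variable {G : Type*} [Group G] {p : ℕ} [Fact p.Prime] {x : G} {L : Subgroup G} {M : Ideal AlgInt}
variable [Finite G] (hS : Setting p x L)

theorem ζ_pow (i : ZMod p) : ζ i ^ p = 1 := by
  show ZMod.stdAddChar i ^ p = 1
  rw [← AddChar.map_nsmul_eq_pow, nsmul_eq_mul, CharP.cast_eq_zero, zero_mul, AddChar.map_zero_eq_one]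

theorem ζ_eq_one_pow (i : ZMod p) : ζ i = ζ (1 : ZMod p) ^ i.val := by
  show ZMod.stdAddChar i = ZMod.stdAddChar 1 ^ i.val
  rw [← AddChar.map_nsmul_eq_pow, nsmul_eq_mul, mul_one, ZMod.natCast_zmod_val]

include hS

/-- A regular value only involves roots of unity of order prime to `p`. -/
theorem fixed_of_regular {σ : ℂ ≃+* ℂ} (hσ : ∀ z : ℂ, z ^ (Nat.card G / p) = 1 → σ z = z)
    {H : Type*} [Group H] [Finite H] {χ : H → ℂ} (hχ : IsCharacter H χ) {g : H}
    (hg : orderOf g ∣ Nat.card G / p) : σ (χ g) = χ g := by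
  obtain ⟨n, ρ, rfl⟩ := hχ
  obtain ⟨b, μ, hμ, hroot⟩ := Char.exists_eigenbasis ρ g
  rw [Char.character_eq_sum_eigenvalues ρ g b μ hμ, map_sum]
  refine Finset.sum_congr rfl fun i _ => hσ _ ?_
  obtain ⟨c, hc⟩ := hg
  rw [hc, pow_mul, hroot, one_pow]

theorem Setting.dvd_of_regular {g : G} (hg : ¬ p ∣ orderOf g) : orderOf g ∣ Nat.card G / p := by
  have hd : p ∣ Nat.card G := hS.hx ▸ orderOf_dvd_natCard x
  refine Nat.Coprime.dvd_of_dvd_mul_left (hS.hp.coprime_iff_not_dvd.mpr hg).symm ?_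
  rw [Nat.mul_div_cancel' hd]
  exact orderOf_dvd_natCard g

theorem ext_of_singular {f f' : G → ℂ} (hf : IsClassFunction G f) (hf' : IsClassFunction G f')
    (h : ∀ i : ZMod p, i ≠ 0 → ∀ k : K x L,
      f (pw x i * ((k : L) : G)) = f' (pw x i * ((k : L) : G))) {g : G} (hg : p ∣ orderOf g) :
    f g = f' g := by
  classical
  have := Fintype.ofFinite G
  have := Fintype.ofFinite (K x L)
  let F : G → ℂ := fun g => (f g - f' g) * conj (f g - f' g)
  have hF : IsClassFunction G F := fun a b => by simp only [F, hf a b, hf' a b]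
  have h0 := sum_singular hS hF
  rw [Finset.sum_eq_zero (s := Finset.univ.filter fun i : ZMod p => i ≠ 0) (fun i hi =>
    Finset.sum_eq_zero fun k _ => by
      simp only [F, h i (Finset.mem_filter.mp hi).2 k, sub_self, zero_mul]), mul_zero] at h0
  simp only [F, Complex.mul_conj] at h0
  rw [← Complex.ofReal_sum, Complex.ofReal_eq_zero,
    Finset.sum_eq_zero_iff_of_nonneg fun g _ => Complex.normSq_nonneg _] at h0
  exact sub_eq_zero.mp (Complex.normSq_eq_zero.mp (h0 g (Finset.mem_filter.mpr ⟨Finset.mem_univ _, hg⟩)))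

theorem bInt_zero (χ : IrrCharacter G) (η : IrrCharacter (K x L)) : bInt hS χ η 0 = 0 := by
  have h := bInt_spec hS χ η 0
  rw [bval_zero] at h
  exact_mod_cast h.symm

theorem bInt_mul_of_mem_U (χ : IrrCharacter G) {η : IrrCharacter (K x L)} {a : (ZMod p)ˣ}
    (ha : a ∈ U hS (η : K x L → ℂ)) (j : ZMod p) :
    bInt hS χ η ((a : ZMod p) * j) = bInt hS χ η j := by
  have h := bval_mul_of_mem_U hS χ ha j
  rw [bInt_spec hS, bInt_spec hS] at h
  exact_mod_cast h

theorem dec_eq_sum_bInt (χ : IrrCharacter G) (η : IrrCharacter (K x L)) {i : ZMod p} (hi : i ≠ 0) :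
    dec (χ : G → ℂ) (η : K x L → ℂ) i = ∑ j : ZMod p, (bInt hS χ η j : ℂ) * ζ (i * j) := by
  rw [dec_eq_sum_bval (χ : G → ℂ) (η : K x L → ℂ) hi]
  exact Finset.sum_congr rfl fun j _ => by rw [bInt_spec hS]

theorem card_units_eq (η : K x L → ℂ) :
    Nat.card (U hS η) * Nat.card ((ZMod p)ˣ ⧸ U hS η) = p - 1 := by
  rw [mul_comm, ← Subgroup.card_eq_card_quotient_mul_card_subgroup, Nat.card_eq_fintype_card, ZMod.card_units]

/-- The effect of a `p`-conjugation on a row. -/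
theorem bInt_twist {σ : ℂ ≃+* ℂ} (hσ : ∀ z : ℂ, z ^ (Nat.card G / p) = 1 → σ z = z) {s : ZMod p}
    (hs : ∀ i : ZMod p, σ (ζ i) = ζ (s * i)) {χ ψ : IrrCharacter G}
    (hψ : (ψ : G → ℂ) = fun g => σ ((χ : G → ℂ) g)) (η : IrrCharacter (K x L)) (j : ZMod p) :
    bInt hS ψ η (s * j) = bInt hS χ η j := by
  have := Fintype.ofFinite (K x L)
  have hdec : ∀ i : ZMod p, dec (ψ : G → ℂ) (η : K x L → ℂ) i = σ (dec (χ : G → ℂ) (η : K x L → ℂ) i) := by
    intro i
    rw [dec_eq, dec_eq, classInner, classInner, map_mul, map_inv₀, map_natCast, map_sum]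
    congr 1
    refine Finset.sum_congr rfl fun k _ => ?_
    rw [map_mul, hψ, ← Char.IsCharacter.apply_inv (Char.IsIrrCharacter.isCharacter η.2) k,
      fixed_of_regular hS hσ (Char.IsIrrCharacter.isCharacter η.2) (g := k⁻¹)]
    rw [orderOf_inv, ← Subgroup.orderOf_coe, ← Subgroup.orderOf_coe]
    exact hS.dvd_of_regular (hS.regular_K k)
  have h : bval (ψ : G → ℂ) (η : K x L → ℂ) (s * j) = σ (bval (χ : G → ℂ) (η : K x L → ℂ) j) := by
    rw [bval, bval, map_mul, map_inv₀, map_natCast, map_sum]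
    congr 1
    refine Finset.sum_congr rfl fun i _ => ?_
    rw [map_mul, map_sub, map_one, hdec, hs, show s * -(i * j) = -(i * (s * j)) by ring]
  rw [bInt_spec hS, bInt_spec hS, map_intCast] at h
  exact_mod_cast h

variable (hM : IsPModular p M)
include hM

theorem mem_of_bInt_ne_zero {B : Set (IrrCharacter G)} (hB : IsPBlock M B) {η : IrrCharacter (K x L)}
    (hl : Lies M x L B η) {χ : IrrCharacter G} {j : ZMod p} (h : bInt hS χ η j ≠ 0) : χ ∈ B := by
  by_contra hn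
  have h0 : ∀ i : ZMod p, i ≠ 0 → dec (χ : G → ℂ) (η : K x L → ℂ) i = 0 := fun i hi =>
    by_contra fun hd => hn (mem_of_dec_ne_zero hS hM hB hl hi hd)
  refine h (Int.cast_injective (α := ℂ) ?_)
  rw [Int.cast_zero, ← bInt_spec hS, bval, Finset.sum_eq_zero, mul_zero]
  intro i _
  by_cases hi : i = 0
  · simp [hi]
  · rw [h0 i hi, mul_zero]

/-- Two members with the same row and the same regular values are equal. -/
theorem ext_of_rows {B : Set (IrrCharacter G)} (hB : IsPBlock M B) {η : IrrCharacter (K x L)}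
    (hl : Lies M x L B η) {χ ψ : IrrCharacter G} (hχ : χ ∈ B) (hψ : ψ ∈ B)
    (hrow : ∀ j, bInt hS χ η j = bInt hS ψ η j)
    (hreg : ∀ g : G, ¬ p ∣ orderOf g → (χ : G → ℂ) g = (ψ : G → ℂ) g) : χ = ψ := by
  classical
  have := Fintype.ofFinite (K x L)
  have := Fintype.ofFinite (IrrCharacter (K x L))
  refine Subtype.ext (funext fun g => ?_)
  by_cases hg : p ∣ orderOf g
  swap
  · exact hreg g hg
  refine ext_of_singular hS (irr_class χ) (irr_class ψ) (fun i hi k => ?_) hg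
  rw [apply_pw_mul hS hM χ hi k, apply_pw_mul hS hM ψ hi k, ← isPBlock_eq_blockOf hM hB hχ,
    ← isPBlock_eq_blockOf hM hB hψ]
  refine Finset.sum_congr rfl fun φ hφ => ?_
  obtain ⟨l, rfl⟩ := orbit hS hM hB hl (Finset.mem_filter.mp hφ).2
  have hne : (alpha hS l : ZMod p) * i ≠ 0 := mul_ne_zero (Units.ne_zero _) hi
  rw [dec_cjIrr hS, dec_cjIrr hS, dec_eq_sum_bInt hS χ η hne, dec_eq_sum_bInt hS ψ η hne]
  simp only [hrow]

open scoped Classical in
/-- The structure of a block. -/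
theorem block_structure [Fintype (IrrCharacter G)] {B : Set (IrrCharacter G)} (hB : IsPBlock M B)
    {η : IrrCharacter (K x L)} (hl : Lies M x L B η) :
    Nat.card B = Nat.card (U hS (η : K x L → ℂ)) + Nat.card ((ZMod p)ˣ ⧸ U hS (η : K x L → ℂ)) ∧
    ∃ (exc : (ZMod p)ˣ ⧸ U hS (η : K x L → ℂ) → IrrCharacter G) (ε : ℤ) (δ : IrrCharacter G → ℤ),
      Function.Injective exc ∧ (∀ c, exc c ∈ B) ∧ (ε = 1 ∨ ε = -1) ∧
      (∀ c (u : (ZMod p)ˣ), bInt hS (exc c) η (u : ZMod p) =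
        if (u : (ZMod p)ˣ ⧸ U hS (η : K x L → ℂ)) = c then ε else 0) ∧
      (∀ χ ∈ B, χ ∉ Set.range exc → (δ χ = 1 ∨ δ χ = -1) ∧
        ∀ u : (ZMod p)ˣ, bInt hS χ η (u : ZMod p) = δ χ) ∧
      ∀ g : G, ¬ p ∣ orderOf g → ∀ c,
        ∑ χ ∈ Finset.univ.filter (fun χ => χ ∈ B ∧ χ ∉ Set.range exc), (δ χ : ℂ) * (χ : G → ℂ) g +
          (ε : ℂ) * (exc c : G → ℂ) g = 0 := by
  set Us := U hS (η : K x L → ℂ) with hUs
  set e := Nat.card Us with he
  have he1 : 1 ≤ e := Nat.card_pos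
  let b : B → (ZMod p)ˣ ⧸ Us → ℤ := fun χ c => bInt hS χ.1 η ((c.out : (ZMod p)ˣ) : ZMod p)
  have hb : ∀ (χ : B) (u : (ZMod p)ˣ), bInt hS χ.1 η (u : ZMod p) = b χ (u : (ZMod p)ˣ ⧸ Us) := by
    intro χ u
    obtain ⟨a, ha⟩ := QuotientGroup.mk_out_eq_mul Us u
    show _ = bInt hS χ.1 η _
    rw [ha, Units.val_mul, mul_comm, bInt_mul_of_mem_U hS χ.1 a.2]
  have hgram : ∀ c c', ∑ χ, b χ c * b χ c' = (e : ℤ) + if c = c' then 1 else 0 := by
    intro c c'
    apply Int.cast_injective (α := ℂ)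
    push_cast
    simp only [b, ← bInt_spec hS]
    rw [← Finset.sum_subtype (Finset.univ.filter (· ∈ B)) (p := (· ∈ B)) (by simp)
      (fun χ : IrrCharacter G => bval (χ : G → ℂ) (η : K x L → ℂ) ((c.out : (ZMod p)ˣ) : ZMod p) *
        bval (χ : G → ℂ) (η : K x L → ℂ) ((c'.out : (ZMod p)ˣ) : ZMod p))]
    rw [Finset.sum_congr rfl fun (χ : IrrCharacter G) _ => show
      bval (χ : G → ℂ) (η : K x L → ℂ) ((c.out : (ZMod p)ˣ) : ZMod p) *
        bval (χ : G → ℂ) (η : K x L → ℂ) ((c'.out : (ZMod p)ˣ) : ZMod p) = bval (χ : G → ℂ) (η : K x L → ℂ) ((c.out : (ZMod p)ˣ) : ZMod p) *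
      conj (bval (χ : G → ℂ) (η : K x L → ℂ) ((c'.out : (ZMod p)ˣ) : ZMod p)) by
        rw [bInt_spec hS χ η ((c'.out : (ZMod p)ˣ) : ZMod p), map_intCast],
      sum_bval_mul hS hM hB hl (Units.ne_zero _) (Units.ne_zero _), Finset.sum_add_distrib, Finset.sum_const,
      Finset.card_univ, ← Nat.card_eq_fintype_card, nsmul_eq_mul, mul_one, add_comm]
    congr 1
    by_cases h : c = c'
    · subst h
      rw [if_pos rfl, Finset.sum_eq_single (1 : Us) (fun a _ ha => if_neg fun e => ha (Subtype.ext (Units.ext ?_)))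
        (fun h => absurd (Finset.mem_univ _) h), if_pos (by simp)]
      exact mul_right_cancel₀ (Units.ne_zero c.out) (e.trans (one_mul _).symm)
    · rw [if_neg h]
      refine Finset.sum_eq_zero fun a _ => if_neg fun e => h ?_
      rw [← Quotient.out_eq c, ← Quotient.out_eq c']
      refine (QuotientGroup.eq.mpr ?_)
      have : (a : (ZMod p)ˣ) * c'.out = c.out := Units.ext e
      rw [← this, mul_inv_rev, mul_assoc, mul_comm (a : (ZMod p)ˣ)⁻¹, inv_mul_cancel_left]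
      exact Us.inv_mem a.2
  have hrow : ∀ χ : B, ∃ c, b χ c ≠ 0 := by
    intro χ
    obtain ⟨i, hi, hd⟩ := exists_dec_ne_zero hS hM hB hl χ.2
    by_contra hno
    push Not at hno
    refine hd ?_
    rw [dec_eq_sum_bInt hS χ.1 η hi]
    refine Finset.sum_eq_zero fun j _ => ?_
    by_cases hj : j = 0
    · rw [hj, bInt_zero hS, Int.cast_zero, zero_mul]
    · rw [show j = ((Units.mk0 j hj : (ZMod p)ˣ) : ZMod p) from rfl, hb χ, hno, Int.cast_zero, zero_mul]
  have hcard : Nat.card B = blockRank p B + Nat.card ((ZMod p)ˣ ⧸ Us) := by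
    have h := card_sub_blockRank hS hM hB hl
    rw [← card_units_eq hS (η : K x L → ℂ), Nat.cast_mul, mul_comm (Nat.card (U hS (η : K x L → ℂ)) : ℂ),
      mul_left_inj' (Nat.cast_ne_zero.mpr Nat.card_pos.ne'), sub_eq_iff_eq_add, add_comm] at h
    exact_mod_cast h
  have hle : e + Fintype.card ((ZMod p)ˣ ⧸ Us) ≤ Fintype.card B := by
    rw [← Nat.card_eq_fintype_card, ← Nat.card_eq_fintype_card, hcard]
    exact Nat.add_le_add_right (card_U_le_blockRank hS hM hB hl) _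
  obtain ⟨hk, exc, hinj, hexc, hcst⟩ := gram_structure b e he1 hgram hrow hle
  rw [← Nat.card_eq_fintype_card, ← Nat.card_eq_fintype_card] at hk
  choose s hs hsb using hexc
  let δ : IrrCharacter G → ℤ := fun χ =>
    if h : ∃ hm : χ ∈ B, ∀ c, exc c ≠ ⟨χ, hm⟩ then (hcst _ h.choose_spec).choose else 1
  have hnot : ∀ χ : B, χ.1 ∉ Set.range (fun c => (exc c).1) → ∀ c, exc c ≠ χ := fun χ h c e => h ⟨c, by rw [← e]⟩
  have hδ : ∀ χ : B, (∀ c, exc c ≠ χ) → (δ χ.1 = 1 ∨ δ χ.1 = -1) ∧ ∀ c, b χ c = δ χ.1 := by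
    intro χ hχ
    have h : ∃ hm : χ.1 ∈ B, ∀ c, exc c ≠ ⟨χ.1, hm⟩ := ⟨χ.2, hχ⟩
    simp only [δ, dif_pos h]
    exact (hcst _ h.choose_spec).choose_spec
  have hrel : ∀ g : G, ¬ p ∣ orderOf g → ∀ c,
      ∑ χ ∈ Finset.univ.filter (fun χ => χ ∈ B ∧ χ ∉ Set.range (fun c => (exc c).1)),
          (δ χ : ℂ) * (χ : G → ℂ) g + (s c : ℂ) * ((exc c).1 : G → ℂ) g = 0 := by
    intro g hg c
    have h0 := sum_bval_apply hS hM hB η ((c.out : (ZMod p)ˣ) : ZMod p) hg
    rw [← Finset.sum_filter_add_sum_filter_not _ (fun χ => χ ∉ Set.range (fun c => (exc c).1)),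
      Finset.filter_filter] at h0
    refine Eq.trans ?_ h0
    congr 1
    · refine Finset.sum_congr rfl fun χ hχ => ?_
      obtain ⟨hm, hn⟩ := (Finset.mem_filter.mp hχ).2
      rw [bInt_spec hS, ← (hδ ⟨χ, hm⟩ (hnot ⟨χ, hm⟩ hn)).2 c]
    · rw [Finset.sum_eq_single (exc c).1]
      · rw [bInt_spec hS, hb (exc c) c.out, show ((c.out : (ZMod p)ˣ) : (ZMod p)ˣ ⧸ Us) = c from Quotient.out_eq c,
          hsb c c, if_pos rfl]
      · intro χ hχ hne
        obtain ⟨hm, hn⟩ := Finset.mem_filter.mp hχ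
        obtain ⟨c', rfl⟩ := not_not.mp hn
        rw [bInt_spec hS, hb (exc c') c.out, show ((c.out : (ZMod p)ˣ) : (ZMod p)ˣ ⧸ Us) = c from Quotient.out_eq c,
          hsb c' c, if_neg fun e => hne (by rw [e]), Int.cast_zero, zero_mul]
      · exact fun h => absurd (Finset.mem_filter.mpr ⟨Finset.mem_filter.mpr ⟨Finset.mem_univ _, (exc c).2⟩,
          not_not.mpr ⟨c, rfl⟩⟩) h
  let c₀ : (ZMod p)ˣ ⧸ Us := ((1 : (ZMod p)ˣ) : (ZMod p)ˣ ⧸ Us)
  have hseq : ∀ c, s c = s c₀ := by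
    intro c
    have h1 : ¬ p ∣ orderOf (1 : G) := by simpa using (Fact.out : p.Prime).ne_one
    have h := (hrel 1 h1 c).trans (hrel 1 h1 c₀).symm
    rw [add_left_cancel_iff, ← charDegree_cast, ← charDegree_cast] at h
    have h' : s c * (charDegree ((exc c).1 : G → ℂ) : ℤ) = s c₀ * (charDegree ((exc c₀).1 : G → ℂ) : ℤ) :=
      Int.cast_injective (α := ℂ) (by push_cast; exact h)
    have p1 := charDegree_pos (exc c).1
    have p2 := charDegree_pos (exc c₀).1
    rcases hs c with e | e <;> rcases hs c₀ with e' | e' <;> rw [e, e'] at h' ⊢ <;> omega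
  refine ⟨hk, fun c => (exc c).1, s c₀, δ, Subtype.val_injective.comp hinj, fun c => (exc c).2, hs c₀,
    fun c u => ?_, fun χ hχ hn => ⟨(hδ ⟨χ, hχ⟩ (hnot ⟨χ, hχ⟩ hn)).1, fun u => ?_⟩, fun g hg c => ?_⟩
  · rw [hb, hsb, hseq]
  · rw [hb ⟨χ, hχ⟩, (hδ ⟨χ, hχ⟩ (hnot ⟨χ, hχ⟩ hn)).2]
  · rw [← hseq c]; exact hrel g hg c

open scoped Classical in
/-- Degrees modulo `p`. -/
theorem memI_apply_one_sub [Fintype (IrrCharacter (K x L))] {B : Set (IrrCharacter G)} (hB : IsPBlock M B)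
    {η : IrrCharacter (K x L)} (hl : Lies M x L B η) {χ : IrrCharacter G} (hχ : χ ∈ B) :
    MemLocalIdeal M ((χ : G → ℂ) 1 - ((Finset.univ.filter (Lies M x L B)).card : ℂ) *
      ((η : K x L → ℂ) 1 * ((∑ u : (ZMod p)ˣ, bInt hS χ η (u : ZMod p) : ℤ) : ℂ))) := by
  have := Fintype.ofFinite (K x L)
  have hx1 : MemLocalIdeal M ((χ : G → ℂ) x - (χ : G → ℂ) 1) := by
    refine CentralChar.memI_sub_of_pow_eq (k := 1) hM (Char.IsIrrCharacter.isCharacter χ.2) ?_
    rw [pow_one, one_pow, hS.pow_eq_one]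
  refine memI_sub_trans hM (memI_sub_comm hx1) ?_
  have hval := apply_pw_mul hS hM χ (one_ne_zero : (1 : ZMod p) ≠ 0) 1
  rw [← isPBlock_eq_blockOf hM hB hχ, hS.pw_one, OneMemClass.coe_one, OneMemClass.coe_one, mul_one] at hval
  rw [hval, ← nsmul_eq_mul, ← Finset.sum_const, ← Finset.sum_sub_distrib]
  refine memI_sum hM _ fun φ hφ => ?_
  obtain ⟨l, rfl⟩ := orbit hS hM hB hl (Finset.mem_filter.mp hφ).2
  rw [dec_cjIrr hS, mul_one, dec_eq_sum_bInt hS χ η (Units.ne_zero (alpha hS l)),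
    show (cjIrr hS l η : K x L → ℂ) 1 = (η : K x L → ℂ) 1 from congrArg _ (map_one (cj hS l)),
    mul_comm ((η : K x L → ℂ) 1), ← sub_mul, sum_units (fun j => bInt hS χ η j) (bInt_zero hS χ η)]
  push_cast
  rw [← Finset.sum_sub_distrib]
  refine memI_mul_right hM (memI_sum hM _ fun j _ => ?_) (memR_of_isIntegral hM (isIntegral_irr η _))
  rw [← mul_sub_one]
  exact memI_mul_left hM (memR_intCast hM _)
    (CentralChar.memI_sub_one_of_pow_eq_one hM (k := 1) (by rw [pow_one]; exact ζ_pow _))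

/-- A character of degree prime to `p` lies over some character of `K`. -/
theorem exists_lies_of_not_dvd (χ : IrrCharacter G) (hdeg : ¬ p ∣ charDegree (χ : G → ℂ)) :
    ∃ η : IrrCharacter (K x L), Lies M x L (blockOf M (χ : G → ℂ)) η := by
  classical
  by_contra hno
  push Not at hno
  have := Fintype.ofFinite (K x L)
  have := Fintype.ofFinite (IrrCharacter (K x L))
  have := Fintype.ofFinite (Subgroup.zpowers x)
  have := Fintype.ofFinite G
  have hvan : ∀ g : G, p ∣ orderOf g → (χ : G → ℂ) g = 0 := fun g hg =>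
    ext_of_singular hS (f' := fun _ => 0) (irr_class χ) (fun _ _ => rfl) (fun i hi k => by
      rw [apply_pw_mul hS hM χ hi k]
      exact Finset.sum_eq_zero fun φ hφ => absurd (Finset.mem_filter.mp hφ).2 (hno φ)) hg
  have hP : IsPGroup p (Subgroup.zpowers x) := IsPGroup.of_card (n := 1) (by rw [hS.card_zpowers_eq, pow_one])
  obtain ⟨n, hn⟩ := BlockDefect.sum_subgroup_eq (Char.IsIrrCharacter.isCharacter χ.2) (Subgroup.zpowers x)
  rw [BlockDefect.sum_pGroup_eq_apply_one hS.hp hP hvan, hS.card_zpowers_eq, ← charDegree_cast,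
    ← Nat.cast_mul, Nat.cast_inj] at hn
  exact hdeg ⟨n, hn⟩

end Cfsg.Agent.CyclicDefect
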