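/-
Consequences for blocks when `p` exactly divides `|G|` (namespace `Cfsg.Agent.CyclicDefect`).

Main results: `sum_bInt_exc`, `sum_bInt_const`, `intModEq_of_memI`, `exists_setting_of_sylow`,
`lies_principal`, `lies_one_iff`, `card_U_one`, `card_lies_one`.
-/
import Cfsg.Agent.Lib.CyclicDefect.Main

set_option autoImplicit false
set_option linter.unusedSectionVars false
set_option linter.style.haveILetI false

open scoped ComplexConjugate

namespace Cfsg.Agent.CyclicDefect

open Cfsg Blocks

variable {G : Type*} [Group G] [Finite G] {p : ℕ} {M : Ideal AlgInt}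

theorem intModEq_of_memI (hM : IsPModular p M) {a b : ℤ} (h : MemLocalIdeal M ((a : ℂ) - (b : ℂ))) :
    a ≡ b [ZMOD p] := by
  rw [← Int.cast_sub] at h
  have h' : MemLocalIdeal M (((a - b).natAbs : ℕ) : ℂ) := by
    rcases Int.natAbs_eq (a - b) with e | e
    · rw [e, Int.cast_natCast] at h; exact h
    · rw [e, Int.cast_neg, Int.cast_natCast] at h
      exact neg_neg (((a - b).natAbs : ℕ) : ℂ) ▸ memI_neg h
  exact (Int.modEq_iff_dvd.mpr (Int.natCast_dvd.mpr ((memI_natCast hM).mp h'))).symm

theorem exists_setting_of_sylow (hp : p.Prime) (P : Sylow p G) (hP : Nat.card P = p) :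
    ∃ (x : G) (L : Subgroup G), (P : Subgroup G) = Subgroup.zpowers x ∧ Setting p x L := by
  haveI : Fact p.Prime := ⟨hp⟩
  obtain ⟨g, hg⟩ := (isCyclic_of_prime_card hP).exists_generator
  have hg' : Subgroup.zpowers g = ⊤ := (Subgroup.eq_top_iff' _).mpr hg
  have hx : orderOf (g : G) = p := by
    rw [Subgroup.orderOf_coe, ← Nat.card_zpowers, hg', Subgroup.card_top]; exact hP
  have hsq : ¬ p ^ 2 ∣ Nat.card G := by
    intro h
    have hc := P.card_eq_multiplicity
    rw [show Nat.card (P : Subgroup G) = p from hP] at hc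
    have h1 := (hp.pow_dvd_iff_le_factorization Nat.card_pos.ne').mp h
    have := Nat.pow_right_injective hp.two_le ((pow_one p).trans hc)
    omega
  obtain ⟨L, hS⟩ := exists_setting hp hx hsq
  refine ⟨g, L, (Subgroup.eq_of_le_of_card_ge (Subgroup.zpowers_le.mpr g.2) ?_).symm, hS⟩
  rw [show Nat.card (P : Subgroup G) = p from hP, Nat.card_zpowers, hx]

variable [Fact p.Prime] {x : G} {L : Subgroup G} (hS : Setting p x L)
include hS

omit hS in
open scoped Classical in
theorem card_fiber (U : Subgroup (ZMod p)ˣ) (c : (ZMod p)ˣ ⧸ U) :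
    (Finset.univ.filter fun u : (ZMod p)ˣ => (u : (ZMod p)ˣ ⧸ U) = c).card = Nat.card U := by
  rw [← Nat.card_eq_finsetCard]
  refine (Nat.card_eq_of_bijective (fun a : U => (⟨c.out * a, Finset.mem_filter.mpr ⟨Finset.mem_univ _, ?_⟩⟩ :
    (Finset.univ.filter fun u : (ZMod p)ˣ => (u : (ZMod p)ˣ ⧸ U) = c : Finset _))) ⟨fun a b h => ?_, ?_⟩).symm
  · rw [QuotientGroup.mk_mul_of_mem _ a.2]; exact Quotient.out_eq c
  · exact Subtype.ext (mul_left_cancel (congrArg Subtype.val h :))
  · rintro ⟨u, hu⟩
    refine ⟨⟨c.out⁻¹ * u, QuotientGroup.eq.mp ?_⟩, Subtype.ext (mul_inv_cancel_left _ _)⟩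
    rw [(Finset.mem_filter.mp hu).2]
    exact Quotient.out_eq c

open scoped Classical in
theorem sum_bInt_exc {η : IrrCharacter (K x L)} {χ : IrrCharacter G} {c : (ZMod p)ˣ ⧸ U hS (η : K x L → ℂ)}
    {ε : ℤ} (h : ∀ u : (ZMod p)ˣ, bInt hS χ η (u : ZMod p) =
      if (u : (ZMod p)ˣ ⧸ U hS (η : K x L → ℂ)) = c then ε else 0) :
    ∑ u : (ZMod p)ˣ, bInt hS χ η (u : ZMod p) = ε * (Nat.card (U hS (η : K x L → ℂ)) : ℤ) := by
  rw [Finset.sum_congr rfl fun u _ => h u, ← Finset.sum_filter, Finset.sum_const, card_fiber,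
    nsmul_eq_mul, mul_comm]

theorem sum_bInt_const {η : IrrCharacter (K x L)} {χ : IrrCharacter G} {δ : ℤ}
    (h : ∀ u : (ZMod p)ˣ, bInt hS χ η (u : ZMod p) = δ) :
    ∑ u : (ZMod p)ˣ, bInt hS χ η (u : ZMod p) = δ * ((p - 1 : ℕ) : ℤ) := by
  rw [Finset.sum_congr rfl fun u _ => h u, Finset.sum_const, Finset.card_univ, ZMod.card_units,
    nsmul_eq_mul, mul_comm]

omit hS in
/-- The principal character of `K`. -/
noncomputable def oneK (x : G) (L : Subgroup G) : IrrCharacter (K x L) := ⟨1, Char.isIrrCharacter_one⟩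

theorem cjIrr_oneK (l : L) : cjIrr hS l (oneK x L) = oneK x L := rfl

theorem card_U_one : Nat.card (U hS (oneK x L : K x L → ℂ)) = (K x L).index := by
  haveI := hS.normal_K
  rw [card_U hS, show CharApp.inertia (K x L) (oneK x L : K x L → ℂ) = ⊤ from
    eq_top_iff.mpr fun l _ => (CharApp.mem_inertia_iff _).mpr fun _ => rfl, Subgroup.relIndex_top_right]

variable (hM : IsPModular p M)
include hM

/-- The principal character lies under the principal block. -/
theorem lies_principal : Lies M x L (principalBlock M G) (oneK x L) := by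
  classical
  obtain ⟨B, hB, hl, -⟩ := exists_lies hS hM (oneK x L)
  have := Fintype.ofFinite G
  have := Fintype.ofFinite (K x L)
  letI := ModRep.resField hM
  haveI := BrauerPairs.res_charP hM
  have haR := memR_blockCoeff hM hB
  let a : G → BrauerPairs.Res M := fun g => BrauerPairs.res M (blockCoeff B g)
  -- the coefficients of the idempotent sum to the sum over `K`
  have hsum : ∑ g, a g = ∑ k : K x L, a ((k : L) : G) := by
    rw [← Finset.sum_filter_add_sum_filter_not Finset.univ (fun g => Commute x g) a]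
    have h0 : ∑ g ∈ Finset.univ.filter (fun g => ¬ Commute x g), a g = 0 := by
      rw [Finset.sum_subtype (Finset.univ.filter (fun g => ¬ Commute x g)) (p := fun g => ¬ Commute x g) (by simp)]
      have hcomm : ∀ (i : ZMod p) (g : G), ¬ Commute x g → ¬ Commute x (pw x i * g * (pw x i)⁻¹) := by
        intro i g hg h
        refine hg ?_
        have := (((hS.commute_pw i (Commute.refl x)).symm.inv_right).mul_right h).mul_right
          (hS.commute_pw i (Commute.refl x)).symm
        simpa [mul_assoc] using this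
      have hinv : ∀ i : ZMod p, (pw x i)⁻¹ = pw x (-i) := fun i =>
        inv_eq_of_mul_eq_one_right (by rw [← hS.pw_add, add_neg_cancel, hS.pw_zero])
      have hadd : ∀ (i j : ZMod p) (g : G), pw x i * (pw x j * g * (pw x j)⁻¹) * (pw x i)⁻¹ =
          pw x (i + j) * g * (pw x (i + j))⁻¹ := fun i j g => by rw [hS.pw_add]; group
      have hzero : ∀ g : G, pw x (0 : ZMod p) * g * (pw x (0 : ZMod p))⁻¹ = g := fun g => by rw [hS.pw_zero]; group
      refine sum_eq_zero_of_free
        (fun (i : ZMod p) (g : {g : G // ¬ Commute x g}) => ⟨pw x i * g.1 * (pw x i)⁻¹, hcomm i g g.2⟩)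
        _ (fun g i j h => ?_) (fun g => ⟨0, Subtype.ext (hzero g.1)⟩)
        (fun i j g => ⟨i + j, Subtype.ext (hadd i j g.1)⟩)
        (fun i g => ⟨-i, Subtype.ext ((hadd (-i) i g.1).trans (by rw [neg_add_cancel]; exact hzero g.1))⟩) (fun g => ?_) _
        (fun g _ i => Finset.mem_univ _)
      · have h' : pw x i * g.1 * (pw x i)⁻¹ = pw x j * g.1 * (pw x j)⁻¹ := congrArg Subtype.val h
        by_contra hne
        refine g.2 ((hS.commute_pw_iff (i := -j + i) fun e => hne (neg_add_eq_zero.mp e).symm).mp ?_)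
        have h2 := congrArg (fun y => pw x (-j) * y * (pw x (-j))⁻¹) h'
        rw [hadd, hadd, neg_add_cancel, hzero, mul_inv_eq_iff_eq_mul] at h2
        exact h2
      · rw [Finset.sum_congr rfl (g := fun _ => a g.1) fun i _ =>
          congrArg (BrauerPairs.res M) (isClassFunction_blockCoeff B g.1 (pw x i)), Finset.sum_const,
          Finset.card_univ, ZMod.card, nsmul_eq_mul, CharP.cast_eq_zero, zero_mul]
    rw [h0, add_zero, ← Finset.sum_subset (s₁ := Finset.univ.image fun k : K x L => ((k : L) : G)) (fun g hg => by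
      obtain ⟨k, -, rfl⟩ := Finset.mem_image.mp hg
      exact Finset.mem_filter.mpr ⟨Finset.mem_univ _, hS.commute_K k⟩) (fun g hg hgi => ?_),
      Finset.sum_image fun a _ b _ h => Subtype.ext (Subtype.ext h)]
    by_cases hr : p ∣ orderOf g
    · show BrauerPairs.res M _ = 0
      rw [blockCoeff_singular hM hB hr, BrauerPairs.res_zero hM]
    · obtain ⟨k, rfl⟩ := hS.exists_K_of_regular (Finset.mem_filter.mp hg).2 hr
      exact absurd (Finset.mem_image.mpr ⟨k, Finset.mem_univ _, rfl⟩) hgi
  obtain ⟨hP, h1P⟩ := principal_isPBlock (G := G) hM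
  suffices B = principalBlock M G by rwa [← this]
  refine isPBlock_eq_of_mem hM hB hP (by_contra fun hn => ?_) h1P
  have hw : omega (1 : G → ℂ) (blockCoeff B) = 0 := by
    rw [show (1 : G → ℂ) = ((⟨1, Char.isIrrCharacter_one⟩ : IrrCharacter G) : G → ℂ) from rfl,
      blockCoeff_eq_ofOmega, omega_ofOmega, blockInd_of_notMem hn]
  rw [omega_eq_sum] at hw
  simp only [Pi.one_apply, mul_one, div_one] at hw
  have hl' : MemLocalIdeal M (omega (oneK x L : K x L → ℂ) (fun k : K x L => blockCoeff B ((k : L) : G)) - 1) := hl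
  rw [omega_eq_sum] at hl'
  simp only [oneK, Pi.one_apply, mul_one, div_one] at hl'
  rw [← BrauerPairs.res_eq_one_iff hM (memR_sum hM _ fun k _ => haR _),
    BrauerPairs.res_sum hM _ fun k _ => haR _] at hl'
  have h2 := congrArg (BrauerPairs.res M) hw
  rw [BrauerPairs.res_sum hM _ fun g _ => haR g, BrauerPairs.res_zero hM] at h2
  exact one_ne_zero (α := BrauerPairs.Res M) (hl'.symm.trans (hsum.symm.trans h2))

open scoped Classical in
theorem card_lies_one [Fintype (IrrCharacter (K x L))] :
    (Finset.univ.filter (Lies M x L (principalBlock M G))).card = 1 := by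
  haveI := hS.normal_K
  rw [card_lies hS hM (principal_isPBlock hM).1 (lies_principal hS hM),
    show CharApp.inertia (K x L) (oneK x L : K x L → ℂ) = ⊤ from
      eq_top_iff.mpr fun l _ => (CharApp.mem_inertia_iff _).mpr fun _ => rfl, Subgroup.index_top]

end Cfsg.Agent.CyclicDefect
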