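/-
The multiplicities of a character on `⟨x⟩ × K` (namespace `Cfsg.Agent.CyclicDefect`).

Main results: `mult` (multiplicity of `ζ ^ j ⊗ φ`), `exists_mult_eq`, `multN`, `dec_eq_sum_mult`,
`bInt_eq_sub`, `apply_one_eq_sum`, `apply_eq_sum`, `mult_sum`, `sum_mult_sq`.
-/
import Cfsg.Agent.Lib.CyclicDefect.Apply

set_option autoImplicit false
set_option linter.unusedSectionVars false
set_option linter.style.haveILetI false

open scoped ComplexConjugate

namespace Cfsg.Agent.CyclicDefect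

open Cfsg Blocks

variable {G : Type*} [Group G] [Finite G] {p : ℕ} [Fact p.Prime] {x : G} {L : Subgroup G}

/-- The multiplicity of `ζ ^ j ⊗ φ` in the restriction of `χ` to `⟨x⟩ × K`. -/
noncomputable def mult (χ : G → ℂ) (φ : K x L → ℂ) (j : ZMod p) : ℂ :=
  (p : ℂ)⁻¹ * ∑ i : ZMod p, ζ (-(i * j)) * dec (x := x) χ φ i

theorem bval_eq_sub (χ : G → ℂ) (φ : K x L → ℂ) (j : ZMod p) :
    bval χ φ j = mult χ φ j - mult χ φ (0 : ZMod p) := by
  rw [bval, mult, mult, ← mul_sub, ← Finset.sum_sub_distrib]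
  refine congrArg _ (Finset.sum_congr rfl fun i _ => ?_)
  rw [mul_zero, neg_zero, ζ_zero, one_mul, sub_mul, one_mul]

theorem dec_eq_sum_mult (χ : G → ℂ) (φ : K x L → ℂ) (i : ZMod p) :
    dec χ φ i = ∑ j : ZMod p, mult χ φ j * ζ (i * j) := by
  simp only [mult, mul_assoc, Finset.sum_mul, ← Finset.mul_sum]
  rw [Finset.sum_comm]
  have hterm : ∀ i' : ZMod p, ∑ j : ZMod p, ζ (-(i' * j)) * (dec χ φ i' * ζ (i * j)) =
      if i' = i then (p : ℂ) * dec χ φ i' else 0 := by
    intro i'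
    have : ∀ j : ZMod p, ζ (-(i' * j)) * (dec χ φ i' * ζ (i * j)) = dec χ φ i' * ζ (j * (i - i')) := by
      intro j
      rw [show j * (i - i') = -(i' * j) + i * j by ring, ζ_add]
      ring
    rw [Finset.sum_congr rfl fun j _ => this j, ← Finset.mul_sum, sum_ζ_mul]
    by_cases h : i' = i
    · rw [if_pos h, if_pos (by rw [h, sub_self]), mul_comm]
    · rw [if_neg h, if_neg (sub_ne_zero.mpr (Ne.symm h)), mul_zero]
  rw [Finset.sum_congr rfl fun i' _ => hterm i', Finset.sum_ite_eq' Finset.univ i,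
    if_pos (Finset.mem_univ _), inv_mul_cancel_left₀ (Nat.cast_ne_zero.mpr (Fact.out : p.Prime).ne_zero)]

/-- Orthogonality of the exponents. -/
theorem sum_mult_sq (χ : G → ℂ) (φ : K x L → ℂ) :
    ∑ j : ZMod p, mult χ φ j * conj (mult χ φ j) =
      (p : ℂ)⁻¹ * ∑ i : ZMod p, dec χ φ i * conj (dec χ φ i) := by
  have hinner : ∀ i : ZMod p, dec χ φ i * conj (dec χ φ i) =
      ∑ j : ZMod p, ∑ j' : ZMod p, (mult χ φ j * conj (mult χ φ j')) * ζ (i * (j - j')) := by
    intro i
    rw [dec_eq_sum_mult χ φ i, map_sum, Finset.sum_mul_sum]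
    refine Finset.sum_congr rfl fun j _ => Finset.sum_congr rfl fun j' _ => ?_
    rw [map_mul, conj_ζ, mul_sub, sub_eq_add_neg, ζ_add]
    ring
  simp only [hinner]
  rw [Finset.sum_comm, Finset.mul_sum]
  refine Finset.sum_congr rfl fun j _ => ?_
  rw [Finset.sum_comm, Finset.sum_congr rfl fun j' _ => (Finset.mul_sum _ _ _).symm]
  simp only [sum_ζ_mul]
  rw [Finset.sum_eq_single j (fun j' _ hne => by rw [if_neg (sub_ne_zero.mpr (Ne.symm hne)), mul_zero])
      (fun h => absurd (Finset.mem_univ _) h), if_pos (sub_self j), mul_comm _ (p : ℂ),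
    inv_mul_cancel_left₀ (Nat.cast_ne_zero.mpr (Fact.out : p.Prime).ne_zero)]

variable (hS : Setting p x L)
include hS

theorem exists_mult_eq {χ : G → ℂ} (hχ : IsCharacter G χ) (φ : IrrCharacter (K x L)) (j : ZMod p) :
    ∃ n : ℕ, mult χ (φ : K x L → ℂ) j = n := by
  have := Fintype.ofFinite (K x L)
  let h : Multiplicative (ZMod p) × K x L →* G :=
    { toFun := fun a => pw x a.1.toAdd * ((a.2 : L) : G)
      map_one' := by simp [hS.pw_zero]
      map_mul' := fun a b => by
        simp only [Prod.fst_mul, Prod.snd_mul, toAdd_mul, hS.pw_add, Subgroup.coe_mul]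
        rw [mul_assoc, mul_assoc, ← mul_assoc (pw x b.1.toAdd),
          (hS.commute_pw _ (hS.commute_K a.2)).eq, mul_assoc] }
  let l : Multiplicative (ZMod p) →* ℂ :=
    { toFun := fun a => ζ (a.toAdd * j)
      map_one' := by simp
      map_mul' := fun a b => by rw [toAdd_mul, add_mul, ζ_add] }
  obtain ⟨n, hn⟩ := Char.IsCharacter.classInner_nat (Char.IsCharacter.comp_hom hχ h)
    (Char.IsCharacter.prodMul (Char.isCharacter_of_hom l) (Char.IsIrrCharacter.isCharacter φ.2))
  refine ⟨n, ?_⟩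
  rw [← hn, classInner, Fintype.sum_prod_type, Nat.card_prod, Nat.cast_mul, mul_inv, mul_assoc,
    show Nat.card (Multiplicative (ZMod p)) = p from Nat.card_zmod p, mult]
  congr 1
  rw [Finset.mul_sum]
  refine Fintype.sum_equiv Multiplicative.ofAdd _ _ fun i => ?_
  simp only [dec_eq, classInner, h, l, MonoidHom.coe_mk, OneHom.coe_mk,
    toAdd_ofAdd, map_mul, conj_ζ, Finset.mul_sum]
  exact Finset.sum_congr rfl fun k _ => by ring

/-- The multiplicity as a natural number. -/
noncomputable def multN (χ : IrrCharacter G) (φ : IrrCharacter (K x L)) (j : ZMod p) : ℕ :=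
  (exists_mult_eq hS (Char.IsIrrCharacter.isCharacter χ.2) φ j).choose

theorem multN_spec (χ : IrrCharacter G) (φ : IrrCharacter (K x L)) (j : ZMod p) :
    mult (χ : G → ℂ) (φ : K x L → ℂ) j = (multN hS χ φ j : ℂ) :=
  (exists_mult_eq hS (Char.IsIrrCharacter.isCharacter χ.2) φ j).choose_spec

theorem bInt_eq_sub (χ : IrrCharacter G) (φ : IrrCharacter (K x L)) (j : ZMod p) :
    bInt hS χ φ j = (multN hS χ φ j : ℤ) - multN hS χ φ 0 := by
  have h := (bInt_spec hS χ φ j).symm.trans (bval_eq_sub _ _ j)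
  rw [multN_spec hS, multN_spec hS] at h
  exact_mod_cast h

theorem sum_bInt_eq (χ : IrrCharacter G) (φ : IrrCharacter (K x L)) :
    ∑ u : (ZMod p)ˣ, bInt hS χ φ (u : ZMod p) =
      ((∑ j : ZMod p, multN hS χ φ j : ℕ) : ℤ) - p * multN hS χ φ 0 := by
  rw [sum_units (fun j => bInt hS χ φ j) (bInt_zero hS χ φ), Finset.sum_congr rfl (fun j _ => bInt_eq_sub hS χ φ j),
    Finset.sum_sub_distrib, Finset.sum_const, Finset.card_univ, ZMod.card, nsmul_eq_mul, Nat.cast_sum]

/-- The expansion on `⟨x⟩ × K`. -/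
theorem apply_eq_sum [Fintype (K x L)] [Fintype (IrrCharacter (K x L))] {χ : G → ℂ}
    (hχ : IsClassFunction G χ) (i : ZMod p) (k : K x L) :
    χ (pw x i * ((k : L) : G)) =
      ∑ φ : IrrCharacter (K x L), dec χ (φ : K x L → ℂ) i * (φ : K x L → ℂ) k := by
  have hcf : IsClassFunction (K x L) fun k : K x L => χ (pw x i * ((k : L) : G)) := by
    intro a b
    simp only [Subgroup.coe_mul, Subgroup.coe_inv]
    rw [← hχ (pw x i * ((a : L) : G)) ((b : L) : G)]
    rw [show ((b : L) : G) * (pw x i * ((a : L) : G)) = ((b : L) : G) * pw x i * ((a : L) : G) by group,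
      (hS.commute_pw i (hS.commute_K b)).symm.eq]
    group
  refine (congrFun (Char.classFunction_eq_sum hcf) k).trans ?_
  rw [Finset.sum_apply]
  refine Finset.sum_congr rfl fun η _ => ?_
  rw [Pi.smul_apply, smul_eq_mul, ← dec_eq]

theorem dec_zero_eq (χ : IrrCharacter G) (φ : IrrCharacter (K x L)) :
    dec (χ : G → ℂ) (φ : K x L → ℂ) (0 : ZMod p) = ((∑ j : ZMod p, multN hS χ φ j : ℕ) : ℂ) := by
  rw [dec_eq_sum_mult, Nat.cast_sum]
  exact Finset.sum_congr rfl fun j _ => by rw [zero_mul, ζ_zero, mul_one, multN_spec hS]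

theorem charDegree_eq_sum [Fintype (IrrCharacter (K x L))] (χ : IrrCharacter G) :
    charDegree (χ : G → ℂ) =
      ∑ φ : IrrCharacter (K x L), charDegree (φ : K x L → ℂ) * ∑ j : ZMod p, multN hS χ φ j := by
  have := Fintype.ofFinite (K x L)
  apply Nat.cast_injective (R := ℂ)
  rw [charDegree_cast, Nat.cast_sum]
  have h := apply_eq_sum hS (irr_class χ) (0 : ZMod p) 1
  rw [hS.pw_zero, OneMemClass.coe_one, OneMemClass.coe_one, mul_one] at h
  rw [h]
  refine Finset.sum_congr rfl fun φ _ => ?_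
  rw [dec_zero_eq hS, ← charDegree_cast, Nat.cast_mul, mul_comm]

theorem mul_sum_multN_le [Fintype (IrrCharacter (K x L))] (χ : IrrCharacter G) (φ : IrrCharacter (K x L)) :
    charDegree (φ : K x L → ℂ) * ∑ j : ZMod p, multN hS χ φ j ≤ charDegree (χ : G → ℂ) := by
  rw [charDegree_eq_sum hS χ]
  exact Finset.single_le_sum (f := fun φ : IrrCharacter (K x L) =>
    charDegree (φ : K x L → ℂ) * ∑ j : ZMod p, multN hS χ φ j) (fun _ _ => Nat.zero_le _) (Finset.mem_univ φ)

theorem sum_multN_le [Fintype (IrrCharacter (K x L))] (χ : IrrCharacter G) (φ : IrrCharacter (K x L)) :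
    ∑ j : ZMod p, multN hS χ φ j ≤ charDegree (χ : G → ℂ) := by
  refine le_trans ?_ (mul_sum_multN_le hS χ φ)
  refine Nat.le_mul_of_pos_left _ (Nat.pos_of_ne_zero fun h => irr_one_ne_zero φ ?_)
  rw [← charDegree_cast, h, Nat.cast_zero]

theorem mult_sum {ι : Type*} (s : Finset ι) (c : ι → ℂ) (f : ι → G → ℂ) (φ : K x L → ℂ) (j : ZMod p) :
    mult (∑ a ∈ s, c a • f a) φ j = ∑ a ∈ s, c a * mult (f a) φ j := by
  have := Fintype.ofFinite (K x L)
  have hd : ∀ i : ZMod p, dec (x := x) (∑ a ∈ s, c a • f a) φ i = ∑ a ∈ s, c a * dec (x := x) (f a) φ i := by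
    intro i
    simp only [dec_eq, classInner, Finset.sum_apply, Pi.smul_apply, smul_eq_mul, Finset.sum_mul,
      Finset.mul_sum]
    rw [Finset.sum_comm]
    exact Finset.sum_congr rfl fun _ _ => Finset.sum_congr rfl fun _ _ => by ring
  simp only [mult, hd, Finset.mul_sum]
  rw [Finset.sum_comm]
  exact Finset.sum_congr rfl fun _ _ => Finset.sum_congr rfl fun _ _ => by ring

end Cfsg.Agent.CyclicDefect
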