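/-
Reduction of `χ χ̄` when `x` has few exponents on each component (namespace `Cfsg.Agent.CyclicDefect`).

Main results: `sum_conj_pow_eq_zero`, `dec_one_eq_degree` (a constituent of `χ χ̄` with a non zero
fixed space of `K` is trivial on `K`, if `x` has at most `e` exponents on each `K`-component, `4e ≤ p + 2`).
-/
import Cfsg.Agent.Lib.CyclicDefect.Mult
import Cfsg.Agent.Lib.BrauerSuzuki.Lattice
import Mathlib.LinearAlgebra.Matrix.Kronecker

set_option autoImplicit false
set_option linter.unusedSectionVars false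
set_option linter.style.haveILetI false

open scoped ComplexConjugate Kronecker
open Matrix

namespace Cfsg.Agent.CyclicDefect

open Cfsg Blocks BrauerPairs

section algebra

theorem sum_pow_eq_sub_one_pow {F E : Type*} [Field F] (p : ℕ) [hp : Fact p.Prime] [CharP F p]
    [Ring E] [Algebra F E] (T : E) : ∑ i ∈ Finset.range p, T ^ i = (T - 1) ^ (p - 1) := by
  have hP : (∑ i ∈ Finset.range p, (Polynomial.X : Polynomial F) ^ i) = (Polynomial.X - 1) ^ (p - 1) := by
    apply mul_right_cancel₀ (b := (Polynomial.X - 1 : Polynomial F))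
    · rw [← Polynomial.C_1]; exact Polynomial.X_sub_C_ne_zero 1
    · rw [geom_sum_mul, ← pow_succ, Nat.sub_add_cancel hp.out.one_le, sub_pow_char, one_pow]
  have h := congrArg (Polynomial.aeval T) hP
  simpa using h

theorem sum_conj_pow_eq_zero {F A : Type*} [Field F] [Ring A] [Algebra F A] (p : ℕ) [hp : Fact p.Prime]
    [CharP F p] {a b h : A} {e : ℕ} (ha : (a - 1) ^ e = 0) (hb : (b - 1) ^ e = 0) (he : 2 * e ≤ p) :
    ∑ i ∈ Finset.range p, a ^ i * h * b ^ i = 0 := by
  set P := LinearMap.mulLeft F a with hP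
  set Q := LinearMap.mulRight F b with hQ
  have hc : Commute P Q := LinearMap.commute_mulLeft_right a b
  have h1 : (P - 1) ^ e = 0 := by
    rw [show P - 1 = LinearMap.mulLeft F (a - 1) from LinearMap.ext fun y => by simp [hP, sub_mul],
      LinearMap.pow_mulLeft, ha, LinearMap.mulLeft_zero_eq_zero]
  have h2 : (Q - 1) ^ e = 0 := by
    rw [show Q - 1 = LinearMap.mulRight F (b - 1) from LinearMap.ext fun y => by simp [hQ, mul_sub],
      LinearMap.pow_mulRight, hb, LinearMap.mulRight_zero_eq_zero]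
  have hPQ : P * Q - 1 = (P - 1) * Q + (Q - 1) := by rw [sub_mul, one_mul]; abel
  have h3 : (P * Q - 1) ^ (p - 1) = 0 := by
    rw [hPQ]
    refine Commute.add_pow_eq_zero_of_add_le_succ_of_pow_eq_zero (m := e) (n := e) ?_ ?_ h2 ?_
    · exact ((hc.sub_left (Commute.one_left Q)).sub_right (Commute.one_right _)).mul_left
        ((Commute.refl Q).sub_right (Commute.one_right Q))
    · rw [(hc.sub_left (Commute.one_left Q)).mul_pow, h1, zero_mul]
    · have := hp.out.two_le; omega
  have h4 := congrArg (fun T : Module.End F A => T h) ((sum_pow_eq_sub_one_pow (F := F) p (P * Q)).trans h3)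
  simp only [LinearMap.sum_apply, LinearMap.zero_apply] at h4
  rw [← h4]
  refine Finset.sum_congr rfl fun i _ => ?_
  rw [hc.mul_pow, hP, hQ, LinearMap.pow_mulLeft, LinearMap.pow_mulRight]
  simp [mul_assoc]

theorem eq_zero_of_trace_eq_zero {n : Type*} [Fintype n] [DecidableEq n] {Z : Matrix n n ℂ}
    (hZ : Z * Z = Z) (ht : Z.trace = 0) : Z = 0 := by
  have hproj : IsIdempotentElem (Matrix.toLin' Z) := by
    show Matrix.toLin' Z * Matrix.toLin' Z = Matrix.toLin' Z
    rw [Module.End.mul_eq_comp, ← Matrix.toLin'_mul, hZ]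
  have h := (LinearMap.IsIdempotentElem.isProj_range _ hproj).trace
  rw [Matrix.trace_toLin'_eq, ht] at h
  have h' : LinearMap.range (Matrix.toLin' Z) = ⊥ :=
    Submodule.finrank_eq_zero.mp (by exact_mod_cast h.symm)
  exact Matrix.toLin'.injective ((LinearMap.range_eq_bot.mp h').trans (map_zero _).symm)

variable {H : Type*} [Group H] [Fintype H] {R : Type*} [CommRing R] {n : Type*} [Fintype n]
  [DecidableEq n] (σ : H →* Matrix n n R)

/-- The action of a coefficient function. -/
def opF (f : H → R) : Matrix n n R := ∑ h, f h • σ h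

theorem opF_sub (f g : H → R) : opF σ (f - g) = opF σ f - opF σ g := by
  simp [opF, sub_smul, Finset.sum_sub_distrib]

theorem opF_sum {ι : Type*} (s : Finset ι) (f : ι → H → R) :
    opF σ (∑ a ∈ s, f a) = ∑ a ∈ s, opF σ (f a) := by
  simp only [opF, Finset.sum_apply, Finset.sum_smul]
  exact Finset.sum_comm

theorem opF_single [DecidableEq H] (a : H) : opF σ (fun h => if h = a then 1 else 0) = σ a := by
  simp [opF, ite_smul]

theorem opF_mul (f g : H → R) :
    opF σ f * opF σ g = opF σ (fun h => ∑ a, f a * g (a⁻¹ * h)) := by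
  simp only [opF, Finset.sum_smul]
  rw [Finset.sum_mul]
  conv_rhs => rw [Finset.sum_comm]
  refine Finset.sum_congr rfl fun a _ => ?_
  rw [Finset.mul_sum]
  refine Fintype.sum_equiv (Equiv.mulLeft a) _ _ fun b => ?_
  simp [smul_smul, mul_comm (g b)]

theorem opF_commute {f : H → R} (hf : ∀ a b : H, f (a * b * a⁻¹) = f b) (a : H) :
    Commute (σ a) (opF σ f) := by
  show σ a * opF σ f = opF σ f * σ a
  simp only [opF, Finset.sum_mul, Finset.mul_sum, mul_smul_comm, smul_mul_assoc, ← map_mul]
  refine Fintype.sum_equiv (MulAut.conj a).toEquiv _ _ fun b => ?_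
  simp only [MulEquiv.toEquiv_eq_coe, EquivLike.coe_coe, MulAut.conj_apply, hf,
    inv_mul_cancel_right]

end algebra

section reduction

variable {p : ℕ} {M : Ideal AlgInt}

/-- Reduction on the local ring. -/
noncomputable def resR (hM : IsPModular p M) : locRing hM →+* Res M where
  toFun z := res M (z : ℂ)
  map_one' := res_one hM
  map_mul' a b := res_mul hM a.2 b.2
  map_zero' := res_zero hM
  map_add' a b := res_add hM a.2 b.2

/-- A small eigenvalue: if a matrix over the local ring reduces to zero, so do its eigenvalues. -/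
theorem memI_eigen (hM : IsPModular p M) {n : Type*} [Fintype n] [DecidableEq n]
    {D : Matrix n n (locRing hM)} (hD : D.map (resR hM) = 0) {Y : Matrix n n ℂ} (hY : Y ≠ 0) {c : ℂ}
    (hc : MemLocalRing M c) (h : D.map (locRing hM).subtype * Y = c • Y) : MemLocalIdeal M c := by
  letI := ModRep.resField hM
  let c' : locRing hM := ⟨c, hc⟩
  obtain ⟨i, j, hij⟩ : ∃ i j, Y i j ≠ 0 := by
    by_contra hh
    push Not at hh
    exact hY (Matrix.ext hh)
  have hdetC : ((D - c' • (1 : Matrix n n (locRing hM))).map (locRing hM).subtype).det = 0 := by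
    refine Matrix.exists_mulVec_eq_zero_iff.mp ⟨fun k => Y k j, fun h0 => hij (congrFun h0 i), ?_⟩
    funext k
    have hk := congrFun (congrFun h k) j
    rw [Matrix.mul_apply, Matrix.smul_apply, smul_eq_mul] at hk
    simp only [Matrix.mulVec, dotProduct, Matrix.map_apply, Matrix.sub_apply, Matrix.smul_apply,
      map_sub, smul_eq_mul, map_mul, Pi.zero_apply, sub_mul, Finset.sum_sub_distrib]
    rw [sub_eq_zero]
    refine hk.trans ?_
    rw [Finset.sum_eq_single k (fun l _ hl => by rw [Matrix.one_apply_ne (Ne.symm hl), map_zero, mul_zero, zero_mul])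
      (fun hn => absurd (Finset.mem_univ _) hn), Matrix.one_apply_eq, map_one, mul_one]
    rfl
  have hdet : (D - c' • (1 : Matrix n n (locRing hM))).det = 0 := by
    apply Subtype.val_injective
    exact ((locRing hM).subtype.map_det _).trans hdetC
  have h1 := congrArg (resR hM) hdet
  rw [RingHom.map_det, map_zero, RingHom.mapMatrix_apply] at h1
  have hmap : (D - c' • (1 : Matrix n n (locRing hM))).map (resR hM) =
      (-(resR hM c')) • (1 : Matrix n n (Res M)) := by
    ext k l
    have hkl : resR hM (D k l) = 0 := congrFun (congrFun hD k) l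
    simp only [Matrix.map_apply, Matrix.sub_apply, Matrix.smul_apply, smul_eq_mul, map_sub, map_mul,
      hkl, zero_sub, neg_mul]
    rw [Matrix.one_apply, Matrix.one_apply]
    split_ifs <;> simp
  rw [hmap, Matrix.det_smul, Matrix.det_one, mul_one, neg_pow, mul_eq_zero] at h1
  rcases h1 with h1 | h1
  · exact absurd (pow_eq_zero_iff'.mp h1).1 (neg_ne_zero.mpr one_ne_zero)
  · exact (res_eq_zero_iff hM hc).mp (pow_eq_zero_iff'.mp h1).1

end reduction

section twist

/-- The conjugation representation in matrix form. -/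
def adRep {G : Type*} [Group G] {R : Type*} [CommRing R] {n : Type*} [Fintype n] [DecidableEq n]
    (σ : G →* Matrix n n R) : G →* Matrix (n × n) (n × n) R where
  toFun g := σ g ⊗ₖ (σ g⁻¹)ᵀ
  map_one' := by rw [inv_one, map_one, Matrix.transpose_one, Matrix.one_kronecker_one]
  map_mul' a b := by
    rw [_root_.mul_inv_rev, map_mul, map_mul, Matrix.transpose_mul, Matrix.mul_kronecker_mul]

theorem adRep_map {G : Type*} [Group G] {R S : Type*} [CommRing R] [CommRing S] {n : Type*} [Fintype n]
    [DecidableEq n] (σ : G →* Matrix n n R) (f : R →+* S) (g : G) :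
    (adRep σ g).map f = adRep ((f.mapMatrix).toMonoidHom.comp σ) g := by
  ext a b
  simp [adRep, Matrix.kroneckerMap_apply]

theorem trace_adRep {G : Type*} [Group G] {R : Type*} [CommRing R] {n : Type*} [Fintype n]
    [DecidableEq n] (σ : G →* Matrix n n R) (g : G) :
    (adRep σ g).trace = (σ g).trace * (σ g⁻¹).trace := by
  show (σ g ⊗ₖ (σ g⁻¹)ᵀ).trace = _
  rw [Matrix.trace_kronecker, Matrix.trace_transpose]

theorem adRep_nilpotent {G : Type*} [Group G] {R : Type*} [CommRing R] {n : Type*} [Fintype n]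
    [DecidableEq n] (σ : G →* Matrix n n R) (g : G) {e : ℕ} (h : (σ g - 1) ^ e = 0) :
    (adRep σ g - 1) ^ (2 * e - 1) = 0 := by
  have h' : ((σ g⁻¹)ᵀ - 1) ^ e = 0 := by
    have e1 : σ g⁻¹ - 1 = -(σ g⁻¹) * (σ g - 1) := by
      rw [neg_mul, mul_sub, ← map_mul, inv_mul_cancel, map_one, mul_one, neg_sub]
    have hc : Commute (-(σ g⁻¹)) (σ g - 1) :=
      (((Commute.inv_left (Commute.refl g)).map σ).sub_right (Commute.one_right _)).neg_left
    have h2 : (σ g⁻¹ - 1) ^ e = 0 := by rw [e1, hc.mul_pow, h, mul_zero]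
    rw [show (σ g⁻¹)ᵀ - 1 = (σ g⁻¹ - 1)ᵀ by rw [Matrix.transpose_sub, Matrix.transpose_one],
      ← Matrix.transpose_pow, h2, Matrix.transpose_zero]
  set A : Matrix (n × n) (n × n) R := σ g ⊗ₖ (1 : Matrix n n R)
  set B : Matrix (n × n) (n × n) R := (1 : Matrix n n R) ⊗ₖ (σ g⁻¹)ᵀ
  have hAB : adRep σ g = A * B := by
    show σ g ⊗ₖ (σ g⁻¹)ᵀ = _
    rw [← Matrix.mul_kronecker_mul, mul_one, one_mul]
  have hcom : Commute A B := by
    show A * B = B * A
    rw [← Matrix.mul_kronecker_mul, ← Matrix.mul_kronecker_mul, mul_one, one_mul, mul_one, one_mul]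
  have hk1 : ∀ (Z : Matrix n n R) (k : ℕ),
      (Z ⊗ₖ (1 : Matrix n n R)) ^ k = (Z ^ k) ⊗ₖ (1 : Matrix n n R) := by
    intro Z k
    induction k with
    | zero => simp
    | succ k ih => rw [pow_succ, pow_succ, ih, ← Matrix.mul_kronecker_mul, mul_one]
  have hk2 : ∀ (Z : Matrix n n R) (k : ℕ),
      ((1 : Matrix n n R) ⊗ₖ Z) ^ k = (1 : Matrix n n R) ⊗ₖ (Z ^ k) := by
    intro Z k
    induction k with
    | zero => simp
    | succ k ih => rw [pow_succ, pow_succ, ih, ← Matrix.mul_kronecker_mul, mul_one]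
  have hA : (A - 1) ^ e = 0 := by
    rw [show A - 1 = (σ g - 1) ⊗ₖ (1 : Matrix n n R) from ?_, hk1, h, Matrix.zero_kronecker]
    ext ⟨a, b⟩ ⟨c, d⟩
    simp only [A, Matrix.kroneckerMap_apply, Matrix.one_apply, Matrix.sub_apply, Prod.mk.injEq]
    split_ifs <;> simp_all
  have hB : (B - 1) ^ e = 0 := by
    rw [show B - 1 = (1 : Matrix n n R) ⊗ₖ ((σ g⁻¹)ᵀ - 1) from ?_, hk2, h', Matrix.kronecker_zero]
    ext ⟨a, b⟩ ⟨c, d⟩
    simp only [B, Matrix.kroneckerMap_apply, Matrix.one_apply, Matrix.sub_apply, Prod.mk.injEq]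
    split_ifs <;> simp_all
  rw [hAB, show A * B - 1 = (A - 1) * B + (B - 1) by rw [sub_mul, one_mul]; abel]
  refine Commute.add_pow_eq_zero_of_add_le_succ_of_pow_eq_zero (m := e) (n := e) ?_ ?_ hB (by omega)
  · exact ((hcom.sub_left (Commute.one_left B)).sub_right (Commute.one_right _)).mul_left
      ((Commute.refl B).sub_right (Commute.one_right B))
  · rw [(hcom.sub_left (Commute.one_left B)).mul_pow, hA, zero_mul]

end twist

end Cfsg.Agent.CyclicDefect
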