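/-
Constituents of `χ χ̄` with a non zero fixed space of `K` (namespace `Cfsg.Agent.CyclicDefect`).

Main results: `sub_one_pow_eq_zero` (the reduction of `x` has small nilpotency), `dec_one_eq_degree`.
-/
import Cfsg.Agent.Lib.CyclicDefect.Lattice

set_option autoImplicit false
set_option linter.unusedSectionVars false
set_option linter.style.haveILetI false

open scoped ComplexConjugate
open Matrix

namespace Cfsg.Agent.CyclicDefect

open Cfsg Blocks BrauerPairs

theorem opF_map {H : Type*} [Group H] [Fintype H] {R S : Type*} [CommRing R] [CommRing S] {n : Type*}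
    [Fintype n] [DecidableEq n] (σ : H →* Matrix n n R) (g : R →+* S) (f : H → R) :
    (opF σ f).map g = opF ((g.mapMatrix).toMonoidHom.comp σ) (fun h => g (f h)) := by
  ext a b
  simp [opF, Matrix.sum_apply]

theorem mul_aeval_of_mul_eq {R A : Type*} [CommRing R] [Ring A] [Algebra R A] {q a : A} {c : R}
    (h : q * a = c • q) (P : Polynomial R) : q * Polynomial.aeval a P = P.eval c • q := by
  induction P using Polynomial.induction_on with
  | C r => rw [Polynomial.aeval_C, Polynomial.eval_C, ← Algebra.commutes, ← Algebra.smul_def]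
  | add P Q hP hQ => rw [map_add, mul_add, hP, hQ, Polynomial.eval_add, add_smul]
  | monomial m r ih =>
    rw [pow_succ, ← mul_assoc, map_mul, ← mul_assoc, ih, Polynomial.aeval_X, smul_mul_assoc, h,
      smul_smul, Polynomial.eval_mul_X]

variable {G : Type*} [Group G] [Finite G] {p : ℕ} [Fact p.Prime] {x : G} {L : Subgroup G}
  (hS : Setting p x L) {M : Ideal AlgInt} (hM : IsPModular p M)
include hS hM

/-- The inclusion of `K` in `G`. -/
def inclK (x : G) (L : Subgroup G) : K x L →* G := L.subtype.comp (K x L).subtype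

set_option maxHeartbeats 800000 in
/-- The reduction of `x` on a realisation. -/
theorem sub_one_pow_eq_zero (χ : IrrCharacter G) {e : ℕ}
    (hX : ∀ φ : IrrCharacter (K x L), ∃ S : Finset (ZMod p), S.card ≤ e ∧
      ∀ j ∉ S, multN hS χ φ j = 0)
    {n : ℕ} (ρ : G →* Matrix (Fin n) (Fin n) (locRing hM)) (κ : ℂ)
    (htr : ∀ g, ((ρ g).map (locRing hM).subtype).trace = κ * (χ : G → ℂ) g) :
    ((ρ x).map (resR hM) - 1) ^ e = 0 := by
  classical
  letI := ModRep.resField hM
  have := Fintype.ofFinite (K x L)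
  have := Fintype.ofFinite (IrrCharacter (K x L))
  set ρC : G →* Matrix (Fin n) (Fin n) ℂ := ((locRing hM).subtype.mapMatrix).toMonoidHom.comp ρ with hρC
  set ρF : G →* Matrix (Fin n) (Fin n) (Res M) := ((resR hM).mapMatrix).toMonoidHom.comp ρ with hρF
  have hp0 : (p : ℂ) ≠ 0 := Nat.cast_ne_zero.mpr hS.hp.ne_zero
  let fφ : IrrCharacter (K x L) → K x L → ℂ := fun φ => ofOmega (blockInd {φ})
  have hfval : ∀ φ k, fφ φ k = (Nat.card (K x L) : ℂ)⁻¹ * ((φ : K x L → ℂ) 1 * conj ((φ : K x L → ℂ) k)) := by
    intro φ k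
    rw [show fφ φ k = ofOmega (blockInd {φ}) k from rfl, ofOmega_eq_sum, Finset.sum_eq_single φ]
    · rw [blockInd_of_mem (Set.mem_singleton φ), one_mul]
    · intro ψ _ hne
      rw [blockInd_of_notMem (fun h => hne (Set.mem_singleton_iff.mp h)), zero_mul, zero_mul]
    · exact fun h => absurd (Finset.mem_univ φ) h
  have hfR : ∀ φ k, MemLocalRing M (fφ φ k) := fun φ k => by
    rw [hfval]
    exact memR_mul hM (memR_natCast_inv hM hS.not_dvd_card_K) (memR_mul hM
      (memR_of_isIntegral hM (isIntegral_irr φ 1))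
      (memR_of_isIntegral hM (Char.IsCharacter.isIntegral
        (Char.IsCharacter.conj (Char.IsIrrCharacter.isCharacter φ.2)) k)))
  let fR : IrrCharacter (K x L) → K x L → locRing hM := fun φ k => ⟨fφ φ k, hfR φ k⟩
  let A : IrrCharacter (K x L) → Matrix (Fin n) (Fin n) ℂ := fun φ => opF (ρC.comp (inclK x L)) (fφ φ)
  -- the projectors of the exponents
  let Q : ZMod p → Matrix (Fin n) (Fin n) ℂ :=
    fun j => (p : ℂ)⁻¹ • ∑ i : ZMod p, ζ (-(i * j)) • ρC (pw x i)
  have hQshift : ∀ j a : ZMod p, ρC (pw x a) * Q j = ζ (a * j) • Q j := by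
    intro j a
    simp only [Q, mul_smul_comm, Finset.mul_sum, Finset.smul_sum, smul_smul, ← map_mul, ← hS.pw_add]
    refine Fintype.sum_equiv (Equiv.addLeft a) _ _ fun i => ?_
    rw [Equiv.coe_addLeft, mul_left_comm, ← ζ_add, show a * j + -((a + i) * j) = -(i * j) by ring]
  have hQQ : ∀ j, Q j * Q j = Q j := by
    intro j
    conv_lhs => arg 1; simp only [Q]
    rw [smul_mul_assoc, Finset.sum_mul]
    simp only [smul_mul_assoc, hQshift, smul_smul, ← ζ_add, neg_add_cancel, ζ_zero, one_smul]
    rw [Finset.sum_const, Finset.card_univ, ZMod.card, ← Nat.cast_smul_eq_nsmul ℂ, smul_smul,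
      inv_mul_cancel₀ hp0, one_smul]
  have hQsum : ∑ j, Q j = 1 := by
    simp only [Q, ← Finset.smul_sum]
    rw [Finset.sum_comm]
    simp only [← Finset.sum_smul]
    rw [Finset.sum_eq_single (0 : ZMod p)]
    · simp only [zero_mul, neg_zero, ζ_zero, Finset.sum_const, Finset.card_univ, ZMod.card, hS.pw_zero,
        map_one, nsmul_eq_mul, mul_one]
      rw [smul_smul, inv_mul_cancel₀ hp0, one_smul]
    · intro i _ hi
      rw [Finset.sum_congr rfl (g := fun j => ζ (j * -i)) fun j _ => by rw [mul_neg, mul_comm j i],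
        sum_ζ_mul, if_neg (neg_ne_zero.mpr hi), zero_smul]
    · exact fun h => absurd (Finset.mem_univ _) h
  have hcomm : ∀ (φ : IrrCharacter (K x L)) (a : ZMod p), Commute (ρC (pw x a)) (A φ) := fun φ a => by
    refine Commute.sum_right _ _ _ fun k _ => Commute.smul_right ?_ _
    exact (hS.commute_pw a (hS.commute_K k)).map ρC
  have hAQ : ∀ φ j, Commute (A φ) (Q j) := fun φ j =>
    (Commute.sum_right _ _ _ fun i _ => ((hcomm φ i).symm.smul_right _)).smul_right _
  have hAA : ∀ φ, A φ * A φ = A φ := fun φ => by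
    rw [opF_mul]
    refine congrArg (opF _) (funext fun k => ?_)
    rw [← conv_eq_sum, ← ofOmega_mul, blockInd_mul_self]
  have htrace : ∀ φ j, (A φ * Q j).trace = κ * ((φ : K x L → ℂ) 1 * mult (χ : G → ℂ) (φ : K x L → ℂ) j) := by
    intro φ j
    simp only [A, opF, Q, mul_smul_comm, Finset.sum_mul, Finset.mul_sum, smul_mul_assoc,
      Matrix.trace_smul, Matrix.trace_sum, smul_eq_mul]
    have ht : ∀ (i : ZMod p) (k : K x L), (ρC.comp (inclK x L) k * ρC (pw x i)).trace =
        κ * (χ : G → ℂ) (pw x i * ((k : L) : G)) := fun i k => by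
      rw [MonoidHom.comp_apply, ← map_mul, (hS.commute_pw i (hS.commute_K k)).eq]
      exact htr _
    simp only [ht, hfval, mult, dec_eq, classInner, Finset.mul_sum]
    refine Finset.sum_congr rfl fun i _ => Finset.sum_congr rfl fun k _ => ?_
    ring
  -- the annihilating polynomial on each component
  have hann : ∀ φ : IrrCharacter (K x L),
      opF (ρF.comp (inclK x L)) (fun k => resR hM (fR φ k)) * (ρF x - 1) ^ e = 0 := by
    intro φ
    obtain ⟨S, hScard, hSz⟩ := hX φ
    have hζR : ∀ s : ZMod p, MemLocalRing M (ζ s) := fun s => memR_of_isIntegral hM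
      (IsIntegral.of_pow hS.hp.pos (by rw [ζ_pow]; exact isIntegral_one))
    let P : Polynomial (locRing hM) := ∏ s ∈ S, (Polynomial.X - Polynomial.C ⟨ζ s, hζR s⟩)
    have h1 : (opF (ρ.comp (inclK x L)) (fR φ) * Polynomial.aeval (ρ x) P).map (locRing hM).subtype = 0 := by
      rw [Matrix.map_mul, opF_map]
      have hmap : (Polynomial.aeval (ρ x) P).map (locRing hM).subtype =
          Polynomial.aeval (ρC x) (P.map (locRing hM).subtype) := by
        simp only [Polynomial.aeval_def, Polynomial.eval₂_map]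
        exact Polynomial.hom_eval₂ P _ ((locRing hM).subtype.mapMatrix) (ρ x) |>.trans (congrArg
          (fun f => Polynomial.eval₂ f (ρC x) P) (RingHom.ext fun r => by
            ext a b
            simp only [RingHom.comp_apply, RingHom.mapMatrix_apply, Matrix.map_apply,
              Matrix.algebraMap_matrix_apply]
            split_ifs <;> simp))
      rw [hmap]
      show A φ * _ = 0
      rw [← mul_one (A φ), ← hQsum, Finset.mul_sum, Finset.sum_mul]
      refine Finset.sum_eq_zero fun j _ => ?_
      have hq : A φ * Q j * ρC x = ζ j • (A φ * Q j) := by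
        have h := hQshift j 1
        rw [hS.pw_one, one_mul] at h
        have hc : Commute (Q j) (ρC x) := (Commute.sum_left _ _ _ fun i _ =>
          ((((Commute.refl x).pow_left i.val).map ρC).smul_left _)).smul_left _
        rw [mul_assoc, hc.eq, h, mul_smul_comm]
      rw [mul_aeval_of_mul_eq hq]
      by_cases hj : j ∈ S
      · rw [show (P.map (locRing hM).subtype).eval (ζ j) = 0 from ?_, zero_smul]
        simp only [P, Polynomial.map_prod, Polynomial.eval_prod]
        exact Finset.prod_eq_zero hj (by simp)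
      · rw [eq_zero_of_trace_eq_zero (Z := A φ * Q j) ?_ ?_, smul_zero]
        · rw [(hAQ φ j).symm.mul_mul_mul_comm, hAA, hQQ]
        · rw [htrace, multN_spec hS χ φ j, hSz j hj, Nat.cast_zero, mul_zero, mul_zero]
    have h2 : opF (ρ.comp (inclK x L)) (fR φ) * Polynomial.aeval (ρ x) P = 0 := by
      ext a b
      have := congrFun (congrFun h1 a) b
      simpa using this
    have h3 := congrArg (fun Z : Matrix (Fin n) (Fin n) (locRing hM) => Z.map (resR hM)) h2
    simp only [Matrix.map_mul, Matrix.map_zero _ (map_zero _), opF_map] at h3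
    have h4 : (Polynomial.aeval (ρ x) P).map (resR hM) = (ρF x - 1) ^ S.card := by
      simp only [P]
      clear h1 h2 h3 hSz hScard P
      induction S using Finset.induction_on with
      | empty => simp [Matrix.map_one]
      | insert s T hs ih =>
        rw [Finset.prod_insert hs, map_mul, Matrix.map_mul, ih, Finset.card_insert_of_notMem hs, pow_succ']
        refine congrArg (· * _) ?_
        rw [map_sub, Polynomial.aeval_X, Polynomial.aeval_C, Matrix.map_sub _ (map_sub _)]
        refine congrArg (fun Z : Matrix (Fin n) (Fin n) (Res M) => ρF x - Z) ?_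
        have hz : resR hM ⟨ζ s, hζR s⟩ = 1 :=
          (res_eq_one_iff hM (hζR s)).mpr (CentralChar.memI_sub_one_of_pow_eq_one hM (k := 1)
            (by rw [pow_one]; exact ζ_pow s))
        ext a b
        rw [Matrix.map_apply, Matrix.algebraMap_matrix_apply, Matrix.one_apply]
        split_ifs
        · exact hz
        · exact map_zero _
    rw [h4] at h3
    rw [← Nat.add_sub_cancel' hScard, pow_add, ← mul_assoc]
    exact (congrArg (· * _) h3).trans (zero_mul _)
  have hone : ∑ φ : IrrCharacter (K x L), opF (ρF.comp (inclK x L)) (fun k => resR hM (fR φ k)) = 1 := by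
    rw [← opF_sum]
    rw [show (∑ φ : IrrCharacter (K x L), fun k => resR hM (fR φ k)) = fun k => if k = 1 then 1 else 0 from ?_,
      opF_single, map_one]
    funext k
    rw [Finset.sum_apply, ← map_sum, show (∑ φ : IrrCharacter (K x L), fR φ k) = if k = 1 then 1 else 0 from ?_]
    · rw [apply_ite (resR hM), map_one, map_zero]
    · apply Subtype.val_injective
      have hd := congrFun (ofOmega_one (G := K x L)) k
      rw [ofOmega_eq_sum] at hd
      refine Eq.trans ?_ (hd.trans (by split_ifs <;> rfl))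
      rw [AddSubmonoidClass.coe_finsetSum, Finset.mul_sum]
      exact Finset.sum_congr rfl fun φ _ => by rw [show (fR φ k : ℂ) = fφ φ k from rfl, hfval]; simp
  have hz : ∑ φ : IrrCharacter (K x L),
      opF (ρF.comp (inclK x L)) (fun k => resR hM (fR φ k)) * (ρF x - 1) ^ e = 0 :=
    Finset.sum_eq_zero fun φ _ => hann φ
  rw [← Finset.sum_mul, hone, one_mul] at hz
  exact hz

omit hM in
/-- Translates of a class function under a character. -/
theorem sum_translate [Fintype G] (φ : IrrCharacter G) {f : G → ℂ} (hf : IsClassFunction G f) (a : G) :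
    ∑ g, f g * (φ : G → ℂ) (g * a) = omega (φ : G → ℂ) f * (φ : G → ℂ) a := by
  simpa using BrauerSuzuki.sum_translate_eq φ.2 hf 1 a

set_option maxHeartbeats 1600000 in
/-- A constituent of `χ χ̄` whose restriction to `K` has the principal character is trivial on `K`, if
`x` has at most `e` exponents on each component and `4 e ≤ p + 2`. -/
theorem dec_one_eq_degree (χ : IrrCharacter G) {e : ℕ} (he : 4 * e ≤ p + 2)
    (hX : ∀ φ : IrrCharacter (K x L), ∃ S : Finset (ZMod p), S.card ≤ e ∧
      ∀ j ∉ S, multN hS χ φ j = 0)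
    (m : IrrCharacter G → ℕ) [Fintype (IrrCharacter G)]
    (hm : (fun g => (χ : G → ℂ) g * conj ((χ : G → ℂ) g)) = ∑ ψ, (m ψ : ℂ) • (ψ : G → ℂ))
    {ψ : IrrCharacter G} (hψ : m ψ ≠ 0)
    (hd : dec (ψ : G → ℂ) (oneK x L : K x L → ℂ) (0 : ZMod p) ≠ 0) :
    dec (ψ : G → ℂ) (oneK x L : K x L → ℂ) (0 : ZMod p) = (ψ : G → ℂ) 1 := by
  classical
  letI := ModRep.resField hM
  haveI := res_charP hM
  have := Fintype.ofFinite G
  have := Fintype.ofFinite (K x L)
  have := Fintype.ofFinite (G ⧸ Subgroup.zpowers x)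
  have hp0 : (p : ℂ) ≠ 0 := Nat.cast_ne_zero.mpr hS.hp.ne_zero
  obtain ⟨n, ρ0, hn, hρR, htr, -⟩ := BrauerSuzuki.exists_realisation hM χ.2
  set κ : ℂ := n / (χ : G → ℂ) 1 with hκ
  have hκ0 : κ ≠ 0 := div_ne_zero (Nat.cast_ne_zero.mpr hn.ne') (irr_one_ne_zero χ)
  let ρ : G →* Matrix (Fin n) (Fin n) (locRing hM) :=
    { toFun := fun g => Matrix.of fun i j => ⟨ρ0 g i j, hρR g i j⟩
      map_one' := by
        ext i j
        show ρ0 1 i j = _
        rw [map_one, Matrix.one_apply, Matrix.one_apply]
        split_ifs <;> rfl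
      map_mul' := fun a b => by
        ext i j
        show ρ0 (a * b) i j = _
        simp [map_mul, Matrix.mul_apply] }
  have hρC : ∀ g, (ρ g).map (locRing hM).subtype = ρ0 g := fun g => rfl
  have hX1 := sub_one_pow_eq_zero hS hM χ hX ρ κ (fun g => by rw [hρC]; exact htr g)
  let T := adRep ρ
  set TC : G →* Matrix (Fin n × Fin n) (Fin n × Fin n) ℂ :=
    ((locRing hM).subtype.mapMatrix).toMonoidHom.comp T with hTC
  set TF : G →* Matrix (Fin n × Fin n) (Fin n × Fin n) (Res M) :=
    ((resR hM).mapMatrix).toMonoidHom.comp T with hTF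
  have hnilp : ∀ i : ℕ, (TF (x ^ i) - 1) ^ (2 * e - 1) = 0 := by
    intro i
    show ((T (x ^ i)).map (resR hM) - 1) ^ _ = 0
    rw [adRep_map]
    refine adRep_nilpotent _ _ ?_
    show ((ρ (x ^ i)).map (resR hM) - 1) ^ e = 0
    rw [← RingHom.mapMatrix_apply, map_pow, map_pow, RingHom.mapMatrix_apply]
    have hfac := geom_sum_mul ((ρ x).map (resR hM)) i
    rw [← hfac, Commute.mul_pow ?_, hX1, mul_zero]
    exact (Commute.sum_left _ _ _ fun j _ => (Commute.refl _).pow_left j).sub_right (Commute.one_right _)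
  have hWtr : ∀ g, (TC g).trace = κ * κ * ∑ φ, (m φ : ℂ) * (φ : G → ℂ) g := by
    intro g
    have hW := congrFun hm g
    simp only [Finset.sum_apply, Pi.smul_apply, smul_eq_mul] at hW
    show ((T g).map (locRing hM).subtype).trace = _
    rw [adRep_map, trace_adRep, ← hW]
    show ((ρ g).map (locRing hM).subtype).trace * ((ρ g⁻¹).map (locRing hM).subtype).trace = _
    rw [hρC, hρC, htr, htr, Char.IsCharacter.apply_inv (Char.IsIrrCharacter.isCharacter χ.2)]
    ring
  let u : locRing hM := ⟨(Nat.card (K x L) : ℂ)⁻¹, memR_natCast_inv hM hS.not_dvd_card_K⟩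
  let ER : Matrix (Fin n × Fin n) (Fin n × Fin n) (locRing hM) := u • ∑ k : K x L, T (inclK x L k)
  let cq : G ⧸ Subgroup.zpowers x → K x L → G := fun q k => q.out * ((k : L) : G) * q.out⁻¹
  have hwd : ∀ (g : G) (k : K x L), cq (g : G ⧸ Subgroup.zpowers x) k = g * ((k : L) : G) * g⁻¹ := by
    intro g k
    obtain ⟨v, hv⟩ := QuotientGroup.mk_out_eq_mul (Subgroup.zpowers x) g
    obtain ⟨i, hi⟩ := hS.exists_pw v.2
    show (g : G ⧸ Subgroup.zpowers x).out * _ * _ = _
    rw [hv, hi]
    have hc := hS.commute_pw i (hS.commute_K k)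
    calc g * pw x i * ((k : L) : G) * (g * pw x i)⁻¹
        = g * (pw x i * ((k : L) : G) * (pw x i)⁻¹) * g⁻¹ := by group
      _ = _ := by rw [hc.eq, mul_inv_cancel_right]
  let D : Matrix (Fin n × Fin n) (Fin n × Fin n) (locRing hM) :=
    (∑ q : G ⧸ Subgroup.zpowers x, u • ∑ k : K x L, T (cq q k)) - (Nat.card L : locRing hM) • ER
  -- the reduction of `D` vanishes
  have hD : D.map (resR hM) = 0 := by
    let EF : Matrix (Fin n × Fin n) (Fin n × Fin n) (Res M) := resR hM u • ∑ k : K x L, TF (inclK x L k)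
    let h : G ⧸ Subgroup.zpowers x → Matrix (Fin n × Fin n) (Fin n × Fin n) (Res M) := fun q =>
      resR hM u • ∑ k : K x L, TF (cq q k)
    have hmk : ∀ g : G, h (g : G ⧸ Subgroup.zpowers x) = TF g * EF * TF g⁻¹ := by
      intro g
      simp only [h, hwd, EF, mul_smul_comm, smul_mul_assoc, Finset.mul_sum, Finset.sum_mul, map_mul]
      rfl
    have hDF : D.map (resR hM) = (∑ q, h q) - (Nat.card L : Res M) • EF := by
      rw [← RingHom.mapMatrix_apply]
      ext a b
      simp [D, ER, h, EF, hTF, Matrix.sum_apply, Finset.mul_sum]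
    rw [hDF, sub_eq_zero, ← Finset.sum_filter_add_sum_filter_not Finset.univ
      (fun q : G ⧸ Subgroup.zpowers x => x • q = q) h]
    have hxinv : ∀ q : G ⧸ Subgroup.zpowers x, x • q = q → ∀ i : ZMod p, pw x i • q = q := by
      intro q hq i
      have : ∀ m : ℕ, x ^ m • q = q := fun m => by
        induction m with
        | zero => rw [pow_zero, one_smul]
        | succ m ih => rw [pow_succ, mul_smul, hq, ih]
      exact this _
    have h0 : ∑ q ∈ Finset.univ.filter (fun q : G ⧸ Subgroup.zpowers x => ¬ x • q = q), h q = 0 := by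
      rw [Finset.sum_subtype (Finset.univ.filter (fun q : G ⧸ Subgroup.zpowers x => ¬ x • q = q))
        (p := fun q => ¬ x • q = q) (by simp)]
      have hne : ∀ (i : ZMod p) (q : G ⧸ Subgroup.zpowers x), ¬ x • q = q → ¬ x • (pw x i • q) = pw x i • q := by
        intro i q hq hh
        refine hq ?_
        rw [← mul_smul, ← (hS.commute_pw i (Commute.refl x)).eq, mul_smul] at hh
        exact smul_left_cancel _ hh
      refine sum_eq_zero_of_free
        (fun (i : ZMod p) (q : {q : G ⧸ Subgroup.zpowers x // ¬ x • q = q}) =>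
          (⟨pw x i • q.1, hne i q.1 q.2⟩ : {q : G ⧸ Subgroup.zpowers x // ¬ x • q = q}))
        (fun q => h q.1) (fun q i j hij => ?_) (fun q => ⟨0, Subtype.ext (by simp [hS.pw_zero])⟩)
        (fun i j q => ⟨i + j, Subtype.ext (by simp [hS.pw_add, mul_smul])⟩)
        (fun i q => ⟨-i, Subtype.ext (by simp [← mul_smul, ← hS.pw_add, hS.pw_zero])⟩) (fun q => ?_) _
        (fun q _ i => Finset.mem_univ _)
      · have h' : pw x i • q.1 = pw x j • q.1 := congrArg Subtype.val hij
        by_contra hne'
        have hd0 : (i - j : ZMod p) ≠ 0 := sub_ne_zero.mpr hne'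
        have h1 : pw x (i - j) • q.1 = q.1 := by
          rw [sub_eq_add_neg, add_comm, hS.pw_add, mul_smul, h', ← mul_smul, ← hS.pw_add, neg_add_cancel,
            hS.pw_zero, one_smul]
        refine q.2 ?_
        have h2 : ∀ m : ℕ, pw x (i - j) ^ m • q.1 = q.1 := fun m => by
          induction m with
          | zero => rw [pow_zero, one_smul]
          | succ m ih => rw [pow_succ, mul_smul, h1, ih]
        have h3 := h2 ((i - j)⁻¹).val
        rwa [hS.pw_pow, ZMod.natCast_rightInverse, inv_mul_cancel₀ hd0, hS.pw_one] at h3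
      · obtain ⟨q, hq⟩ := q
        induction q using QuotientGroup.induction_on with
        | H g =>
          show ∑ i : ZMod p, h (((pw x i * g : G) : G ⧸ Subgroup.zpowers x)) = 0
          rw [Finset.sum_congr rfl fun i _ => hmk (pw x i * g)]
          rw [Finset.sum_nbij' (t := Finset.range p) (g := fun i => TF x ^ i * (TF g * EF * TF g⁻¹) * TF x⁻¹ ^ i)
            (fun i : ZMod p => i.val) (fun i : ℕ => (i : ZMod p))
            (fun i _ => Finset.mem_range.mpr (ZMod.val_lt i)) (fun i _ => Finset.mem_univ _)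
            (fun i _ => ZMod.natCast_zmod_val i)
            (fun i hi => ZMod.val_natCast_of_lt (Finset.mem_range.mp hi)) (fun i _ => ?_)]
          · refine sum_conj_pow_eq_zero (F := Res M) p (e := 2 * e - 1) ?_ ?_ ?_
            · simpa using hnilp 1
            · have hxi : x⁻¹ = x ^ (p - 1) := by
                rw [inv_eq_iff_mul_eq_one, ← pow_succ', Nat.sub_add_cancel hS.hp.one_le, hS.pow_eq_one]
              rw [hxi]
              exact hnilp _
            · have := hS.hp.two_le; omega
          · simp only [pw, _root_.mul_inv_rev, map_mul, map_pow, mul_assoc]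
            rw [show ((x ^ i.val)⁻¹ : G) = x⁻¹ ^ i.val from (inv_pow x _).symm, map_pow]
    rw [h0, add_zero, Finset.sum_eq_card_nsmul (b := EF) fun q hq => ?_, Nat.cast_smul_eq_nsmul]
    · congr 1
      rw [← Nat.card_eq_finsetCard]
      refine (Nat.card_eq_of_bijective (fun l : L => (⟨((l : G) : G ⧸ Subgroup.zpowers x),
        Finset.mem_filter.mpr ⟨Finset.mem_univ _, ?_⟩⟩ :
          (Finset.univ.filter fun q : G ⧸ Subgroup.zpowers x => x • q = q : Finset _))) ⟨fun a b hab => ?_, ?_⟩).symm
      · show ((x * (l : G) : G) : G ⧸ Subgroup.zpowers x) = _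
        rw [QuotientGroup.eq]
        have hmem := (Subgroup.mem_normalizer_iff.mp (Subgroup.inv_mem _ (hS.hL l.2)) x⁻¹).mp
          (Subgroup.inv_mem _ (Subgroup.mem_zpowers x))
        rw [inv_inv] at hmem
        rwa [_root_.mul_inv_rev]
      · have h' := QuotientGroup.eq.mp (congrArg Subtype.val hab :)
        obtain ⟨i, hi⟩ := hS.exists_pw h'
        have h2 : pw x (0 : ZMod p) * ((a⁻¹ * b : L) : G) = pw x i * ((1 : L) : G) := by
          rw [hS.pw_zero, one_mul, OneMemClass.coe_one, mul_one, ← hi]; simp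
        exact (inv_mul_eq_one.mp (hS.decomp_unique_L h2).2)
      · rintro ⟨q, hq⟩
        have hq' := (Finset.mem_filter.mp hq).2
        induction q using QuotientGroup.induction_on with
        | H g =>
          have hgN : g ∈ Subgroup.normalizer (Subgroup.zpowers x : Set G) := by
            have h1 : (g⁻¹ * x⁻¹ * g : G) ∈ Subgroup.zpowers x := by
              have : (x * g)⁻¹ * g ∈ Subgroup.zpowers x :=
                QuotientGroup.eq.mp (hq' : ((x * g : G) : G ⧸ Subgroup.zpowers x) = g)
              rwa [_root_.mul_inv_rev] at this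
            rw [← inv_mem_iff, Subgroup.mem_normalizer_iff_map_conj_eq]
            refine Subgroup.eq_of_le_of_card_ge ?_ (le_of_eq (Subgroup.card_map_of_injective
              (MulAut.conj g⁻¹).injective).symm)
            rw [MonoidHom.map_zpowers]
            simp only [MonoidHom.coe_coe, MulAut.conj_apply, inv_inv]
            rw [Subgroup.zpowers_le, ← inv_mem_iff]
            simpa [mul_assoc] using h1
          obtain ⟨v, hv, l, hl, rfl⟩ := hS.hgen g hgN
          refine ⟨⟨l, hl⟩, Subtype.ext (QuotientGroup.eq.mpr ?_)⟩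
          show l⁻¹ * (v * l) ∈ Subgroup.zpowers x
          rw [← mul_assoc]
          simpa using (Subgroup.mem_normalizer_iff.mp (Subgroup.inv_mem _ (hS.hL hl)) v).mp hv
    · have hq' := (Finset.mem_filter.mp hq).2
      haveI := hS.normal_K
      induction q using QuotientGroup.induction_on with
      | H g =>
        obtain ⟨l, hl, hgl⟩ : ∃ l ∈ L, (g : G ⧸ Subgroup.zpowers x) = (l : G ⧸ Subgroup.zpowers x) := by
          have hgN : g ∈ Subgroup.normalizer (Subgroup.zpowers x : Set G) := by
            have h1 : (g⁻¹ * x⁻¹ * g : G) ∈ Subgroup.zpowers x := by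
              have : (x * g)⁻¹ * g ∈ Subgroup.zpowers x :=
                QuotientGroup.eq.mp (hq' : ((x * g : G) : G ⧸ Subgroup.zpowers x) = g)
              rwa [_root_.mul_inv_rev] at this
            rw [← inv_mem_iff, Subgroup.mem_normalizer_iff_map_conj_eq]
            refine Subgroup.eq_of_le_of_card_ge ?_ (le_of_eq (Subgroup.card_map_of_injective
              (MulAut.conj g⁻¹).injective).symm)
            rw [MonoidHom.map_zpowers]
            simp only [MonoidHom.coe_coe, MulAut.conj_apply, inv_inv]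
            rw [Subgroup.zpowers_le, ← inv_mem_iff]
            simpa [mul_assoc] using h1
          obtain ⟨v, hv, l, hl, rfl⟩ := hS.hgen g hgN
          refine ⟨l, hl, (QuotientGroup.eq.mpr ?_).symm⟩
          rw [← mul_assoc]
          simpa using (Subgroup.mem_normalizer_iff.mp (Subgroup.inv_mem _ (hS.hL hl)) v).mp hv
        rw [hgl]
        show resR hM u • ∑ k : K x L, TF (cq (l : G ⧸ Subgroup.zpowers x) k) = EF
        simp only [hwd, EF]
        exact congrArg _ (Fintype.sum_equiv (cj hS ⟨l, hl⟩).toEquiv _ _ fun k => rfl)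
  -- `D` acts by scalars
  let z : G → ℂ := fun g => (Nat.card (K x L) : ℂ)⁻¹ *
    ∑ q : G ⧸ Subgroup.zpowers x, ∑ k : K x L, if cq q k = g then 1 else 0
  have hz : IsClassFunction G z := by
    intro g a
    show (Nat.card (K x L) : ℂ)⁻¹ * _ = (Nat.card (K x L) : ℂ)⁻¹ * _
    congr 1
    refine Fintype.sum_equiv (MulAction.toPerm a⁻¹) _ _ fun q => ?_
    refine Finset.sum_congr rfl fun k _ => if_congr ?_ rfl rfl
    induction q using QuotientGroup.induction_on with
    | H b =>
      rw [MulAction.toPerm_apply, hwd, show a⁻¹ • (b : G ⧸ Subgroup.zpowers x) = ((a⁻¹ * b : G) : G ⧸ _) from rfl, hwd]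
      constructor
      · intro hh
        rw [show a⁻¹ * b * ((k : L) : G) * (a⁻¹ * b)⁻¹ = a⁻¹ * (b * ((k : L) : G) * b⁻¹) * a by group, hh]
        group
      · intro hh
        rw [← hh]
        group
  have hzR : ∀ g, MemLocalRing M (z g) := fun g => memR_mul hM u.2
    (memR_sum hM _ fun q _ => memR_sum hM _ fun k _ => by
      split_ifs
      · exact memR_one hM
      · exact memR_zero hM)
  set E : Matrix (Fin n × Fin n) (Fin n × Fin n) ℂ :=
    (Nat.card (K x L) : ℂ)⁻¹ • ∑ k : K x L, TC (inclK x L k) with hE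
  have hopz : opF TC z = (Nat.card (K x L) : ℂ)⁻¹ • ∑ q, ∑ k : K x L, TC (cq q k) := by
    simp only [opF, z, Finset.mul_sum, mul_ite, mul_one, mul_zero, Finset.sum_smul, ite_smul, zero_smul,
      Finset.smul_sum]
    rw [Finset.sum_comm]
    refine Finset.sum_congr rfl fun q _ => ?_
    rw [Finset.sum_comm]
    exact Finset.sum_congr rfl fun k _ => by rw [Finset.sum_ite_eq Finset.univ, if_pos (Finset.mem_univ _)]
  have hDC : D.map (locRing hM).subtype = opF TC z - (Nat.card L : ℂ) • E := by
    rw [hopz, ← RingHom.mapMatrix_apply]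
    ext a b
    simp [D, ER, u, hE, hTC, Matrix.sum_apply, Finset.mul_sum]
  have hEk : ∀ k : K x L, E * TC (inclK x L k) = E := by
    intro k
    rw [hE, smul_mul_assoc, Finset.sum_mul]
    exact congrArg _ (Fintype.sum_equiv (Equiv.mulRight k) _ _ fun k' => by
      rw [Equiv.coe_mulRight, map_mul, map_mul])
  have hEE : E * E = E := by
    conv_lhs => arg 2; rw [hE]
    rw [mul_smul_comm, Finset.mul_sum, Finset.sum_congr rfl fun k _ => hEk k, Finset.sum_const,
      Finset.card_univ, ← Nat.card_eq_fintype_card, ← Nat.cast_smul_eq_nsmul ℂ, smul_smul,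
      inv_mul_cancel₀ card_ne_zero_C, one_smul]
  let ε : G → ℂ := ofOmega (blockInd {ψ})
  have hε : IsClassFunction G ε := isClassFunction_ofOmega _
  let P := opF TC ε
  have hPE : Commute P E := by
    refine Commute.smul_right (Commute.sum_right _ _ _ fun k _ => ?_) _
    exact (opF_commute TC (fun a b => hε b a) _).symm
  set lam := omega (ψ : G → ℂ) z with hlam
  have hPz : opF TC z * P = lam • P := by
    rw [opF_mul]
    have : (fun g => ∑ a, z a * ε (a⁻¹ * g)) = lam • ε := by
      refine eq_of_omega_eq (z := fun g => ∑ a, z a * ε (a⁻¹ * g)) ?_ ?_ fun φ => ?_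
      · have := isClassFunction_conv hz hε
        simpa [funext (conv_eq_sum z ε)] using this
      · intro a b; simp [hε a b]
      · rw [← funext (conv_eq_sum z ε), omega_conv hz hε, omega_ofOmega]
        rw [omega_eq_sum (φ : G → ℂ) (lam • ε)]
        simp only [Pi.smul_apply, smul_eq_mul, mul_assoc, ← Finset.mul_sum, mul_div_assoc]
        rw [← omega_eq_sum, omega_ofOmega]
        by_cases hφ : φ = ψ
        · subst hφ; rw [blockInd_of_mem (Set.mem_singleton _), hlam]
        · rw [blockInd_of_notMem (fun h => hφ (Set.mem_singleton_iff.mp h)), mul_zero, mul_zero]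
    rw [this]
    simp [P, opF, Finset.smul_sum, smul_smul]
  have htP : ∀ a : G, (P * TC a).trace = κ * κ * ((m ψ : ℂ) * (ψ : G → ℂ) a) := by
    intro a
    simp only [P, opF, Finset.sum_mul, smul_mul_assoc, ← map_mul, Matrix.trace_sum, Matrix.trace_smul, hWtr,
      smul_eq_mul, Finset.mul_sum]
    rw [Finset.sum_comm, Finset.sum_eq_single ψ]
    · rw [Finset.sum_congr rfl (g := fun g => κ * κ * (m ψ : ℂ) * (ε g * (ψ : G → ℂ) (g * a))) fun g _ => by ring,
        ← Finset.mul_sum, sum_translate hS ψ hε, omega_ofOmega, blockInd_of_mem (Set.mem_singleton _)]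
      ring
    · intro φ _ hne
      rw [Finset.sum_congr rfl (g := fun g => κ * κ * (m φ : ℂ) * (ε g * (φ : G → ℂ) (g * a))) fun g _ => by ring,
        ← Finset.mul_sum, sum_translate hS φ hε, omega_ofOmega,
        blockInd_of_notMem (fun h => hne (Set.mem_singleton_iff.mp h))]
      ring
    · exact fun h => absurd (Finset.mem_univ _) h
  have hdec : dec (ψ : G → ℂ) (oneK x L : K x L → ℂ) (0 : ZMod p) =
      (Nat.card (K x L) : ℂ)⁻¹ * ∑ k : K x L, (ψ : G → ℂ) ((k : L) : G) := by
    rw [dec_eq, classInner]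
    refine congrArg _ (Finset.sum_congr rfl fun k _ => ?_)
    show (ψ : G → ℂ) (pw x 0 * _) * conj (1 : ℂ) = _
    rw [hS.pw_zero, one_mul, map_one, mul_one]
  have htY : (P * E).trace = κ * κ * ((m ψ : ℂ) * dec (ψ : G → ℂ) (oneK x L : K x L → ℂ) (0 : ZMod p)) := by
    simp only [hE, mul_smul_comm, Finset.mul_sum, Matrix.trace_smul, Matrix.trace_sum, htP, smul_eq_mul, hdec]
    exact Finset.sum_congr rfl fun k _ => by rw [show inclK x L k = ((k : L) : G) from rfl]; ring
  by_contra hne
  have hκm : κ * κ * (m ψ : ℂ) ≠ 0 := mul_ne_zero (mul_ne_zero hκ0 hκ0) (Nat.cast_ne_zero.mpr hψ)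
  have hY : P * E ≠ 0 := fun h => by
    rw [h, Matrix.trace_zero, ← mul_assoc] at htY
    exact mul_ne_zero hκm hd htY.symm
  have hY' : P - P * E ≠ 0 := fun h => by
    have h1 := congrArg Matrix.trace h
    rw [Matrix.trace_sub, Matrix.trace_zero, htY, ← mul_one P, ← map_one TC, htP] at h1
    refine hne (mul_left_cancel₀ hκm ?_)
    linear_combination -h1
  have hlR : MemLocalRing M lam := memR_omega hM hz hzR ψ
  have hEY : E * (P * E) = P * E := by rw [← mul_assoc, ← hPE.eq, mul_assoc, hEE]
  have hEY' : E * (P - P * E) = 0 := by rw [mul_sub, hEY, hPE.eq, sub_self]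
  have hzY : opF TC z * (P * E) = lam • (P * E) := by rw [← mul_assoc, hPz, smul_mul_assoc]
  have i1 := memI_eigen hM hD hY' hlR (by
    rw [hDC, sub_mul, smul_mul_assoc (Nat.card L : ℂ) E, hEY', smul_zero, sub_zero, mul_sub, hPz, hzY, smul_sub])
  have i2 := memI_eigen hM hD hY (memR_sub hM hlR (memR_natCast hM (Nat.card L))) (by
    rw [hDC, sub_mul, smul_mul_assoc (Nat.card L : ℂ) E, hEY, hzY, sub_smul])
  have i3 := memI_sub hM i1 i2
  rw [sub_sub_cancel] at i3
  exact hS.hcop ((memI_natCast hM).mp i3)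

end Cfsg.Agent.CyclicDefect
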