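/-
Characters of degree at most `(p - 1) / 2` when `p` exactly divides `|G|` (namespace `Cfsg.Agent.CyclicDefect`).

Main results: `multN_cjIrr`, `multN_of_not_lies`, `norm_eq_or_half` (a character of degree at most `(p - 1) / 2` of a
group generated by its elements of order `p` is scalar on `x`, or `2 n + 1 = p` and `2 |L : K| + 1 = p`).
-/
import Cfsg.Agent.Lib.CyclicDefect.Reduction
import Cfsg.Agent.Lib.Codegree.Basic

set_option autoImplicit false
set_option linter.unusedSectionVars false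
set_option linter.style.haveILetI false

open scoped ComplexConjugate

namespace Cfsg.Agent.CyclicDefect

open Cfsg Blocks

variable {G : Type*} [Group G] [Finite G] {p : ℕ} [Fact p.Prime] {x : G} {L : Subgroup G}
  (hS : Setting p x L) {M : Ideal AlgInt} (hM : IsPModular p M)
include hS

theorem charDegree_cjIrr (l : L) (η : IrrCharacter (K x L)) :
    charDegree (cjIrr hS l η : K x L → ℂ) = charDegree (η : K x L → ℂ) :=
  Nat.cast_injective (R := ℂ) (by
    rw [charDegree_cast, charDegree_cast]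
    exact congrArg (η : K x L → ℂ) (map_one (cj hS l)))

theorem multN_cjIrr (χ : IrrCharacter G) (l : L) (η : IrrCharacter (K x L)) (j : ZMod p) :
    multN hS χ (cjIrr hS l η) ((alpha hS l : ZMod p) * j) = multN hS χ η j := by
  have := Fintype.ofFinite (K x L)
  apply Nat.cast_injective (R := ℂ)
  rw [← multN_spec hS, ← multN_spec hS, mult, mult]
  congr 1
  refine Fintype.sum_equiv (Equiv.mulLeft₀ (alpha hS l : ZMod p) (Units.ne_zero _)) _ _ fun i => ?_
  show _ = _ * dec (χ : G → ℂ) (η : K x L → ℂ) ((alpha hS l : ZMod p) * i)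
  show _ = ζ (-((alpha hS l : ZMod p) * i * j)) * _
  rw [dec_cjIrr hS]
  rw [show i * ((alpha hS l : ZMod p) * j) = (alpha hS l : ZMod p) * i * j by ring]

theorem sum_multN_cjIrr (χ : IrrCharacter G) (l : L) (η : IrrCharacter (K x L)) :
    ∑ j : ZMod p, multN hS χ (cjIrr hS l η) j = ∑ j : ZMod p, multN hS χ η j :=
  (Fintype.sum_equiv (Equiv.mulLeft₀ (alpha hS l : ZMod p) (Units.ne_zero _)) _ _
    fun j => (multN_cjIrr hS χ l η j).symm).symm

include hM in
theorem multN_of_not_lies (χ : IrrCharacter G) {φ : IrrCharacter (K x L)}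
    (h : ¬ Lies M x L (blockOf M (χ : G → ℂ)) φ) (j : ZMod p) : multN hS χ φ j = multN hS χ φ 0 := by
  have h0 : bval (χ : G → ℂ) (φ : K x L → ℂ) j = 0 := by
    rw [bval, Finset.sum_eq_zero, mul_zero]
    intro i _
    by_cases hi : i = 0
    · simp [hi]
    · rw [dec_eq_zero hS hM χ h hi, mul_zero]
  rw [bval_eq_sub, multN_spec hS, multN_spec hS, sub_eq_zero] at h0
  exact_mod_cast h0

/-- The arithmetic of the final count. -/
theorem count_false {E e M₀ p : ℕ} (hE : 2 ≤ E) (he : e ≤ E) (h3 : 3 * E + 1 ≤ p)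
    (hM0 : (p - 1) * M₀ + E ≤ E * e) (hN : (E - 1) * (p - E) + 1 ≤ M₀ * (p - E) + E * e) : False := by
  obtain ⟨a, rfl⟩ : ∃ a, p = a + E := ⟨p - E, by omega⟩
  rw [Nat.add_sub_cancel] at hN
  obtain ⟨E', rfl⟩ : ∃ E', E = E' + 1 := ⟨E - 1, by omega⟩
  rw [Nat.add_sub_cancel] at hN
  rw [show a + (E' + 1) - 1 = a + E' by omega] at hM0
  have h1 : (3 * M₀ + 1) * (E' + 1) ≤ (E' + 1) * (E' + 1) := by
    nlinarith [Nat.mul_le_mul_left (E' + 1) he, Nat.mul_le_mul_right M₀ (show 3 * (E' + 1) ≤ a + E' by omega)]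
  have h2 : 3 * M₀ + 1 ≤ E' + 1 := Nat.le_of_mul_le_mul_right h1 (by omega)
  nlinarith [Nat.mul_le_mul_left (E' + 1) he, Nat.mul_le_mul_left E' (show 2 * E' + 3 ≤ a by omega),
    Nat.mul_le_mul_right a (show 3 * M₀ ≤ E' by omega)]

include hM

set_option maxHeartbeats 1600000 in
open scoped Classical in
theorem norm_eq_or_half (hgen : Subgroup.closure {g : G | orderOf g = p} = ⊤) (χ : IrrCharacter G)
    (hn : 2 * charDegree (χ : G → ℂ) + 1 ≤ p) :
    ‖(χ : G → ℂ) x‖ = (charDegree (χ : G → ℂ) : ℝ) ∨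
      (2 * charDegree (χ : G → ℂ) + 1 = p ∧ 2 * (K x L).index + 1 = p) := by
  have hp := hS.hp
  have := Fintype.ofFinite G
  have := Fintype.ofFinite (K x L)
  have := Fintype.ofFinite (IrrCharacter G)
  have := Fintype.ofFinite (IrrCharacter (K x L))
  haveI := hS.normal_K
  set n := charDegree (χ : G → ℂ) with hndef
  have hn0 : 0 < n := Nat.pos_of_ne_zero fun h => irr_one_ne_zero χ (by rw [← charDegree_cast χ, ← hndef, h, Nat.cast_zero])
  have hdeg1 : ∀ φ : IrrCharacter (K x L), 1 ≤ charDegree (φ : K x L → ℂ) := fun φ =>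
    Nat.pos_of_ne_zero fun h => irr_one_ne_zero φ (by rw [← charDegree_cast φ, h, Nat.cast_zero])
  have hnd : ¬ p ∣ n := fun h => by have := Nat.le_of_dvd hn0 h; omega
  set B := blockOf M (χ : G → ℂ) with hBdef
  have hB : IsPBlock M B := ⟨χ, rfl⟩
  obtain ⟨η, hl⟩ := exists_lies_of_not_dvd hS hM χ hnd
  obtain ⟨-, exc, ε, δ, hinj, hexcB, hε, hexc, hcst, -⟩ := block_structure hS hM hB hl
  have hrow_nonlie : ∀ φ : IrrCharacter (K x L), ¬ Lies M x L B φ → ∀ j, multN hS χ φ j = multN hS χ φ 0 :=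
    fun φ h j => multN_of_not_lies hS hM χ h j
  -- a constant row makes `x` act trivially
  have hscalar : (∀ u v : (ZMod p)ˣ, bInt hS χ η (u : ZMod p) = bInt hS χ η (v : ZMod p)) →
      ‖(χ : G → ℂ) x‖ = (n : ℝ) := by
    intro hc
    have hflat : ∀ (φ : IrrCharacter (K x L)) (u v : (ZMod p)ˣ),
        multN hS χ φ (u : ZMod p) = multN hS χ φ (v : ZMod p) := by
      intro φ u v
      by_cases h : Lies M x L B φ
      · obtain ⟨l, rfl⟩ := orbit hS hM hB hl h
        have h1 := multN_cjIrr hS χ l η (((alpha hS l)⁻¹ * u : (ZMod p)ˣ) : ZMod p)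
        have h2 := multN_cjIrr hS χ l η (((alpha hS l)⁻¹ * v : (ZMod p)ˣ) : ZMod p)
        rw [← Units.val_mul, mul_inv_cancel_left] at h1 h2
        have h3 := hc ((alpha hS l)⁻¹ * u) ((alpha hS l)⁻¹ * v)
        rw [bInt_eq_sub, bInt_eq_sub] at h3
        omega
      · rw [hrow_nonlie φ h, hrow_nonlie φ h (v : ZMod p)]
    have hz : ∀ (φ : IrrCharacter (K x L)) (u : (ZMod p)ˣ), multN hS χ φ (u : ZMod p) = 0 := by
      intro φ u
      by_contra hne
      have h1 : ∑ v : (ZMod p)ˣ, multN hS χ φ (v : ZMod p) ≤ n := by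
        refine le_trans ?_ (sum_multN_le hS χ φ)
        rw [← Finset.sum_image (f := fun j => multN hS χ φ j) (fun a _ b _ e => Units.ext e)]
        exact Finset.sum_le_sum_of_subset (Finset.subset_univ _)
      rw [Finset.sum_congr rfl fun v _ => hflat φ v u, Finset.sum_const, Finset.card_univ, ZMod.card_units,
        smul_eq_mul] at h1
      have := Nat.le_mul_of_pos_right (p - 1) (Nat.pos_of_ne_zero hne)
      omega
    have hx1 : (χ : G → ℂ) x = (χ : G → ℂ) 1 := by
      have hi : ∀ i : ZMod p, (χ : G → ℂ) (pw x i * ((1 : K x L) : L)) =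
          ∑ φ : IrrCharacter (K x L), (multN hS χ φ 0 : ℂ) * (φ : K x L → ℂ) 1 := fun i => by
        rw [apply_eq_sum hS (irr_class χ)]
        refine Finset.sum_congr rfl fun φ _ => congrArg (· * _) ?_
        rw [dec_eq_sum_mult, Finset.sum_eq_single 0 (fun j _ hj => ?_) (fun h => absurd (Finset.mem_univ _) h),
          mul_zero, ζ_zero, mul_one, multN_spec hS]
        rw [multN_spec hS, show j = ((Units.mk0 j hj : (ZMod p)ˣ) : ZMod p) from rfl, hz, Nat.cast_zero, zero_mul]
      have h := (hi 1).trans (hi 0).symm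
      simpa [hS.pw_one, hS.pw_zero] using h
    rw [hx1, ← charDegree_cast χ, Complex.norm_natCast]
  by_cases hχe : χ ∈ Set.range exc
  swap
  · refine Or.inl (hscalar fun u v => ?_)
    rw [(hcst χ (mem_blockOf_self hM χ) hχe).2, (hcst χ (mem_blockOf_self hM χ) hχe).2]
  obtain ⟨c, hcχ⟩ := hχe
  set e := Nat.card (U hS (η : K x L → ℂ)) with hedef
  by_cases htop : ∀ c' : (ZMod p)ˣ ⧸ U hS (η : K x L → ℂ), c' = c
  · refine Or.inl (hscalar fun u v => ?_)
    rw [← hcχ, hexc, hexc, if_pos (htop _), if_pos (htop _)]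
  have he2 : 2 * e ≤ p - 1 := by
    rw [← card_units_eq hS (η : K x L → ℂ), mul_comm 2]
    refine Nat.mul_le_mul_left _ ?_
    push Not at htop
    obtain ⟨c', hc'⟩ := htop
    exact Finite.one_lt_card_iff_nontrivial.mpr ⟨⟨c', c, hc'⟩⟩
  have hrow : ∀ u : (ZMod p)ˣ, bInt hS χ η (u : ZMod p) =
      if (u : (ZMod p)ˣ ⧸ U hS (η : K x L → ℂ)) = c then ε else 0 := hcχ ▸ hexc c
  have hsum := sum_bInt_eq hS χ η
  rw [sum_bInt_exc hS hrow] at hsum
  have hSle := sum_multN_le hS χ η
  -- the sign is positive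
  have hε1 : ε = 1 := by
    refine hε.resolve_right fun h => ?_
    have h1 := bInt_eq_sub hS χ η ((c.out : (ZMod p)ˣ) : ZMod p)
    rw [hrow, if_pos (Quotient.out_eq c), h] at h1
    have hz1 : 1 ≤ multN hS χ η 0 := by omega
    rw [h] at hsum
    have := Nat.le_mul_of_pos_right p hz1
    omega
  subst hε1
  have hz0 : multN hS χ η 0 = 0 := by
    by_contra hne
    have := Nat.le_mul_of_pos_right p (Nat.pos_of_ne_zero hne)
    omega
  have hsumη : ∑ j : ZMod p, multN hS χ η j = e := by
    rw [hz0] at hsum; omega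
  have hnl0 : ∀ φ : IrrCharacter (K x L), ¬ Lies M x L B φ → ∀ j, multN hS χ φ j = 0 := by
    intro φ h j
    have h1 := sum_multN_le hS χ φ
    rw [Finset.sum_congr rfl fun j' _ => hrow_nonlie φ h j', Finset.sum_const, Finset.card_univ, ZMod.card,
      smul_eq_mul] at h1
    rw [hrow_nonlie φ h j]
    by_contra hne
    have := Nat.le_mul_of_pos_right p (Nat.pos_of_ne_zero hne)
    omega
  have hη01 : ∀ j, multN hS χ η j ≤ 1 := by
    intro j
    by_cases hj : j = 0
    · rw [hj, hz0]; exact Nat.zero_le _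
    · have h1 := bInt_eq_sub hS χ η ((Units.mk0 j hj : (ZMod p)ˣ) : ZMod p)
      rw [hrow, hz0, Units.val_mk0] at h1
      split_ifs at h1 <;> omega
  set T : Finset (IrrCharacter (K x L)) := Finset.univ.filter (Lies M x L B) with hT
  have hmemT : ∀ φ, φ ∈ T ↔ Lies M x L B φ := fun φ => by simp [hT]
  have hφ01 : ∀ φ j, multN hS χ φ j ≤ 1 := by
    intro φ j
    by_cases h : Lies M x L B φ
    · obtain ⟨l, rfl⟩ := orbit hS hM hB hl h
      have := multN_cjIrr hS χ l η (((alpha hS l)⁻¹ : (ZMod p)ˣ) * j)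
      rw [← mul_assoc, ← Units.val_mul, mul_inv_cancel, Units.val_one, one_mul] at this
      rw [this]; exact hη01 _
    · rw [hnl0 φ h]; exact Nat.zero_le _
  have hφsum : ∀ φ, ∑ j : ZMod p, multN hS χ φ j = if φ ∈ T then e else 0 := by
    intro φ
    split_ifs with h
    · obtain ⟨l, rfl⟩ := orbit hS hM hB hl ((hmemT φ).mp h)
      rw [sum_multN_cjIrr hS, hsumη]
    · exact Finset.sum_eq_zero fun j _ => hnl0 φ (fun h' => h ((hmemT φ).mpr h')) j
  have hdeg : n = charDegree (η : K x L → ℂ) * (T.card * e) := by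
    rw [hndef, charDegree_eq_sum hS χ, Finset.sum_congr rfl fun φ _ => by rw [hφsum φ],
      show (∑ φ : IrrCharacter (K x L), charDegree (φ : K x L → ℂ) * if φ ∈ T then e else 0) =
        ∑ φ ∈ T, charDegree (η : K x L → ℂ) * e from ?_, Finset.sum_const, smul_eq_mul]
    · ring
    · rw [← Finset.sum_filter_add_sum_filter_not Finset.univ (· ∈ T)]
      rw [Finset.sum_eq_zero (s := Finset.univ.filter fun φ => ¬ φ ∈ T) (fun φ hφ => by
        rw [if_neg (Finset.mem_filter.mp hφ).2, mul_zero]), add_zero,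
        show Finset.univ.filter (· ∈ T) = T by ext; simp]
      refine Finset.sum_congr rfl fun φ hφ => ?_
      obtain ⟨l, rfl⟩ := orbit hS hM hB hl ((hmemT φ).mp hφ)
      rw [if_pos hφ, charDegree_cjIrr hS]
  set E := (K x L).index with hEdef
  have hTe : T.card * e = E := by
    rw [hT, card_lies hS hM hB hl, hedef, card_U hS, hEdef, mul_comm]
    exact Subgroup.relIndex_mul_index (CharApp.le_inertia _ (irr_class η))
  have hEn : E ≤ n := by
    rw [hdeg, hTe]; exact Nat.le_mul_of_pos_left _ (hdeg1 η)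
  have hE0 : 0 < E := Nat.pos_of_ne_zero Subgroup.index_ne_zero_of_finite
  by_cases hE1 : E = 1
  · refine Or.inl ?_
    obtain ⟨hT1, he1⟩ := mul_eq_one.mp (hTe.trans hE1)
    obtain ⟨φ0, hφ0⟩ := Finset.card_eq_one.mp hT1
    have hφη : φ0 = η := (Finset.mem_singleton.mp (hφ0 ▸ (hmemT η).mpr hl)).symm
    obtain ⟨j0, hj0⟩ : ∃ j0, multN hS χ η j0 ≠ 0 := by
      by_contra h
      push Not at h
      rw [Finset.sum_eq_zero fun j _ => h j, he1] at hsumη
      omega
    have hdec : dec (χ : G → ℂ) (η : K x L → ℂ) (1 : ZMod p) = ζ j0 := by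
      rw [dec_eq_sum_mult, Finset.sum_eq_single j0 (fun j _ hj => ?_) (fun h => absurd (Finset.mem_univ _) h),
        multN_spec hS, show multN hS χ η j0 = 1 by have := hη01 j0; omega, Nat.cast_one, one_mul, one_mul]
      have h2 : multN hS χ η j0 + multN hS χ η j ≤ 1 := by
        rw [← he1, ← hsumη, ← Finset.sum_pair (f := fun j => multN hS χ η j) hj.symm]
        exact Finset.sum_le_sum_of_subset (Finset.subset_univ _)
      rw [multN_spec hS, show multN hS χ η j = 0 by omega, Nat.cast_zero, zero_mul]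
    have happ := apply_eq_sum hS (irr_class χ) (1 : ZMod p) 1
    rw [Finset.sum_eq_single η (fun φ _ hne => ?_) (fun h => absurd (Finset.mem_univ _) h), hdec,
      hS.pw_one, OneMemClass.coe_one, OneMemClass.coe_one, mul_one, ← charDegree_cast] at happ
    · rw [happ, norm_mul, Complex.norm_natCast, Complex.norm_eq_one_of_pow_eq_one (ζ_pow j0) hp.ne_zero, one_mul,
        hdeg, hTe, hE1, mul_one]
    · rw [dec_eq_sum_mult, Finset.sum_eq_zero, zero_mul]
      intro j _
      rw [multN_spec hS, hnl0 φ (fun h => hne (by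
        rw [← hφη]; exact Finset.mem_singleton.mp (hφ0 ▸ (hmemT φ).mpr h))), Nat.cast_zero, zero_mul]
  have hEdvd : E ∣ p - 1 := by
    rw [hEdef, ← card_U_one hS, ← card_units_eq hS (oneK x L : K x L → ℂ)]
    exact dvd_mul_right _ _
  by_cases hbig : p < 3 * E + 1
  · right
    obtain ⟨t, ht⟩ := hEdvd
    rcases Nat.lt_or_ge t 3 with h | h
    · interval_cases t <;> omega
    · have := Nat.mul_le_mul_left E h
      omega
  exfalso
  push Not at hbig
  -- the decomposition of `χ χ̄`
  have hWchar : IsCharacter G (fun g => (χ : G → ℂ) g * conj ((χ : G → ℂ) g)) :=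
    Char.IsCharacter.mul (Char.IsIrrCharacter.isCharacter χ.2) (Char.IsCharacter.conj (Char.IsIrrCharacter.isCharacter χ.2))
  obtain ⟨m, hm, hminner⟩ := Char.IsCharacter.decompose hWchar
  have hkey : ∀ ψ : IrrCharacter G, m ψ ≠ 0 → dec (ψ : G → ℂ) (oneK x L : K x L → ℂ) (0 : ZMod p) ≠ 0 →
      dec (ψ : G → ℂ) (oneK x L : K x L → ℂ) (0 : ZMod p) = (ψ : G → ℂ) 1 := by
    intro ψ hψ hd
    by_cases h4 : 4 * e ≤ p + 2
    · refine dec_one_eq_degree hS hM χ h4 (fun φ => ⟨Finset.univ.filter fun j => multN hS χ φ j ≠ 0, ?_,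
        fun j hj => by simpa using hj⟩) m hm hψ hd
      have h1 := hφsum φ
      have h2 : (Finset.univ.filter fun j => multN hS χ φ j ≠ 0).card ≤ ∑ j : ZMod p, multN hS χ φ j := by
        rw [Finset.card_filter]
        exact Finset.sum_le_sum fun j _ => by split_ifs <;> omega
      rw [h1] at h2
      split_ifs at h2 <;> omega
    · -- `K` consists of scalars
      obtain ⟨hη1, hT1⟩ : charDegree (η : K x L → ℂ) = 1 ∧ T.card = 1 := by
        refine mul_eq_one.mp ?_
        by_contra hne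
        have : 2 * e ≤ charDegree (η : K x L → ℂ) * T.card * e := by
          refine Nat.mul_le_mul_right _ ?_
          have := Nat.mul_pos (hdeg1 η) (Finset.card_pos.mpr ⟨η, (hmemT η).mpr hl⟩)
          omega
        rw [mul_assoc, ← hdeg] at this
        omega
      obtain ⟨φ0, hφ0⟩ := Finset.card_eq_one.mp hT1
      have hφη : φ0 = η := (Finset.mem_singleton.mp (hφ0 ▸ (hmemT η).mpr hl)).symm
      have hηn : ∀ k : K x L, ‖(η : K x L → ℂ) k‖ ^ 2 = 1 := by
        have h1 := Char.classInner_irr_self (G := K x L) η.2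
        rw [Char.classInner_self_eq, ← Complex.ofReal_one, Complex.ofReal_inj,
          inv_mul_eq_iff_eq_mul₀ (Nat.cast_ne_zero.mpr Nat.card_pos.ne'), mul_one, Nat.card_eq_fintype_card] at h1
        have hle : ∀ k ∈ (Finset.univ : Finset (K x L)), ‖(η : K x L → ℂ) k‖ ^ 2 ≤ 1 := fun k _ => by
          have := Char.IsCharacter.norm_le (Char.IsIrrCharacter.isCharacter η.2) k
          rw [← charDegree_cast, hη1, Nat.cast_one, Complex.one_re] at this
          exact pow_le_one₀ (norm_nonneg _) this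
        exact fun k => (Finset.sum_eq_sum_iff_of_le hle).mp (by rw [h1]; simp) k (Finset.mem_univ k)
      have hχk : ∀ k : K x L, (χ : G → ℂ) ((k : L) : G) = (n : ℂ) * (η : K x L → ℂ) k := by
        intro k
        have happ := apply_eq_sum hS (irr_class χ) (0 : ZMod p) k
        rw [hS.pw_zero, one_mul, Finset.sum_eq_single η (fun φ _ hne => ?_) (fun h => absurd (Finset.mem_univ _) h),
          dec_zero_eq hS, hsumη] at happ
        · rw [happ, hdeg, hη1, hT1, one_mul, one_mul]
        · rw [dec_zero_eq hS, hφsum, if_neg (fun h => hne (by rw [← hφη]; exact Finset.mem_singleton.mp (hφ0 ▸ h))),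
            Nat.cast_zero, zero_mul]
      have hψk : ∀ k : K x L, (ψ : G → ℂ) ((k : L) : G) = (ψ : G → ℂ) 1 := by
        intro k
        have hη1' : (‖(η : K x L → ℂ) k‖ : ℂ) ^ 2 = 1 := by exact_mod_cast hηn k
        have hW : (χ : G → ℂ) ((k : L) : G) * conj ((χ : G → ℂ) ((k : L) : G)) =
            (χ : G → ℂ) 1 * conj ((χ : G → ℂ) 1) := by
          rw [hχk, ← charDegree_cast χ, ← hndef, map_mul, mul_mul_mul_comm,
            Complex.mul_conj' ((η : K x L → ℂ) k), hη1', mul_one]
        have h1 := congrFun hm ((k : L) : G)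
        have h0 := congrFun hm 1
        simp only [Finset.sum_apply, Pi.smul_apply, smul_eq_mul] at h1 h0
        have h3 : ∑ φ : IrrCharacter G, (m φ : ℂ) * (φ : G → ℂ) ((k : L) : G) =
            ∑ φ : IrrCharacter G, (m φ : ℂ) * (φ : G → ℂ) 1 := h1.symm.trans (hW.trans h0)
        have hle : ∀ φ ∈ (Finset.univ : Finset (IrrCharacter G)),
            ((m φ : ℂ) * (φ : G → ℂ) ((k : L) : G)).re ≤ ((m φ : ℂ) * (φ : G → ℂ) 1).re := fun φ _ => by
          rw [← Complex.ofReal_natCast, Complex.re_ofReal_mul, Complex.re_ofReal_mul]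
          exact mul_le_mul_of_nonneg_left ((Complex.re_le_norm _).trans
            (Char.IsCharacter.norm_le (Char.IsIrrCharacter.isCharacter φ.2) _)) (Nat.cast_nonneg _)
        have h4 := (Finset.sum_eq_sum_iff_of_le hle).mp (by
          rw [← Complex.re_sum, ← Complex.re_sum, h3]) ψ (Finset.mem_univ ψ)
        rw [← Complex.ofReal_natCast, Complex.re_ofReal_mul, Complex.re_ofReal_mul] at h4
        have h5 := mul_left_cancel₀ (Nat.cast_ne_zero.mpr hψ) h4
        have h6 := Char.IsCharacter.norm_le (Char.IsIrrCharacter.isCharacter ψ.2) ((k : L) : G)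
        rw [← charDegree_cast ψ] at h5 h6 ⊢
        rw [Complex.natCast_re] at h5 h6
        refine Complex.ext h5 ?_
        rw [Complex.natCast_im]
        have h7 := Complex.sq_norm ((ψ : G → ℂ) ((k : L) : G))
        rw [Complex.normSq_apply, h5] at h7
        nlinarith [norm_nonneg ((ψ : G → ℂ) ((k : L) : G))]
      rw [dec_eq, classInner]
      simp only [hS.pw_zero, one_mul, hψk, oneK, Pi.one_apply, map_one, mul_one, Finset.sum_const,
        Finset.card_univ, nsmul_eq_mul, ← Nat.card_eq_fintype_card]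
      rw [inv_mul_cancel_left₀ card_ne_zero_C]
  let N : IrrCharacter G → ZMod p → ℕ := fun ψ j => multN hS ψ (oneK x L) j
  -- the fixed part of `χ χ̄` on `K`
  have hdecW : ∀ i : ZMod p, dec (x := x) (fun g => (χ : G → ℂ) g * conj ((χ : G → ℂ) g)) (oneK x L : K x L → ℂ) i =
      ∑ φ : IrrCharacter (K x L), dec (χ : G → ℂ) (φ : K x L → ℂ) i * conj (dec (χ : G → ℂ) (φ : K x L → ℂ) i) := by
    intro i
    have hf : (fun k : K x L => (χ : G → ℂ) (pw x i * ((k : L) : G))) =
        ∑ φ : IrrCharacter (K x L), dec (χ : G → ℂ) (φ : K x L → ℂ) i • (φ : K x L → ℂ) := by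
      funext k
      rw [Finset.sum_apply, apply_eq_sum hS (irr_class χ)]
      rfl
    have h1 : dec (x := x) (fun g => (χ : G → ℂ) g * conj ((χ : G → ℂ) g)) (oneK x L : K x L → ℂ) i =
        classInner (fun k : K x L => (χ : G → ℂ) (pw x i * ((k : L) : G)))
          (fun k : K x L => (χ : G → ℂ) (pw x i * ((k : L) : G))) := by
      simp [dec_eq, classInner, oneK]
    rw [h1, hf, Char.classInner_sum_left]
    refine Finset.sum_congr rfl fun φ _ => ?_
    rw [Char.classInner_smul_left, Char.classInner_sum_right, Finset.sum_eq_single φ (fun φ' _ hne => ?_)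
      (fun h => absurd (Finset.mem_univ _) h), Char.classInner_smul_right, Char.classInner_irr_self φ.2, mul_one]
    rw [Char.classInner_smul_right, Char.classInner_irr_of_ne φ.2 φ'.2 (fun h => hne (Subtype.ext h.symm)), mul_zero]
  have hmult : ∀ j, mult (fun g => (χ : G → ℂ) g * conj ((χ : G → ℂ) g)) (oneK x L : K x L → ℂ) j =
      ((∑ ψ : IrrCharacter G, m ψ * N ψ j : ℕ) : ℂ) := by
    intro j
    rw [hm, mult_sum hS, Nat.cast_sum]
    exact Finset.sum_congr rfl fun ψ _ => by rw [multN_spec hS, Nat.cast_mul]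
  have hN0 : ∑ ψ : IrrCharacter G, m ψ * N ψ 0 = E := by
    apply Nat.cast_injective (R := ℂ)
    rw [← hmult, mult]
    simp only [mul_zero, neg_zero, ζ_zero, one_mul, hdecW]
    rw [Finset.sum_comm, Finset.mul_sum, ← hTe, ← smul_eq_mul, ← Finset.sum_const, ← Finset.sum_filter_add_sum_filter_not Finset.univ (· ∈ T),
      show Finset.univ.filter (· ∈ T) = T by ext; simp, Nat.cast_sum]
    rw [Finset.sum_eq_zero (s := Finset.univ.filter fun φ => ¬ φ ∈ T) (fun φ hφ => ?_), add_zero]
    · refine Finset.sum_congr rfl fun φ hφ => ?_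
      have h1 : ∑ j : ZMod p, multN hS χ φ j = e := by rw [hφsum, if_pos hφ]
      rw [← sum_mult_sq, ← h1, Nat.cast_sum]
      refine Finset.sum_congr rfl fun j _ => ?_
      rw [multN_spec hS, Complex.conj_natCast]
      have := hφ01 φ j
      interval_cases multN hS χ φ j <;> simp
    · rw [← sum_mult_sq, Finset.sum_eq_zero]
      intro j _
      rw [multN_spec hS, hnl0 φ (fun h => (Finset.mem_filter.mp hφ).2 ((hmemT φ).mpr h)), Nat.cast_zero, zero_mul]
  have hNtot : ∑ ψ : IrrCharacter G, m ψ * ∑ j : ZMod p, N ψ j = E * e := by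
    apply Nat.cast_injective (R := ℂ)
    simp only [Finset.mul_sum]
    rw [Finset.sum_comm, Nat.cast_sum, Finset.sum_congr rfl fun j _ => (hmult j).symm]
    have h1 := dec_eq_sum_mult (x := x) (p := p) (fun g => (χ : G → ℂ) g * conj ((χ : G → ℂ) g)) (oneK x L : K x L → ℂ) 0
    simp only [zero_mul, ζ_zero, mul_one] at h1
    rw [← h1, hdecW, ← hTe, mul_assoc, ← smul_eq_mul T.card, ← Finset.sum_const, Nat.cast_sum,
      ← Finset.sum_filter_add_sum_filter_not Finset.univ (· ∈ T), show Finset.univ.filter (· ∈ T) = T by ext; simp,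
      Finset.sum_eq_zero (s := Finset.univ.filter fun φ => ¬ φ ∈ T) (fun φ hφ => ?_), add_zero]
    · refine Finset.sum_congr rfl fun φ hφ => ?_
      rw [dec_zero_eq hS, hφsum, if_pos hφ, Complex.conj_natCast, Nat.cast_mul]
    · rw [dec_zero_eq hS, hφsum, if_neg (Finset.mem_filter.mp hφ).2, Nat.cast_zero, zero_mul]
  obtain ⟨r, -, hr⟩ := Finset.exists_min_image (Finset.univ : Finset (ZMod p)ˣ)
    (fun u => ∑ ψ : IrrCharacter G, m ψ * N ψ (u : ZMod p)) ⟨1, Finset.mem_univ _⟩
  set M₀ := ∑ ψ : IrrCharacter G, m ψ * N ψ (r : ZMod p) with hM₀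
  have hM₀le : (p - 1) * M₀ + E ≤ E * e := by
    conv_rhs => rw [← hNtot]
    simp only [Finset.mul_sum]
    rw [Finset.sum_comm, ← Finset.add_sum_erase _ _ (Finset.mem_univ (0 : ZMod p)), hN0, add_comm]
    refine Nat.add_le_add le_rfl ?_
    rw [show p - 1 = (Finset.univ.erase (0 : ZMod p)).card by simp [ZMod.card], ← smul_eq_mul, ← Finset.sum_const]
    exact Finset.sum_le_sum fun j hj => hr (Units.mk0 j (Finset.ne_of_mem_erase hj)) (Finset.mem_univ _)
  -- the trivial character
  obtain ⟨hP, h1P⟩ := principal_isPBlock (G := G) hM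
  let ψ1 : IrrCharacter G := ⟨1, Char.isIrrCharacter_one⟩
  have hN1 : ∀ j, N ψ1 j = if j = 0 then 1 else 0 := by
    intro j
    apply Nat.cast_injective (R := ℂ)
    rw [← multN_spec hS, mult]
    have hd : ∀ i : ZMod p, dec (x := x) (ψ1 : G → ℂ) (oneK x L : K x L → ℂ) i = 1 := fun i => by
      rw [dec_eq, classInner]
      simp [ψ1, oneK, ← Nat.card_eq_fintype_card]
    simp only [hd, mul_one]
    rw [Finset.sum_congr rfl (g := fun i => ζ (i * -j)) fun i _ => by rw [mul_neg], sum_ζ_mul]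
    simp only [neg_eq_zero]
    split_ifs <;> simp [hp.ne_zero]
  have hm1 : m ψ1 = 1 := by
    apply Nat.cast_injective (R := ℂ)
    rw [← hminner, Nat.cast_one, ← Char.classInner_irr_self χ.2]
    simp [classInner, ψ1]
  have hψ1 : m ψ1 * ∑ j : ZMod p, N ψ1 j = 1 := by simp [hm1, hN1]
  -- every other constituent
  have hstep : ∀ ψ : IrrCharacter G, ψ ≠ ψ1 → m ψ ≠ 0 →
      N ψ 0 * (p - E) ≤ N ψ (r : ZMod p) * (p - E) + ∑ j : ZMod p, N ψ j := by
    intro ψ hψne hψm
    rcases le_or_gt (N ψ 0) (N ψ (r : ZMod p)) with hle | hlt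
    · exact (Nat.mul_le_mul_right _ hle).trans (Nat.le_add_right _ _)
    have hb : bInt hS ψ (oneK x L) (r : ZMod p) < 0 := by
      rw [bInt_eq_sub]
      exact sub_neg.mpr (by exact_mod_cast hlt)
    have hψB : ψ ∈ principalBlock M G := mem_of_bInt_ne_zero hS hM hP (lies_principal hS hM) (ne_of_lt hb)
    obtain ⟨-, exc', ε', δ', -, -, hε', hexc', hcst', -⟩ := block_structure hS hM hP (lies_principal hS hM)
    have hs := sum_bInt_eq hS ψ (oneK x L)
    have hb' := bInt_eq_sub hS ψ (oneK x L) (r : ZMod p)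
    by_cases hψe : ψ ∈ Set.range exc'
    · obtain ⟨c', hc'⟩ := hψe
      rw [← hc', hexc'] at hb
      rw [← hc', hexc'] at hb'
      rw [← hc', sum_bInt_exc hS (hexc' c'), card_U_one hS, ← hEdef] at hs
      split_ifs at hb hb' with h
      · have hε'' : ε' = -1 := hε'.resolve_left fun h' => by omega
        rw [hε''] at hs hb'
        rw [← hc']
        have hd1 : N (exc' c') 0 = N (exc' c') (r : ZMod p) + 1 := by
          show multN hS _ _ 0 = multN hS _ _ _ + 1
          omega
        rw [hd1, add_mul, one_mul]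
        refine Nat.add_le_add le_rfl ?_
        have h1 : 1 ≤ multN hS (exc' c') (oneK x L) 0 := by
          have := hd1; show 1 ≤ N (exc' c') 0; omega
        have := Nat.le_mul_of_pos_right p h1
        show p - E ≤ ∑ j : ZMod p, multN hS (exc' c') (oneK x L) j
        omega
      · omega
    · obtain ⟨hδ, hrow'⟩ := hcst' ψ hψB hψe
      rw [hrow'] at hb hb'
      rw [sum_bInt_const hS hrow'] at hs
      have hδ' : δ' ψ = -1 := hδ.resolve_left fun h' => by omega
      rw [hδ'] at hs hb'
      have hd1 : N ψ 0 = N ψ (r : ZMod p) + 1 := by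
        show multN hS _ _ 0 = multN hS _ _ _ + 1
        omega
      rw [hd1, add_mul, one_mul]
      refine Nat.add_le_add le_rfl ?_
      rcases Nat.lt_or_ge (multN hS ψ (oneK x L) 0) 2 with hz | hz
      swap
      · have := Nat.mul_le_mul_left p hz
        show p - E ≤ ∑ j : ZMod p, multN hS ψ (oneK x L) j
        omega
      -- such a character is linear and trivial
      exfalso
      have hz1 : multN hS ψ (oneK x L) 0 = 1 := by
        have := hd1
        show N ψ 0 = 1
        have h' : N ψ 0 = multN hS ψ (oneK x L) 0 := rfl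
        omega
      have hjz : ∀ j : ZMod p, j ≠ 0 → multN hS ψ (oneK x L) j = 0 := by
        intro j hj
        have h1 := bInt_eq_sub hS ψ (oneK x L) ((Units.mk0 j hj : (ZMod p)ˣ) : ZMod p)
        rw [hrow', hδ', hz1, Units.val_mk0] at h1
        omega
      have htot : ∑ j : ZMod p, multN hS ψ (oneK x L) j = 1 := by
        rw [Finset.sum_eq_single 0 (fun j _ hj => hjz j hj) (fun h => absurd (Finset.mem_univ _) h), hz1]
      have hk := hkey ψ hψm (by rw [dec_zero_eq hS, htot]; simp)
      rw [dec_zero_eq hS, htot, ← charDegree_cast, Nat.cast_inj] at hk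
      have hoth : ∀ φ : IrrCharacter (K x L), φ ≠ oneK x L → ∀ j, multN hS ψ φ j = 0 := by
        intro φ hne j
        have h1 := charDegree_eq_sum hS ψ
        rw [← Finset.add_sum_erase _ _ (Finset.mem_univ (oneK x L)), htot, ← hk,
          show charDegree ((oneK x L : IrrCharacter (K x L)) : K x L → ℂ) = 1 from
            Nat.cast_injective (R := ℂ) (by rw [charDegree_cast, Nat.cast_one]; rfl)] at h1
        have h2 := Finset.sum_eq_zero_iff.mp (by omega : ∑ φ ∈ Finset.univ.erase (oneK x L),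
          charDegree ((φ : IrrCharacter (K x L)) : K x L → ℂ) * ∑ j : ZMod p, multN hS ψ φ j = 0) φ
            (Finset.mem_erase.mpr ⟨hne, Finset.mem_univ _⟩)
        exact (Finset.sum_eq_zero_iff.mp ((Nat.mul_eq_zero.mp h2).resolve_left (show charDegree (φ : K x L → ℂ) ≠ 0 by have := hdeg1 φ; omega))) j (Finset.mem_univ _)
      have hpw : ∀ i : ZMod p, pw x i ∈ Codegree.kerSub ψ := by
        intro i
        rw [Codegree.mem_kerSub, ← charDegree_cast, ← hk, Nat.cast_one]
        have happ := apply_eq_sum hS (irr_class ψ) i 1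
        rw [OneMemClass.coe_one, OneMemClass.coe_one, mul_one] at happ
        rw [happ, Finset.sum_eq_single (oneK x L) (fun φ _ hne => ?_) (fun h => absurd (Finset.mem_univ _) h),
          dec_eq_sum_mult, Finset.sum_eq_single 0 (fun j _ hj => ?_) (fun h => absurd (Finset.mem_univ _) h),
          multN_spec hS, hz1, mul_zero, ζ_zero, Nat.cast_one]
        · simp [oneK]
        · rw [multN_spec hS, hjz j hj, Nat.cast_zero, zero_mul]
        · rw [dec_eq_sum_mult, Finset.sum_eq_zero (fun j _ => by rw [multN_spec hS, hoth φ hne, Nat.cast_zero, zero_mul]),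
            zero_mul]
      have hker : Codegree.kerSub ψ = ⊤ := by
        rw [eq_top_iff, ← hgen, Subgroup.closure_le]
        intro g hg
        haveI : Fact p.Prime := ⟨hp⟩
        let P : Sylow p G := Sylow.ofCard (Subgroup.zpowers x) (by rw [hS.card_zpowers_eq, hS.factorization_card, pow_one])
        obtain ⟨Q, hQ⟩ := (IsPGroup.of_card (n := 1) (show Nat.card (Subgroup.zpowers g) = p ^ 1 by
          rw [Nat.card_zpowers, pow_one]; exact hg)).exists_le_sylow
        obtain ⟨a, ha⟩ := MulAction.exists_smul_eq G P Q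
        have hgQ : g ∈ (Q : Subgroup G) := hQ (Subgroup.mem_zpowers g)
        rw [← ha, Sylow.coe_subgroup_smul] at hgQ
        obtain ⟨y, hy, rfl⟩ := hgQ
        obtain ⟨i, rfl⟩ := hS.exists_pw hy
        exact (Codegree.kerSub_normal ψ).conj_mem _ (hpw i) _
      refine hψne (Subtype.ext (funext fun g => ?_))
      have hg : g ∈ Codegree.kerSub ψ := hker ▸ Subgroup.mem_top g
      rw [Codegree.mem_kerSub.mp hg, ← charDegree_cast, ← hk, Nat.cast_one]
      rfl
  refine count_false hS (E := E) (e := e) (M₀ := M₀) (p := p) (by omega) ?_ hbig hM₀le ?_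
  · rw [← hTe]; exact Nat.le_mul_of_pos_left _ (Finset.card_pos.mpr ⟨η, (hmemT η).mpr hl⟩)
  have hsumstep := Finset.sum_le_sum (s := Finset.univ.erase ψ1)
    (f := fun ψ => m ψ * (N ψ 0 * (p - E))) (g := fun ψ => m ψ * (N ψ (r : ZMod p) * (p - E) + ∑ j : ZMod p, N ψ j))
    (fun ψ hψ => by
      rcases Nat.eq_zero_or_pos (m ψ) with h | h
      · simp [h]
      · exact Nat.mul_le_mul_left _ (hstep ψ (Finset.ne_of_mem_erase hψ) h.ne'))
  have e0 : ∑ ψ ∈ Finset.univ.erase ψ1, m ψ * (N ψ 0 * (p - E)) = (E - 1) * (p - E) := by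
    simp only [← mul_assoc, ← Finset.sum_mul]
    congr 1
    have := Finset.add_sum_erase Finset.univ (fun ψ => m ψ * N ψ 0) (Finset.mem_univ ψ1)
    rw [hN0, hm1, hN1, if_pos rfl] at this
    omega
  have e1 : ∑ ψ ∈ Finset.univ.erase ψ1, m ψ * N ψ (r : ZMod p) = M₀ := by
    have := Finset.add_sum_erase Finset.univ (fun ψ => m ψ * N ψ (r : ZMod p)) (Finset.mem_univ ψ1)
    rw [hN1, if_neg r.ne_zero, mul_zero, zero_add] at this
    exact this
  have e2 : ∑ ψ ∈ Finset.univ.erase ψ1, m ψ * ∑ j : ZMod p, N ψ j + 1 = E * e := by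
    have := Finset.add_sum_erase Finset.univ (fun ψ => m ψ * ∑ j : ZMod p, N ψ j) (Finset.mem_univ ψ1)
    rw [hNtot, hψ1] at this
    omega
  rw [e0] at hsumstep
  simp only [mul_add, ← mul_assoc, Finset.sum_add_distrib, ← Finset.sum_mul, e1] at hsumstep
  omega

end Cfsg.Agent.CyclicDefect
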