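/-
Counting characters of degree prime to `p` when `p` exactly divides `|G|` (namespace
`Cfsg.Agent.CyclicDefect`).

Main results: `not_dvd_of_lies` (every member of a block over a character of `K` has degree prime to
`p`), `card_not_dvd` (the count of these characters in terms of `L`, `K` and the groups `U`).
-/
import Cfsg.Agent.Lib.CyclicDefect.Apply

set_option autoImplicit false
set_option linter.unusedSectionVars false
set_option linter.style.haveILetI false

namespace Cfsg.Agent.CyclicDefect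

open Cfsg Blocks

variable {G : Type*} [Group G] [Finite G] {p : ℕ} [Fact p.Prime] {M : Ideal AlgInt}
variable {x : G} {L : Subgroup G} (hS : Setting p x L) (hM : IsPModular p M)
include hS hM

theorem not_dvd_of_lies {B : Set (IrrCharacter G)} (hB : IsPBlock M B) {η : IrrCharacter (K x L)}
    (hl : Lies M x L B η) {χ : IrrCharacter G} (hχ : χ ∈ B) : ¬ p ∣ charDegree (χ : G → ℂ) := by
  classical
  have hp := hS.hp
  have := Fintype.ofFinite (IrrCharacter G)
  have := Fintype.ofFinite (IrrCharacter (K x L))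
  haveI := hS.normal_K
  intro hd
  obtain ⟨-, exc, ε, δ, -, -, hε, hexc, hcst, -⟩ := block_structure hS hM hB hl
  have hsum : ¬ (p : ℤ) ∣ ∑ u : (ZMod p)ˣ, bInt hS χ η (u : ZMod p) := by
    have h0 : ∀ (n : ℕ) (s : ℤ), 0 < n → n < p → (s = 1 ∨ s = -1) → ¬ (p : ℤ) ∣ s * n := by
      intro n s hn hnp hs h
      have : (p : ℤ) ∣ n := by
        rcases hs with rfl | rfl
        · rwa [one_mul] at h
        · rwa [neg_one_mul, dvd_neg] at h
      exact absurd (Nat.le_of_dvd hn (Int.natCast_dvd_natCast.mp this)) hnp.not_ge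
    have hp1 : 0 < p - 1 := Nat.sub_pos_of_lt hp.one_lt
    by_cases h : χ ∈ Set.range exc
    · obtain ⟨c, rfl⟩ := h
      rw [sum_bInt_exc hS (hexc c)]
      refine h0 _ _ Nat.card_pos ?_ hε
      refine lt_of_le_of_lt (Nat.le_of_dvd hp1 ?_) (Nat.sub_lt hp.pos one_pos)
      rw [← card_units_eq hS (η : K x L → ℂ)]
      exact dvd_mul_right _ _
    · obtain ⟨hδ, hrow⟩ := hcst χ hχ h
      rw [sum_bInt_const hS hrow]
      exact h0 _ _ hp1 (Nat.sub_lt hp.pos one_pos) hδ
  have hη : ¬ p ∣ charDegree (η : K x L → ℂ) := fun h =>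
    hS.not_dvd_card_K (h.trans (charDegree_dvd_card η))
  have hT : ¬ p ∣ (Finset.univ.filter (Lies M x L B)).card := by
    rw [card_lies hS hM hB hl]
    exact fun h => hS.hcop (h.trans (Subgroup.index_dvd_card _))
  have h := memI_apply_one_sub hS hM hB hl hχ
  rw [← charDegree_cast χ, ← charDegree_cast η] at h
  have h' := intModEq_of_memI hM (a := ((charDegree (χ : G → ℂ) : ℕ) : ℤ))
    (b := ((Finset.univ.filter (Lies M x L B)).card : ℤ) *
      ((charDegree (η : K x L → ℂ) : ℤ) * ∑ u : (ZMod p)ˣ, bInt hS χ η (u : ZMod p)))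
    (by push_cast at h ⊢; exact h)
  have hp' := Nat.prime_iff_prime_int.mp hp
  have hz : (p : ℤ) ∣ ((Finset.univ.filter (Lies M x L B)).card : ℤ) *
      ((charDegree (η : K x L → ℂ) : ℤ) * ∑ u : (ZMod p)ˣ, bInt hS χ η (u : ZMod p)) :=
    Int.modEq_zero_iff_dvd.mp (h'.symm.trans (Int.modEq_zero_iff_dvd.mpr (Int.natCast_dvd_natCast.mpr hd)))
  rcases hp'.dvd_or_dvd hz with h1 | h1
  · exact hT (Int.natCast_dvd_natCast.mp h1)
  · rcases hp'.dvd_or_dvd h1 with h2 | h2
    · exact hη (Int.natCast_dvd_natCast.mp h2)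
    · exact hsum h2

open scoped Classical in
theorem card_not_dvd [Fintype (IrrCharacter (K x L))] :
    Nat.card {χ : IrrCharacter G // ¬ p ∣ charDegree (χ : G → ℂ)} * Nat.card L =
      Nat.card (K x L) * ∑ η : IrrCharacter (K x L),
        (Nat.card (U hS (η : K x L → ℂ)) ^ 2 + (p - 1)) := by
  haveI := hS.normal_K
  have := Fintype.ofFinite (IrrCharacter G)
  let T : IrrCharacter (K x L) → ℕ := fun η => Nat.card (CharApp.inertia (K x L) (η : K x L → ℂ))
  have hT : ∀ η : IrrCharacter (K x L), T η = Nat.card (U hS (η : K x L → ℂ)) * Nat.card (K x L) := by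
    intro η
    rw [card_U hS, mul_comm, ← Subgroup.relIndex_bot_left, Subgroup.relIndex_mul_relIndex _ _ _ bot_le
      (CharApp.le_inertia _ (irr_class η)), Subgroup.relIndex_bot_left]
  -- the sum over one block
  have hblock : ∀ η : IrrCharacter (K x L), Nat.card (K x L) *
      (Nat.card (U hS (η : K x L → ℂ)) ^ 2 + (p - 1)) =
      ∑ χ : IrrCharacter G, if Lies M x L (blockOf M (χ : G → ℂ)) η then T η else 0 := by
    intro η
    obtain ⟨B, hB, hl, -⟩ := exists_lies hS hM η
    rw [← Finset.sum_filter, Finset.sum_const, smul_eq_mul]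
    have hset : (Finset.univ.filter fun χ : IrrCharacter G => Lies M x L (blockOf M (χ : G → ℂ)) η).card
        = Nat.card B := by
      rw [← Nat.card_eq_finsetCard]
      refine Nat.card_congr (Equiv.subtypeEquivRight fun χ => ?_)
      rw [Finset.mem_filter]
      refine ⟨fun h => ?_, fun h => ⟨Finset.mem_univ _, by rwa [← isPBlock_eq_blockOf hM hB h]⟩⟩
      rw [lies_unique hS hM hB ⟨χ, rfl⟩ hl h.2]
      exact mem_blockOf_self hM χ
    rw [hset, (block_structure hS hM hB hl).1, hT, ← card_units_eq hS (η : K x L → ℂ)]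
    ring
  rw [Finset.mul_sum, Finset.sum_congr rfl (fun η _ => hblock η), Finset.sum_comm,
    Finset.sum_congr rfl (g := fun χ : IrrCharacter G =>
      if ¬ p ∣ charDegree (χ : G → ℂ) then Nat.card L else 0) (fun χ _ => ?_),
    ← Finset.sum_filter, Finset.sum_const, smul_eq_mul, Nat.card_eq_fintype_card, Fintype.card_subtype]
  rw [← Finset.sum_filter]
  have hB : IsPBlock M (blockOf M (χ : G → ℂ)) := ⟨χ, rfl⟩
  by_cases hd : p ∣ charDegree (χ : G → ℂ)
  · rw [if_neg (not_not.mpr hd), Finset.sum_eq_zero]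
    intro η hη
    exact absurd hd (not_dvd_of_lies hS hM hB (Finset.mem_filter.mp hη).2 (mem_blockOf_self hM χ))
  · rw [if_pos hd]
    obtain ⟨η₀, hη₀⟩ := exists_lies_of_not_dvd hS hM χ hd
    have hc : ∀ η ∈ Finset.univ.filter (fun η => Lies M x L (blockOf M (χ : G → ℂ)) η),
        T η * (Finset.univ.filter (Lies M x L (blockOf M (χ : G → ℂ)))).card = Nat.card L := by
      intro η hη
      rw [card_lies hS hM hB (Finset.mem_filter.mp hη).2, Subgroup.card_mul_index]
    have h1 := Finset.sum_congr rfl hc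
    rw [← Finset.sum_mul, Finset.sum_const, smul_eq_mul, mul_comm _ (Nat.card L)] at h1
    exact Nat.eq_of_mul_eq_mul_right (Finset.card_pos.mpr ⟨η₀, Finset.mem_filter.mpr ⟨Finset.mem_univ _, hη₀⟩⟩) h1

end Cfsg.Agent.CyclicDefect
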